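import Mathlib.FieldTheory.IsAlgClosed.Basic
import Mathlib.Algebra.Module.Submodule.Union
import Mathlib.LinearAlgebra.Basis.VectorSpace
import Mathlib.LinearAlgebra.Dual.Lemmas
import Mathlib.RingTheory.Finiteness.Prod
import Mathlib.LinearAlgebra.Dimension.Constructions
import Mathlib.LinearAlgebra.FiniteDimensional.Lemmas
import Mathlib.LinearAlgebra.FreeModule.Finite.Matrix
import Mathlib.RingTheory.SimpleModule.Basic
import Mathlib.RepresentationTheory.AlgebraRepresentation.Basic
import Mathlib.FieldTheory.Minpoly.Field

/-!
# Minimal polynomials, centralisers and density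

If the minimal polynomial of `x` on a `d`-dimensional space over an algebraically closed field has
degree `r`, then its centraliser has dimension at least `d` and at least `d² / r`.
-/

set_option autoImplicit false

namespace CfsgLib.HallHigman

open Polynomial Module

universe u v

variable {K : Type u} [Field K] {V : Type v} [AddCommGroup V] [Module K V]

/-- The endomorphisms commuting with `x`. -/
def commSubmodule (x : Module.End K V) : Submodule K (Module.End K V) :=
  LinearMap.ker (LinearMap.mulLeft K x - LinearMap.mulRight K x)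

theorem mem_commSubmodule {x f : Module.End K V} : f ∈ commSubmodule x ↔ x * f = f * x := by
  simp [commSubmodule, sub_eq_zero]

theorem commSubmodule_apply {x f : Module.End K V} (h : f ∈ commSubmodule x) (w : V) :
    x (f w) = f (x w) :=
  congrArg (fun g : Module.End K V => g w) (mem_commSubmodule.1 h)

/-- The degree of the minimal polynomial. -/
noncomputable def deg (x : Module.End K V) : ℕ := (minpoly K x).natDegree

theorem deg_le_of_aeval_eq_zero {x : Module.End K V} {g : K[X]} (hg : g ≠ 0) (h : aeval x g = 0) :
    deg x ≤ g.natDegree :=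
  natDegree_le_of_dvd (minpoly.dvd K x h) hg

theorem aeval_eq_modByMonic [FiniteDimensional K V] (x : Module.End K V) (g : K[X]) :
    aeval x g = aeval x (g %ₘ minpoly K x) :=
  (aeval_modByMonic_eq_self_of_root (minpoly.aeval K x)).symm

theorem natDegree_modByMonic_lt_deg [FiniteDimensional K V] [Nontrivial V] (x : Module.End K V)
    (g : K[X]) : (g %ₘ minpoly K x).natDegree < deg x :=
  natDegree_modByMonic_lt g (minpoly.monic (Algebra.IsIntegral.isIntegral x))
    fun h => minpoly.not_isUnit K x (h ▸ isUnit_one)

theorem aeval_apply_eq_sum [FiniteDimensional K V] [Nontrivial V] (x : Module.End K V) (g : K[X])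
    (u : V) : aeval x g u = ∑ i : Fin (deg x), (g %ₘ minpoly K x).coeff i • (x ^ (i : ℕ)) u := by
  rw [aeval_eq_modByMonic x g, aeval_eq_sum_range' (natDegree_modByMonic_lt_deg x g),
    Finset.sum_range (fun i => (g %ₘ minpoly K x).coeff i • x ^ i), LinearMap.sum_apply]
  rfl

/-- A vector whose annihilator is generated by the minimal polynomial. -/
theorem exists_cyclic [IsAlgClosed K] [FiniteDimensional K V] [Nontrivial V] (x : Module.End K V) :
    ∃ v : V, ∀ g : K[X], aeval x g v = 0 → minpoly K x ∣ g := by
  classical
  set m := minpoly K x with hm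
  have hint : IsIntegral K x := Algebra.IsIntegral.isIntegral x
  have hm0 : m ≠ 0 := minpoly.ne_zero hint
  have hp : ∀ a : {a : K // a ∈ m.roots.toFinset},
      LinearMap.ker (aeval x (m /ₘ (X - C a.1))) ≠ ⊤ := by
    intro a h
    have h0 : aeval x (m /ₘ (X - C a.1)) = 0 := LinearMap.ker_eq_top.1 h
    have hroot : m.IsRoot a.1 := by
      have := a.2; rw [Multiset.mem_toFinset, mem_roots hm0] at this; exact this
    have hmul := mul_divByMonic_eq_iff_isRoot.2 hroot
    have hne : m /ₘ (X - C a.1) ≠ 0 := fun e => hm0 (by rw [← hmul, e, mul_zero])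
    have h1 := natDegree_le_of_dvd (minpoly.dvd K x h0) hne
    rw [← hm, natDegree_divByMonic m (monic_X_sub_C a.1), natDegree_X_sub_C] at h1
    have h2 : 0 < m.natDegree := minpoly.natDegree_pos hint
    omega
  obtain ⟨v, hv⟩ : ∃ v : V, ∀ a : {a : K // a ∈ m.roots.toFinset},
      v ∉ LinearMap.ker (aeval x (m /ₘ (X - C a.1))) :=
    Submodule.exists_forall_notMem_of_forall_ne_top _ hp
  refine ⟨v, fun g hg => ?_⟩
  set h := EuclideanDomain.gcd g m with hh
  have hhv : aeval x h v = 0 := by
    rw [hh, EuclideanDomain.gcd_eq_gcd_ab, map_add, mul_comm g, map_mul, map_mul, LinearMap.add_apply,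
      Module.End.mul_apply, hg, map_zero, hm, minpoly.aeval, zero_mul, LinearMap.zero_apply, add_zero]
  obtain ⟨k, hk⟩ := EuclideanDomain.gcd_dvd_right g m
  rw [← hh] at hk
  by_cases hku : IsUnit k
  · calc m ∣ h := by rw [hk]; exact (hku.mul_right_dvd).2 dvd_rfl
      _ ∣ g := EuclideanDomain.gcd_dvd_left g m
  exfalso
  have hk0 : k ≠ 0 := fun e => hm0 (by rw [hk, e, mul_zero])
  obtain ⟨a, ha⟩ := IsAlgClosed.exists_root k (fun hd => hku (isUnit_iff_degree_eq_zero.2 hd))
  obtain ⟨k', hk'⟩ := dvd_iff_isRoot.2 ha
  have hroot : m.IsRoot a := by rw [hk, IsRoot, eval_mul, ha.eq_zero, mul_zero]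
  refine hv ⟨a, by rw [Multiset.mem_toFinset, mem_roots hm0]; exact hroot⟩ ?_
  rw [LinearMap.mem_ker]
  have hdiv : m /ₘ (X - C a) = k' * h := by
    refine mul_left_cancel₀ (X_sub_C_ne_zero a) ?_
    rw [mul_divByMonic_eq_iff_isRoot.2 hroot, hk, hk']
    ring
  rw [hdiv, map_mul, Module.End.mul_apply, hhv, map_zero]

theorem linearIndependent_pow_apply [FiniteDimensional K V] [Nontrivial V] (x : Module.End K V)
    {v : V} (hv : ∀ g : K[X], aeval x g v = 0 → minpoly K x ∣ g) :
    LinearIndependent K fun i : Fin (deg x) => (x ^ (i : ℕ)) v := by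
  rw [Fintype.linearIndependent_iff]
  intro c hc i
  have hg : aeval x (∑ i : Fin (deg x), monomial (i : ℕ) (c i)) v = 0 := by
    simpa [aeval_monomial, LinearMap.sum_apply] using hc
  have h0 : (∑ i : Fin (deg x), monomial (i : ℕ) (c i)) = 0 := by
    refine eq_zero_of_dvd_of_degree_lt (hv _ hg) ?_
    refine (degree_sum_le _ _).trans_lt ((Finset.sup_lt_iff ?_).2 fun j _ => ?_)
    · rw [bot_lt_iff_ne_bot]
      exact degree_ne_bot.2 (minpoly.ne_zero (Algebra.IsIntegral.isIntegral x))
    · refine (degree_monomial_le _ _).trans_lt ?_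
      rw [degree_eq_natDegree (minpoly.ne_zero (Algebra.IsIntegral.isIntegral x))]
      exact_mod_cast j.2
  have := congrArg (fun g : K[X] => g.coeff (i : ℕ)) h0
  simpa [coeff_monomial, Fin.val_inj] using this

theorem deg_le_finrank [FiniteDimensional K V] [IsAlgClosed K] [Nontrivial V]
    (x : Module.End K V) : deg x ≤ finrank K V := by
  obtain ⟨v, hv⟩ := exists_cyclic x
  simpa using (linearIndependent_pow_apply x hv).fintype_card_le_finrank

/-- Independent iterates bound the degree from below. -/
theorem le_deg_of_forall_eq_zero [FiniteDimensional K V] (x : Module.End K V) {w : V} {N : ℕ}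
    (h : ∀ g : K[X], g.natDegree < N → aeval x g w = 0 → g = 0) : N ≤ deg x := by
  by_contra hlt
  push Not at hlt
  exact minpoly.ne_zero (Algebra.IsIntegral.isIntegral x)
    (h (minpoly K x) hlt (by rw [minpoly.aeval, LinearMap.zero_apply]))

/-- The centraliser of an endomorphism with minimal polynomial of degree `r` has dimension at
least `d` and at least `d² / r`. -/
theorem sq_finrank_le [IsAlgClosed K] : ∀ (d : ℕ) {V : Type v} [AddCommGroup V] [Module K V]
    [FiniteDimensional K V], finrank K V = d → ∀ x : Module.End K V,
      d ≤ finrank K (commSubmodule x) ∧ d * d ≤ deg x * finrank K (commSubmodule x) := by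
  intro d
  classical
  induction d using Nat.strong_induction_on with
  | _ d ih =>
    intro V _ _ _ hd x
    rcases eq_or_ne d 0 with rfl | hd0
    · simp
    have : Nontrivial V := Module.nontrivial_of_finrank_pos (R := K) (by omega)
    obtain ⟨v, hv⟩ := exists_cyclic x
    set r := deg x with hr
    have hr0 : 0 < r := minpoly.natDegree_pos (Algebra.IsIntegral.isIntegral x)
    have hli := linearIndependent_pow_apply x hv
    -- coordinates on the cyclic subspace
    let L : V → (Fin r → K) →ₗ[K] V := fun w => Fintype.linearCombination K fun i : Fin r => (x ^ (i : ℕ)) w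
    have hLapp : ∀ w c, L w c = ∑ i, c i • (x ^ (i : ℕ)) w := fun w c =>
      Fintype.linearCombination_apply K _ _
    have hLinj : Function.Injective (L v) := by
      rw [← LinearMap.ker_eq_bot, LinearMap.ker_eq_bot']
      intro c hc
      funext i
      exact Fintype.linearIndependent_iff.1 hli c (by rw [← hLapp]; exact hc) i
    obtain ⟨M, hM⟩ := (L v).exists_leftInverse_of_injective (LinearMap.ker_eq_bot.2 hLinj)
    set last : Fin r := ⟨r - 1, by omega⟩ with hlast
    let φ : Module.Dual K V := (LinearMap.proj last).comp M
    have hφ : ∀ i : Fin r, φ ((x ^ (i : ℕ)) v) = if i = last then 1 else 0 := by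
      intro i
      have h1 : L v (Pi.single i 1) = (x ^ (i : ℕ)) v := by simp [L]
      rw [← h1]
      show M (L v (Pi.single i 1)) last = _
      rw [show M (L v (Pi.single i 1)) = Pi.single i 1 from LinearMap.congr_fun hM _, Pi.single_apply]
      simp [eq_comm]
    let E : Module.Dual K V → V →ₗ[K] (Fin r → K) := fun ψ =>
      LinearMap.pi fun i : Fin r => ψ.comp (x ^ (i : ℕ))
    have hEpoly : ∀ (ψ : Module.Dual K V) (u w : V), E φ u = E ψ w →
        ∀ g : K[X], φ (aeval x g u) = ψ (aeval x g w) := by
      intro ψ u w h g
      rw [aeval_apply_eq_sum x g u, aeval_apply_eq_sum x g w, map_sum, map_sum]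
      refine Finset.sum_congr rfl fun i _ => ?_
      rw [map_smul, map_smul]
      exact congrArg _ (congr_fun h i)
    have hELinj : Function.Injective ((E φ).comp (L v)) := by
      rw [← LinearMap.ker_eq_bot, LinearMap.ker_eq_bot']
      intro c hc
      by_contra hne
      obtain ⟨i₀, hi₀⟩ := Function.ne_iff.1 hne
      obtain ⟨j, hj, hjmax⟩ := (Finset.univ.filter fun i : Fin r => c i ≠ 0).exists_maximal
        ⟨i₀, by simpa using hi₀⟩
      rw [Finset.mem_filter] at hj
      have h1 := congr_fun hc ⟨r - 1 - j, by omega⟩
      simp only [LinearMap.comp_apply, LinearMap.pi_apply, E, hLapp, map_sum, map_smul, Pi.zero_apply,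
        ← Module.End.mul_apply, ← pow_add] at h1
      rw [Finset.sum_eq_single j, show r - 1 - (j : ℕ) + j = ((last : Fin r) : ℕ) by
        simp [hlast]; omega, hφ, if_pos rfl, smul_eq_mul, mul_one] at h1
      · exact hj.2 h1
      · intro i _ hij
        rcases lt_or_gt_of_ne hij with h | h
        · have hlt : r - 1 - (j : ℕ) + i < r := by omega
          rw [show (x ^ (r - 1 - (j : ℕ) + i)) v = (x ^ ((⟨_, hlt⟩ : Fin r) : ℕ)) v from rfl, hφ,
            if_neg fun e => ?_, smul_zero]
          have := congrArg Fin.val e
          simp [hlast] at this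
          omega
        · rw [show c i = 0 by
            by_contra hci
            exact absurd (hjmax (y := i) (by simp [hci]) h.le) (not_le.2 h), zero_smul]
      · simp
    let e : (Fin r → K) ≃ₗ[K] (Fin r → K) := LinearEquiv.ofInjectiveEndo _ hELinj
    have he : ∀ c, E φ (L v (e.symm c)) = c := fun c => e.apply_symm_apply c
    -- maps into the cyclic subspace
    let F : Module.Dual K V → Module.End K V := fun ψ =>
      (L v).comp (e.symm.toLinearMap.comp (E ψ))
    have hF : ∀ ψ w, E φ (F ψ w) = E ψ w := fun ψ w => he _
    have hEinj : ∀ c c', E φ (L v c) = E φ (L v c') → L v c = L v c' := fun c c' h => by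
      rw [hELinj h]
    have hSx : ∀ c, ∃ c', x (L v c) = L v c' := fun c => by
      let g : K[X] := ∑ i : Fin r, monomial (i : ℕ) (c i)
      refine ⟨fun i => ((X * g) %ₘ minpoly K x).coeff i, ?_⟩
      rw [hLapp, hLapp, ← aeval_apply_eq_sum x (X * g) v, map_mul, aeval_X, Module.End.mul_apply]
      congr 1
      simp [g, aeval_monomial, LinearMap.sum_apply]
    have hFcomm : ∀ ψ, F ψ ∈ commSubmodule x := by
      intro ψ
      rw [mem_commSubmodule]
      refine LinearMap.ext fun w => ?_
      obtain ⟨c', hc'⟩ := hSx (e.symm (E ψ w))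
      show x (F ψ w) = F ψ (x w)
      rw [show x (F ψ w) = L v c' from hc']
      refine hEinj _ _ ?_
      rw [← hc']
      show E φ (x (F ψ w)) = E φ (F ψ (x w))
      rw [hF]
      funext i
      simpa [E, map_mul, aeval_X, map_pow, ← Module.End.mul_apply, pow_succ, mul_assoc] using
        hEpoly ψ (F ψ w) w (hF ψ w) (X ^ ((i : ℕ) + 1))
    set W := LinearMap.ker (E φ) with hW
    have hWx : ∀ w ∈ W, x w ∈ W := by
      intro w hw
      rw [hW, LinearMap.mem_ker] at hw ⊢
      funext i
      have := hEpoly 0 w 0 (by simp [hw, E]) (X ^ ((i : ℕ) + 1))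
      simpa [E, map_mul, aeval_X, map_pow, ← Module.End.mul_apply, pow_succ, mul_assoc] using this
    -- maps from the cyclic subspace to the complement
    let G : W → Module.End K V := fun w => (L (w : V)).comp (e.symm.toLinearMap.comp (E φ))
    have hG : ∀ w : W, G w ∈ commSubmodule x := by
      intro w
      rw [mem_commSubmodule]
      refine LinearMap.ext fun u => ?_
      set c := e.symm (E φ u)
      set c' := e.symm (E φ (x u))
      show x (L (w : V) c) = L (w : V) c'
      let g : (Fin r → K) → K[X] := fun c => ∑ i : Fin r, monomial (i : ℕ) (c i)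
      have hgL : ∀ z c, L z c = aeval x (g c) z := fun z c => by
        simp [g, hLapp, aeval_monomial, LinearMap.sum_apply]
      have h1 : x (L v c) = L v c' := commSubmodule_apply (hFcomm φ) u
      rw [hgL, hgL, ← Module.End.mul_apply, show x * aeval x (g c) = aeval x (X * g c) by
        rw [map_mul, aeval_X]]
      have h2 : aeval x (X * g c - g c') v = 0 := by
        rw [map_sub, map_mul, aeval_X, LinearMap.sub_apply, Module.End.mul_apply, ← hgL, ← hgL, h1,
          sub_self]
      have h3 : aeval x (X * g c - g c') = 0 := by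
        obtain ⟨k, hk⟩ := hv _ h2
        rw [hk, map_mul, minpoly.aeval, zero_mul]
      rw [map_sub, sub_eq_zero] at h3
      rw [h3]
    have hEW : ∀ c, L v c ∈ W → L v c = 0 := fun c hc => by
      have : c = 0 := hELinj (by rw [hW, LinearMap.mem_ker] at hc; simp [hc])
      simp [this]
    have hπmem : ∀ u, u - F φ u ∈ W := fun u => by
      rw [hW, LinearMap.mem_ker, map_sub, hF, sub_self]
    let π : V →ₗ[K] W := (LinearMap.id - F φ).codRestrict W hπmem
    let xW : Module.End K W := x.restrict hWx
    have hT : ∀ T ∈ commSubmodule xW, W.subtype.comp (T.comp π) ∈ commSubmodule x := by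
      intro T hT
      rw [mem_commSubmodule]
      refine LinearMap.ext fun u => ?_
      show x (T (π u) : V) = (T (π (x u)) : V)
      have h1 : π (x u) = xW (π u) := Subtype.ext (by
        show x u - F φ (x u) = x (u - F φ u)
        rw [map_sub, commSubmodule_apply (hFcomm φ) u])
      rw [h1, ← commSubmodule_apply hT (π u)]
      rfl
    have hLw : ∀ (w : V) c, (∀ i : ℕ, (x ^ i) w ∈ W) → L w c ∈ W := fun w c h => by
      rw [hLapp]; exact W.sum_mem fun i _ => W.smul_mem _ (h i)
    have hWpow : ∀ w ∈ W, ∀ i : ℕ, (x ^ i) w ∈ W := by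
      intro w hw i
      induction i with
      | zero => exact hw
      | succ i ihi => rw [pow_succ', Module.End.mul_apply]; exact hWx _ ihi
    have hFadd : ∀ ψ ψ' u, F (ψ + ψ') u = F ψ u + F ψ' u := fun ψ ψ' u => by
      show L v (e.symm (E (ψ + ψ') u)) = _
      rw [show E (ψ + ψ') u = E ψ u + E ψ' u from rfl, map_add, map_add]
      rfl
    have hFsmul : ∀ (a : K) ψ u, F (a • ψ) u = a • F ψ u := fun a ψ u => by
      show L v (e.symm (E (a • ψ) u)) = _
      rw [show E (a • ψ) u = a • E ψ u from rfl, map_smul, map_smul]
      rfl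
    have hGadd : ∀ w w' u, G (w + w') u = G w u + G w' u := fun w w' u => by
      show L ((w + w' : W) : V) _ = L (w : V) _ + L (w' : V) _
      simp only [hLapp, Submodule.coe_add, map_add, smul_add, Finset.sum_add_distrib]
    have hGsmul : ∀ (a : K) w u, G (a • w) u = a • G w u := fun a w u => by
      show L ((a • w : W) : V) _ = a • L (w : V) _
      simp only [hLapp, SetLike.val_smul, map_smul, Finset.smul_sum, smul_comm a]
    let Θ : Module.Dual K V × W × commSubmodule xW →ₗ[K] commSubmodule x :=
      { toFun := fun t => ⟨F t.1 + G t.2.1 + W.subtype.comp ((t.2.2 : Module.End K W).comp π),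
          (commSubmodule x).add_mem ((commSubmodule x).add_mem (hFcomm _) (hG _)) (hT _ t.2.2.2)⟩
        map_add' := fun s t => Subtype.ext (LinearMap.ext fun u => by
          simp only [Prod.fst_add, Prod.snd_add, LinearMap.add_apply, Submodule.coe_add, hFadd, hGadd,
            LinearMap.comp_apply, Submodule.coe_subtype]
          abel)
        map_smul' := fun a t => Subtype.ext (LinearMap.ext fun u => by
          simp only [Prod.smul_fst, Prod.smul_snd, LinearMap.add_apply, SetLike.val_smul, hFsmul,
            hGsmul, LinearMap.comp_apply, Submodule.coe_subtype, LinearMap.smul_apply,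
            RingHom.id_apply, smul_add]) }
    have hΘ : Function.Injective Θ := by
      rw [injective_iff_map_eq_zero]
      rintro ⟨ψ, w, T⟩ h
      have hu : ∀ u, F ψ u + G w u + (T.1 (π u) : V) = 0 := fun u =>
        congrArg (fun f : commSubmodule x => (f : Module.End K V) u) h
      have hψ : ∀ u, F ψ u = 0 := fun u => hEW (e.symm (E ψ u)) (by
        have h2 : F ψ u = -(G w u + (T.1 (π u) : V)) := eq_neg_of_add_eq_zero_left (by rw [← add_assoc]; exact hu u)
        rw [show L v (e.symm (E ψ u)) = F ψ u from rfl, h2]
        exact W.neg_mem (W.add_mem (hLw _ _ (hWpow w w.2)) (T.1 (π u)).2))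
      have hψ0 : ψ = 0 := LinearMap.ext fun u => by
        have := congr_fun (hF ψ u) ⟨0, hr0⟩
        simpa [hψ u, E] using this.symm
      have hπv : π v = 0 := by
        refine Subtype.ext ?_
        show v - F φ v = 0
        have h1 : L v (Pi.single ⟨0, hr0⟩ 1) = v := by simp [L]
        rw [sub_eq_zero]
        conv_lhs => rw [← h1]
        refine hEinj _ _ ?_
        show E φ (L v _) = E φ (F φ v)
        rw [hF, h1]
      have hw : w = 0 := by
        refine Subtype.ext ?_
        have h2 := hu v
        rw [hψ v, hπv, map_zero, ZeroMemClass.coe_zero, zero_add, add_zero] at h2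
        have h1 : L v (Pi.single ⟨0, hr0⟩ 1) = v := by simp [L]
        have h3 : e.symm (E φ v) = Pi.single ⟨0, hr0⟩ 1 := by
          rw [LinearEquiv.symm_apply_eq]
          show E φ v = E φ (L v _)
          rw [h1]
        rw [show G w v = L (w : V) (e.symm (E φ v)) from rfl, h3] at h2
        simpa [L] using h2
      have hT0 : T = 0 := by
        refine Subtype.ext (LinearMap.ext fun y => ?_)
        have h2 := hu y
        have hπy : π (y : V) = y := Subtype.ext (by
          show (y : V) - F φ (y : V) = y
          have hy : E φ (y : V) = 0 := LinearMap.mem_ker.1 y.2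
          simp [F, hy])
        rw [hψ, hw, hπy] at h2
        exact Subtype.ext (by simpa [G, L] using h2)
      simp [hψ0, hw, hT0]
    have hfdW : FiniteDimensional K (Module.End K W) := Module.Finite.linearMap K K W W
    have hfd : FiniteDimensional K (commSubmodule xW) := FiniteDimensional.finiteDimensional_submodule _
    have hfree : Module.Free K (commSubmodule xW) :=
      @Module.Free.of_divisionRing K (commSubmodule xW) _ (commSubmodule xW).addCommGroup _
    have hnoeth : IsNoetherian K (Module.End K W) := isNoetherian_of_isNoetherianRing_of_finite K _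
    have hfin : Module.Finite K (commSubmodule xW) :=
      Module.Finite.of_injective (commSubmodule xW).subtype Subtype.val_injective
    have hfinP : Module.Finite K (W × commSubmodule xW) := inferInstance
    have hdim := LinearMap.finrank_le_finrank_of_injective hΘ
    rw [finrank_prod, finrank_prod, Subspace.dual_finrank_eq] at hdim
    have hWd : finrank K W + r = d := by
      have h1 := (E φ).finrank_range_add_finrank_ker
      have h2 : LinearMap.range (E φ) = ⊤ :=
        LinearMap.range_eq_top.2 fun c => ⟨_, he c⟩
      rw [h2, finrank_top, Module.finrank_fin_fun, ← hW] at h1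
      omega
    obtain ⟨-, hW2⟩ := ih (finrank K W) (by omega) rfl xW
    refine ⟨by omega, ?_⟩
    have hdeg : deg xW ≤ r := by
      refine deg_le_of_aeval_eq_zero (minpoly.ne_zero (Algebra.IsIntegral.isIntegral x)) ?_
      refine LinearMap.ext fun y => Subtype.ext ?_
      have key : ∀ g : K[X], ((aeval xW g y : W) : V) = aeval x g (y : V) := by
        intro g
        induction g using Polynomial.induction_on' with
        | add a b ha hb => simp [ha, hb]
        | monomial n a =>
          simp only [aeval_monomial, Module.End.mul_apply, Module.algebraMap_end_apply,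
            SetLike.val_smul]
          congr 1
          induction n with
          | zero => rfl
          | succ n ihn =>
            rw [pow_succ', pow_succ', Module.End.mul_apply, Module.End.mul_apply, ← ihn]
            rfl
      rw [key, minpoly.aeval]; rfl
    calc d * d = r * r + 2 * (r * finrank K W) + finrank K W * finrank K W := by rw [← hWd]; ring
      _ ≤ r * r + 2 * (r * finrank K W) + r * finrank K (commSubmodule xW) := by
          have := hW2.trans (Nat.mul_le_mul_right _ hdeg); omega
      _ = r * (r + 2 * finrank K W + finrank K (commSubmodule xW)) := by ring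
      _ ≤ r * finrank K (commSubmodule x) := Nat.mul_le_mul_left _ (by omega)

/-- Burnside density: a subalgebra with no invariant subspaces is the whole endomorphism ring. -/
theorem eq_top_of_no_invariant [IsAlgClosed K] [FiniteDimensional K V] [Nontrivial V]
    (A : Subalgebra K (Module.End K V))
    (h : ∀ W : Submodule K V, (∀ a ∈ A, ∀ w ∈ W, a w ∈ W) → W = ⊥ ∨ W = ⊤) : A = ⊤ := by
  have hsimple : IsSimpleModule A V := by
    refine (isSimpleModule_iff _ _).2 { eq_bot_or_eq_top := fun W => ?_ }
    rcases h (W.restrictScalars K) fun a ha w hw => W.smul_mem (⟨a, ha⟩ : A) hw with h' | h'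
    · left; exact (Submodule.restrictScalars_eq_bot_iff K A V).1 h'
    · right; exact (Submodule.restrictScalars_eq_top_iff K A V).1 h'
  refine eq_top_iff.2 fun f _ => ?_
  have hsc : ∀ g : Module.End A V, ∃ c : K, ∀ w, g w = c • w := fun g => by
    obtain ⟨c, hc⟩ := (IsSimpleModule.algebraMap_end_bijective_of_isAlgClosed K (A := A) (V := V)).2 g
    exact ⟨c, fun w => by rw [← hc]; rfl⟩
  let f' : Module.End (Module.End A V) V :=
    { toFun := f
      map_add' := map_add f
      map_smul' := fun g w => by
        obtain ⟨c, hc⟩ := hsc g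
        show f (g w) = g (f w)
        rw [hc, hc, map_smul] }
  obtain ⟨s, hs⟩ := Module.Finite.fg_top (R := K) (M := V)
  obtain ⟨a, ha⟩ := jacobson_density f' s
  have hfa : f = (a : Module.End K V) := LinearMap.ext_on hs fun w hw => ha w hw
  exact hfa ▸ a.2

end CfsgLib.HallHigman
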