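import Cfsg.Agent.Lib.HallHigman.LowDegree

/-!
# Powers of low degree commute on a normalised `2`-subgroup
-/

set_option autoImplicit false

namespace CfsgLib.HallHigman

open Module Subgroup
open scoped commutatorElement

universe u v w

variable {p : ℕ} [hp : Fact p.Prime] {K : Type u} [Field K] [IsAlgClosed K] [CharP K p]
  {G : Type w} [Group G] [Finite G] {V : Type v} [AddCommGroup V] [Module K V]
  [FiniteDimensional K V] {ρ : Representation K G V} {T P : Subgroup G} {y y' : G}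

omit [CharP K p] in
/-- The scalar-centre case: the commutator centralises `T`. -/
theorem commute_of_scalar [Nontrivial V] (hp2 : p ≠ 2) (hinj : Function.Injective ρ)
    (hT : IsPGroup 2 T) (hP : IsPGroup p P) (hPT : P ≤ normalizer (T : Set G))
    (hy : Low p ρ P y) (hy' : Low p ρ P y')
    (hfix : ∀ y, Low p ρ P y → ∀ a ∈ T, (∀ t ∈ T, t * a = a * t) → y * a = a * y)
    (hcl : ∀ a ∈ T, ∀ b ∈ T, ∀ t ∈ T, t * ⁅a, b⁆ = ⁅a, b⁆ * t)
    (hsc : ∀ z ∈ T, (∀ t ∈ T, t * z = z * t) → ∃ c : K, ρ z = c • (1 : Module.End K V))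
    (hmin : ∀ R ≤ T, P ≤ normalizer (R : Set G) → R ≠ T → ∀ g ∈ R, ⁅y, y'⁆ * g = g * ⁅y, y'⁆)
    (hnab : ∃ a ∈ T, ∃ b ∈ T, a * b ≠ b * a) :
    ∀ g ∈ T, ⁅y, y'⁆ * g = g * ⁅y, y'⁆ := by
  classical
  have := Fact.mk Nat.prime_two
  set c := ⁅y, y'⁆ with hc
  have hcP : c ∈ P := mul_mem (mul_mem (mul_mem hy.mem hy'.mem) (inv_mem hy.mem)) (inv_mem hy'.mem)
  -- `N = Z(T) Φ(T)`
  set N₀ : Subgroup T := center T ⊔ frattini T with hN₀
  set N : Subgroup G := N₀.map T.subtype with hN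
  have hN₀ne : N₀ ≠ ⊤ := fun e => by
    obtain ⟨a, ha, b, hb, hab⟩ := hnab
    have := frattini_nongenerating e
    exact hab (congrArg Subtype.val (Subgroup.mem_center_iff.1
      (this ▸ Subgroup.mem_top _ : (⟨b, hb⟩ : T) ∈ center T) ⟨a, ha⟩))
  have hNT : N ≤ T := map_subtype_le _
  have hNmem : ∀ a : T, ((a : G) ∈ N ↔ a ∈ N₀) := fun a =>
    ⟨fun ⟨b, hb, e⟩ => Subtype.ext e ▸ hb, fun h => ⟨a, h, rfl⟩⟩
  have hNne : N ≠ T := fun e => hN₀ne (eq_top_iff.2 fun a _ => (hNmem a).1 (e.symm ▸ a.2))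
  set S : Subgroup G := T ⊔ P with hS
  have hSN : S ≤ normalizer (N : Set G) := by
    refine (sup_le le_normalizer hPT).trans fun s hs => mem_normalizer_of_conj_mem ?_
    rintro _ ⟨a, ha, rfl⟩
    have hch : N₀.Characteristic := inferInstance
    refine ⟨(T.normalizerMonoidHom ⟨s, hs⟩) a, ?_, rfl⟩
    have := Subgroup.characteristic_iff_map_le.1 hch (T.normalizerMonoidHom ⟨s, hs⟩)
      (Subgroup.mem_map_of_mem _ ha)
    exact this
  let N' : Subgroup S := N.subgroupOf S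
  have hN'n : N'.Normal := normal_subgroupOf_of_le_normalizer hSN
  let π := QuotientGroup.mk' N'
  let TS : Subgroup S := T.subgroupOf S
  have hTSn : TS.Normal := normal_subgroupOf_of_le_normalizer (sup_le le_normalizer hPT)
  set Tb : Subgroup (S ⧸ N') := TS.map π
  have hTS : T ≤ S := le_sup_left
  have hPS : P ≤ S := le_sup_right
  have hEl : PLength.ElemNormal 2 Tb :=
    { normal := hTSn.map π (QuotientGroup.mk'_surjective N')
      comm := by
        rintro _ ⟨a, ha, rfl⟩ _ ⟨b, hb, rfl⟩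
        rw [← map_mul, ← map_mul, QuotientGroup.mk'_apply, QuotientGroup.mk'_apply, QuotientGroup.eq]
        show ((a * b)⁻¹ * (b * a) : S).1 ∈ N
        have := (hNmem _).2 ((le_sup_right : frattini T ≤ N₀)
          (StructC.comm_mem_frattini hT (⟨(b : S).1, hb⟩ : T) (⟨(a : S).1, ha⟩ : T)))
        push_cast at this ⊢
        simpa [mul_assoc] using this
      exponent := by
        rintro _ ⟨a, ha, rfl⟩
        rw [← map_pow, QuotientGroup.mk'_apply, QuotientGroup.eq_one_iff]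
        exact (hNmem _).2 ((le_sup_right : frattini T ≤ N₀)
          (StructC.pow_mem_frattini hT (⟨(a : S).1, ha⟩ : T))) }
  have : Fintype (S ⧸ N') := Fintype.ofFinite _
  set τ : Representation (ZMod 2) P hEl.Space := hEl.conjRep.comp (π.comp (inclusion hPS)) with hτ
  have hsmall : ∀ {w : G} (hw : Low p ρ P w), Small p τ ⟨w, hw.mem⟩ := by
    intro w hw
    obtain ⟨z, hz, m, rfl, h1, h2⟩ := hw
    refine ⟨⟨z, hz⟩, m, Subtype.ext (by simp), ?_⟩
    have hpos : 0 < 2 * (p ^ m * (p - 1)) := by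
      have := hp.out.one_lt
      have := Nat.one_le_pow m p hp.out.pos
      exact Nat.mul_pos two_pos (Nat.mul_pos (by omega) (by omega))
    have hmem : ∀ a : T, z ^ p ^ m * (a : G) * (z ^ p ^ m)⁻¹ * (a : G)⁻¹ ∈ T := fun a =>
      mul_mem (conj_mem_of_mem_normalizer (hPT (pow_mem hz _)) a.2) (inv_mem a.2)
    have hTb : ∀ t : T, π ⟨t, hTS t.2⟩ ∈ Tb := fun t => Subgroup.mem_map_of_mem π t.2
    have hval : ∀ a : T, (τ ⟨z ^ p ^ m, pow_mem hz _⟩ - 1) (hEl.vec ⟨π ⟨a, hTS a.2⟩, hTb a⟩)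
        = hEl.vec ⟨π ⟨_, hTS (hmem a)⟩, hTb ⟨_, hmem a⟩⟩ := by
      intro a
      rw [hτ, MonoidHom.comp_apply, hEl.conjRep_sub_one_vec]
      rfl
    have hsurj : ∀ v : hEl.Space, ∃ a : T, hEl.vec ⟨π ⟨a, hTS a.2⟩, ⟨_, a.2, rfl⟩⟩ = v := by
      intro v
      obtain ⟨⟨_, b, hb, rfl⟩, rfl⟩ := hEl.vec.surjective v
      exact ⟨⟨b.1, hb⟩, rfl⟩
    by_cases hmov : ∃ t ∈ T, z ^ p ^ m * t ≠ t * z ^ p ^ m
    swap
    · push Not at hmov
      have h0 : τ ⟨z ^ p ^ m, pow_mem hz _⟩ - 1 = 0 := LinearMap.ext fun v => by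
        obtain ⟨a, rfl⟩ := hsurj v
        rw [hval, LinearMap.zero_apply, hEl.vec_eq_zero]
        refine Subtype.ext ?_
        show π _ = 1
        rw [← map_one π]
        exact congrArg π (Subtype.ext (by
          show z ^ p ^ m * (a : G) * (z ^ p ^ m)⁻¹ * (a : G)⁻¹ = 1
          rw [hmov a a.2, mul_inv_cancel_right, mul_inv_cancel]))
      rw [h0, LinearMap.range_zero, finrank_bot]
      exact hpos
    obtain ⟨R, b, hRT, hRy, hb, hPb, hcard, hRc⟩ := exists_critical_bound hp2 hinj hT hPT hcl hsc hz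
      h1 h2 (fun a ha hat => hfix _ ⟨z, hz, m, rfl, h1, h2⟩ a ha hat) hmov
    let f : R → hEl.Space := fun u => hEl.vec ⟨π ⟨u, hTS (hRT u.2)⟩, ⟨_, hRT u.2, rfl⟩⟩
    let F : R ⧸ center R → hEl.Space := fun q => f q.out
    have hF : ∀ u : R, F (u : R ⧸ center R) = f u := by
      intro u
      obtain ⟨⟨e, he⟩, hout⟩ := QuotientGroup.mk_out_eq_mul (center R) u
      refine congrArg hEl.vec (Subtype.ext ?_)
      show π _ = π _
      rw [QuotientGroup.mk'_apply, QuotientGroup.mk'_apply, QuotientGroup.eq]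
      show (((u : R ⧸ center R).out : R) : G)⁻¹ * (u : G) ∈ N
      have hmem : (e : G) ∈ N := (hNmem ⟨e, hRT e.2⟩).2
        ((le_sup_left : center T ≤ N₀) (Subgroup.mem_center_iff.2 fun g => Subtype.ext (hRc e he g g.2)))
      rw [hout]
      simpa using inv_mem hmem
    have hsub : (LinearMap.range (τ ⟨z ^ p ^ m, pow_mem hz _⟩ - 1) : Set hEl.Space) ⊆ Set.range F := by
      rintro _ ⟨v, rfl⟩
      obtain ⟨a, rfl⟩ := hsurj v
      rw [hval]
      exact ⟨_, hF ⟨_, hRy a a.2⟩⟩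
    have h3 := (Nat.card_mono (Set.finite_range F) hsub).trans (Finite.card_range_le F)
    rw [hcard, ← pow_add, SetLike.coe_sort_coe, Module.natCard_eq_pow_finrank (K := ZMod 2),
      Nat.card_zmod] at h3
    refine lt_of_le_of_lt ((Nat.pow_le_pow_iff_right (le_refl 2)).1 h3) ?_
    have h3p : 3 ≤ p := by have := hp.out.two_le; omega
    have h4 : 2 * p ^ (m + 1) ≤ 3 * (p ^ m * (p - 1)) := by
      rw [pow_succ, mul_comm 2, mul_assoc, mul_left_comm 3]
      exact Nat.mul_le_mul_left _ (by omega)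
    have h5 : 2 * b ≤ 2 ^ b := Nat.mul_le_pow (by omega) b
    omega
  intro g hg
  by_contra hne
  have hcomm := commute_of_small hp2 _ τ rfl hP (hsmall hy) (hsmall hy')
  -- `c` is trivial modulo `N`
  have hcN : ⁅T, zpowers c⁆ ≤ N := by
    refine commutator_le.2 fun t ht a ha => ?_
    obtain ⟨l, rfl⟩ := mem_powers_iff_mem_zpowers.2 ha
    have hcτ : τ ⟨c, hcP⟩ = 1 := by
      have h1 : (⟨c, hcP⟩ : P) * (⟨y', hy'.mem⟩ * ⟨y, hy.mem⟩) = ⟨y, hy.mem⟩ * ⟨y', hy'.mem⟩ :=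
        Subtype.ext (by show ⁅y, y'⁆ * (y' * y) = y * y'; rw [commutatorElement_def]; group)
      have h2 := congrArg τ h1
      rw [map_mul, ← hcomm] at h2
      have h3 : τ ((⟨y, hy.mem⟩ : P) * ⟨y', hy'.mem⟩) * τ (⟨y, hy.mem⟩ * ⟨y', hy'.mem⟩)⁻¹ = 1 := by
        rw [← map_mul, mul_inv_cancel, map_one]
      calc τ ⟨c, hcP⟩ = τ ⟨c, hcP⟩ * (τ ((⟨y, hy.mem⟩ : P) * ⟨y', hy'.mem⟩) *
            τ (⟨y, hy.mem⟩ * ⟨y', hy'.mem⟩)⁻¹) := by rw [h3, mul_one]
        _ = 1 := by rw [← mul_assoc, h2, h3]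
    have hcl' : τ (⟨c, hcP⟩ ^ l) = 1 := by rw [map_pow, hcτ, one_pow]
    have h1 := (hEl.conjRep_eq_one.1 hcl') (π ⟨t, hTS ht⟩) ⟨_, ht, rfl⟩
    have h2 : π ((inclusion hPS (⟨c, hcP⟩ ^ l)) * ⟨t, hTS ht⟩) = π (⟨t, hTS ht⟩ * inclusion hPS (⟨c, hcP⟩ ^ l)) := by
      rw [map_mul, map_mul]
      exact h1
    rw [QuotientGroup.mk'_apply, QuotientGroup.mk'_apply, QuotientGroup.eq] at h2
    have h3 : (c ^ l * t)⁻¹ * (t * c ^ l) ∈ N := by simpa [N', mem_subgroupOf] using h2
    have h4 := conj_mem_of_mem_normalizer (hSN (mul_mem (hPS (pow_mem hcP l)) (hTS ht))) h3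
    rwa [show c ^ l * t * ((c ^ l * t)⁻¹ * (t * c ^ l)) * (c ^ l * t)⁻¹ = ⁅t, c ^ l⁆ by
      rw [commutatorElement_def]; group] at h4
  have hPN : P ≤ normalizer (N : Set G) := hPS.trans hSN
  have hA : zpowers c ≤ normalizer (T : Set G) := (Subgroup.zpowers_le.2 hcP).trans hPT
  have hcop : (Nat.card (zpowers c)).Coprime (Nat.card T) := by
    obtain ⟨k, hk⟩ := IsPGroup.iff_card.1 hT
    obtain ⟨j, hj⟩ := IsPGroup.iff_card.1 (hP.to_le (Subgroup.zpowers_le.2 hcP))
    rw [hk, hj]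
    exact ((((Nat.coprime_primes hp.out Nat.prime_two).2 hp2).pow_left j).pow_right k)
  have h0 : ⁅⁅T, zpowers c⁆, zpowers c⁆ = ⊥ := commutator_eq_bot_iff_le_centralizer.2 fun r hr =>
    mem_centralizer_iff.2 fun a ha => by
      obtain ⟨l, rfl⟩ := Subgroup.mem_zpowers_iff.1 ha
      exact (Commute.zpow_left (hmin N hNT hPN hNne r (hcN hr)) l).eq
  have hbot := Coprime.commutator_eq_bot_of_commutator_commutator hA hcop
    (Or.inl (by open scoped IsMulCommutative in exact inferInstance)) h0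
  have h1 : ⁅g, c⁆ = 1 := mem_bot.1 (hbot ▸ commutator_mem_commutator hg (mem_zpowers c))
  exact hne (commutatorElement_eq_one_iff_mul_comm.1 h1).symm

omit hp [IsAlgClosed K] [CharP K p] [Finite G] [FiniteDimensional K V] in
theorem Low.of_invariant {S : Subgroup G} (hPS : P ≤ S) {W : Type v} [AddCommGroup W] [Module K W]
    [FiniteDimensional K W] (σ : Representation K S W) (hσ : ∀ s : S, ρ s = 1 → σ s = 1)
    (hdeg : ∀ s : S, deg (σ s) ≤ deg (ρ s)) (hy : Low p ρ P y) :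
    Low p σ (P.subgroupOf S) ⟨y, hPS hy.mem⟩ := by
  obtain ⟨z, hz, m, rfl, h1, h2⟩ := hy
  exact ⟨⟨z, hPS hz⟩, hz, m, Subtype.ext (by simp), hσ _ (by simpa using h1), (hdeg _).trans_lt h2⟩

/-- Two powers of low degree in a `p`-group commute on every `2`-subgroup it normalises. -/
theorem commute_of_low (hp2 : p ≠ 2) :
    ∀ (d : ℕ) {G : Type w} [Group G] [Finite G] {V : Type v} [AddCommGroup V] [Module K V]
      [FiniteDimensional K V] (ρ : Representation K G V), finrank K V = d →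
      ∀ {T P : Subgroup G}, IsPGroup 2 T → IsPGroup p P → P ≤ normalizer (T : Set G) →
      ∀ {y y' : G}, Low p ρ P y → Low p ρ P y' → ∀ g ∈ T, ρ (⁅y, y'⁆ * g) = ρ (g * ⁅y, y'⁆) := by
  classical
  intro d
  induction d using Nat.strong_induction_on with
  | _ d ih =>
  intro G _ _ V _ _ _ ρ hd T P hT hP hPT y y' hy hy'
  subst hd
  rcases subsingleton_or_nontrivial V with hV | hV
  · exact fun g _ => LinearMap.ext fun v => Subsingleton.elim _ _
  -- it is enough to treat faithful representations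
  suffices main : ∀ {G : Type w} [Group G] [Finite G] (ρ : Representation K G V),
      Function.Injective ρ → ∀ {T P : Subgroup G}, IsPGroup 2 T → IsPGroup p P →
      P ≤ normalizer (T : Set G) → ∀ {y y' : G}, Low p ρ P y → Low p ρ P y' →
      ∀ g ∈ T, ⁅y, y'⁆ * g = g * ⁅y, y'⁆ by
    let π := QuotientGroup.mk' ρ.ker
    let σ : Representation K (G ⧸ ρ.ker) V := QuotientGroup.lift ρ.ker ρ le_rfl
    have hσ : ∀ h, σ (π h) = ρ h := fun h => QuotientGroup.lift_mk' _ _ h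
    have hinj : Function.Injective σ := by
      intro a b hab
      obtain ⟨a, rfl⟩ := QuotientGroup.mk'_surjective ρ.ker a
      obtain ⟨b, rfl⟩ := QuotientGroup.mk'_surjective ρ.ker b
      rw [hσ, hσ] at hab
      exact QuotientGroup.eq.2 (MonoidHom.mem_ker.2 (by
        rw [map_mul, ← hab, ← map_mul, inv_mul_cancel, map_one]))
    have hlow : ∀ {y}, Low p ρ P y → Low p σ (P.map π) (π y) := by
      rintro _ ⟨z, hz, m, rfl, h1, h2⟩
      exact ⟨π z, mem_map_of_mem π hz, m, map_pow π _ _, by rw [← map_pow π, hσ, h1], by rwa [hσ]⟩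
    have hPT' : P.map π ≤ normalizer ((T.map π : Subgroup _) : Set (G ⧸ ρ.ker)) := by
      rintro _ ⟨a, ha, rfl⟩
      refine mem_normalizer_of_conj_mem ?_
      rintro _ ⟨b, hb, rfl⟩
      exact ⟨_, conj_mem_of_mem_normalizer (hPT ha) hb, by simp⟩
    intro g hg
    have h := main σ hinj (hT.map π) (hP.map π) hPT' (hlow hy) (hlow hy') (π g) (mem_map_of_mem π hg)
    rw [← map_commutatorElement π, ← map_mul, ← map_mul] at h
    rw [← hσ, ← hσ, h]
  clear hy hy' hPT hP hT y y' T P ρ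
  intro G _ _ ρ hinj T P hT hP hPT y y' hy hy' g₀ hg₀
  by_contra hne₀
  set c := ⁅y, y'⁆
  obtain ⟨T₀, ⟨hT₀T, hPT₀, hmov⟩, hTmin⟩ := wellFounded_lt.has_min
    {R : Subgroup G | R ≤ T ∧ P ≤ normalizer (R : Set G) ∧ ∃ g ∈ R, c * g ≠ g * c}
    ⟨T, le_rfl, hPT, g₀, hg₀, hne₀⟩
  have hT₀ : IsPGroup 2 T₀ := hT.to_le hT₀T
  have hmin : ∀ R ≤ T₀, P ≤ normalizer (R : Set G) → R ≠ T₀ → ∀ g ∈ R, c * g = g * c := by
    intro R hR hRP hne g hg
    by_contra hc
    exact hTmin R ⟨hR.trans hT₀T, hRP, g, hg, hc⟩ (lt_of_le_of_ne hR hne)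
  clear hTmin hT₀T hPT hT g₀ hg₀ hne₀
  obtain ⟨t₀, ht₀, ht₀c⟩ := hmov
  apply ht₀c
  clear ht₀c
  revert t₀ ht₀
  by_contra hmov
  push Not at hmov
  have := Fact.mk Nat.prime_two
  have hfix : ∀ y, Low p ρ P y → ∀ a ∈ T₀, (∀ t ∈ T₀, t * a = a * t) → y * a = a * y := by
    intro y hy a ha hat
    set Z := T₀ ⊓ centralizer (T₀ : Set G)
    refine hy.commute_of_abelian hp2 hinj (A := Z) (hT₀.to_le inf_le_left)
      (fun a ha b hb => (mem_centralizer_iff.1 hb.2 a ha.1))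
      (fun s hs => mem_normalizer_of_conj_mem fun b hb => ⟨conj_mem_of_mem_normalizer (hPT₀ hs) hb.1, ?_⟩)
      ⟨ha, mem_centralizer_iff.2 hat⟩
    refine mem_centralizer_iff.2 fun t ht => ?_
    have := mem_centralizer_iff.1 hb.2 _ (inv_conj_mem_of_mem_normalizer (hPT₀ hs) ht)
    calc t * (s * b * s⁻¹) = s * ((s⁻¹ * t * s) * b) * s⁻¹ := by group
      _ = s * (b * (s⁻¹ * t * s)) * s⁻¹ := by rw [this]
      _ = _ := by group
  have hnab : ∃ a ∈ T₀, ∃ b ∈ T₀, a * b ≠ b * a := by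
    by_contra hab
    push Not at hab
    obtain ⟨t, ht, hne⟩ := hmov
    refine hne (mem_centralizer_singleton_iff.1 ?_)
    have h1 : y ∈ centralizer {t} := mem_centralizer_singleton_iff.2 (hfix y hy t ht fun s hs => hab s hs t ht)
    have h2 : y' ∈ centralizer {t} := mem_centralizer_singleton_iff.2 (hfix y' hy' t ht fun s hs => hab s hs t ht)
    exact mul_mem (mul_mem (mul_mem h1 h2) (inv_mem h1)) (inv_mem h2)
  -- the derived subgroup is central
  have hcl : ∀ a ∈ T₀, ∀ b ∈ T₀, ∀ t ∈ T₀, t * ⁅a, b⁆ = ⁅a, b⁆ * t := by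
    set D := ⁅T₀, T₀⁆ with hD
    have hDT : D ≤ T₀ := commutator_le.2 fun a ha b hb => by
      rw [commutatorElement_def]; exact mul_mem (mul_mem (mul_mem ha hb) (inv_mem ha)) (inv_mem hb)
    have hPD : P ≤ normalizer (D : Set G) := hPT₀.trans (normalizer_le_normalizer_commutator T₀)
    have hDne : D ≠ T₀ := by
      intro e
      have : Nontrivial T₀ := by
        obtain ⟨a, ha, b, hb, hab⟩ := hnab
        exact ⟨⟨a, ha⟩, ⟨b, hb⟩, fun e => hab (by rw [show a = b from congrArg Subtype.val e])⟩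
      have : Group.IsSolvable T₀ := by have := hT₀.isNilpotent; infer_instance
      refine (Group.IsSolvable.commutator_lt_top_of_nontrivial T₀).ne ?_
      refine Subgroup.map_injective T₀.subtype_injective ?_
      rw [Subgroup.map_subtype_commutator, ← hD, e, ← MonoidHom.range_eq_map, Subgroup.range_subtype]
    set C := T₀ ⊓ centralizer (D : Set G) with hC
    have hPC : P ≤ normalizer (C : Set G) := fun s hs => mem_normalizer_of_conj_mem fun b hb =>
      ⟨conj_mem_of_mem_normalizer (hPT₀ hs) hb.1, mem_centralizer_iff.2 fun t ht => by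
        have := mem_centralizer_iff.1 hb.2 _ (inv_conj_mem_of_mem_normalizer (hPD hs) ht)
        calc t * (s * b * s⁻¹) = s * ((s⁻¹ * t * s) * b) * s⁻¹ := by group
          _ = s * (b * (s⁻¹ * t * s)) * s⁻¹ := by rw [this]
          _ = _ := by group⟩
    have hcP : c ∈ P := mul_mem (mul_mem (mul_mem hy.mem hy'.mem) (inv_mem hy.mem)) (inv_mem hy'.mem)
    have hDc : ⁅D, zpowers c⁆ = ⊥ := commutator_eq_bot_iff_le_centralizer.2 fun r hr =>
      mem_centralizer_iff.2 fun a ha => by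
        obtain ⟨l, rfl⟩ := Subgroup.mem_zpowers_iff.1 ha
        exact (Commute.zpow_left (hmin D hDT hPD hDne r hr) l).eq
    have hle : ⁅T₀, zpowers c⁆ ≤ C := by
      refine le_inf (le_normalizer_iff_commutator_le_left.mp ((Subgroup.zpowers_le.2 hcP).trans hPT₀)) ?_
      have h1 : ⁅⁅zpowers c, D⁆, T₀⁆ = ⊥ := by rw [commutator_comm (zpowers c), hDc, commutator_bot_left]
      have h2 : ⁅⁅D, T₀⁆, zpowers c⁆ = ⊥ := eq_bot_mono (commutator_mono (commutator_le.2 fun a ha b hb => by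
        rw [commutatorElement_def, show a * b * a⁻¹ * b⁻¹ = a * (b * a⁻¹ * b⁻¹) by group]
        exact mul_mem ha (conj_mem_of_mem_normalizer ((le_normalizer.trans
          (normalizer_le_normalizer_commutator T₀)) hb) (inv_mem ha))) le_rfl) hDc
      exact commutator_eq_bot_iff_le_centralizer.1
        (commutator_commutator_eq_bot_of_rotate (H₁ := T₀) (H₂ := zpowers c) (H₃ := D) h1 h2)
    by_cases hCT : C = T₀
    · exact fun a ha b hb t ht => (mem_centralizer_iff.1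
        ((hCT.symm ▸ ht : t ∈ C).2) ⁅a, b⁆ (commutator_mem_commutator ha hb)).symm
    exfalso
    have h0 : ⁅⁅T₀, zpowers c⁆, zpowers c⁆ = ⊥ := commutator_eq_bot_iff_le_centralizer.2 fun r hr =>
      mem_centralizer_iff.2 fun a ha => by
        obtain ⟨l, rfl⟩ := Subgroup.mem_zpowers_iff.1 ha
        exact (Commute.zpow_left (hmin C inf_le_left hPC hCT r (hle hr)) l).eq
    have hcop : (Nat.card (zpowers c)).Coprime (Nat.card T₀) := by
      obtain ⟨k, hk⟩ := IsPGroup.iff_card.1 hT₀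
      obtain ⟨j, hj⟩ := IsPGroup.iff_card.1 (hP.to_le (Subgroup.zpowers_le.2 hcP))
      rw [hk, hj]
      exact ((((Nat.coprime_primes hp.out Nat.prime_two).2 hp2).pow_left j).pow_right k)
    have hbot := Coprime.commutator_eq_bot_of_commutator_commutator
      ((Subgroup.zpowers_le.2 hcP).trans hPT₀) hcop
      (Or.inl (by open scoped IsMulCommutative in exact inferInstance)) h0
    obtain ⟨t, ht, hne⟩ := hmov
    exact hne (commutatorElement_eq_one_iff_mul_comm.1
      (mem_bot.1 (hbot ▸ commutator_mem_commutator ht (mem_zpowers c)))).symm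
  obtain ⟨t₀, ht₀, hne⟩ := hmov
  apply hne
  -- irreducibility
  by_cases hirr : ∀ W : Submodule K V, (∀ s ∈ T₀ ⊔ P, ∀ w ∈ W, ρ s w ∈ W) → W = ⊥ ∨ W = ⊤
  swap
  · push Not at hirr
    obtain ⟨W, hWS, hWb, hWt⟩ := hirr
    set S := T₀ ⊔ P
    have hTS : T₀ ≤ S := le_sup_left
    have hPS : P ≤ S := le_sup_right
    have key : ∀ (W' : Type v) [AddCommGroup W'] [Module K W'] [FiniteDimensional K W']
        (σ : Representation K S W'), finrank K W' < finrank K V → (∀ s : S, deg (σ s) ≤ deg (ρ s)) →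
        (∀ s : S, ρ s = 1 → σ s = 1) →
        σ ⟨c * t₀ * (t₀ * c)⁻¹, mul_mem (mul_mem (hPS (mul_mem (mul_mem (mul_mem hy.mem hy'.mem)
          (inv_mem hy.mem)) (inv_mem hy'.mem))) (hTS ht₀)) (inv_mem (mul_mem (hTS ht₀)
          (hPS (mul_mem (mul_mem (mul_mem hy.mem hy'.mem) (inv_mem hy.mem)) (inv_mem hy'.mem)))))⟩ = 1 := by
      intro W' _ _ _ σ hlt hdeg h1
      have := ih _ hlt σ rfl (T := T₀.subgroupOf S) (P := P.subgroupOf S)
        (hT₀.of_equiv (subgroupOfEquivOfLe hTS).symm) (hP.of_equiv (subgroupOfEquivOfLe hPS).symm)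
        (fun s hs => mem_normalizer_of_conj_mem fun g hg => conj_mem_of_mem_normalizer (x := (s : G)) (Q := T₀) (g := (g : G)) (hPT₀ hs) hg)
        (hy.of_invariant hPS σ h1 hdeg) (hy'.of_invariant hPS σ h1 hdeg) ⟨t₀, hTS ht₀⟩ ht₀
      calc σ _ = σ (⁅(⟨y, hPS hy.mem⟩ : S), ⟨y', hPS hy'.mem⟩⁆ * ⟨t₀, hTS ht₀⟩) *
            σ ((⟨t₀, hTS ht₀⟩ * ⁅(⟨y, hPS hy.mem⟩ : S), ⟨y', hPS hy'.mem⟩⁆)⁻¹) := by
            rw [← map_mul]; rfl
        _ = 1 := by rw [this, ← map_mul, mul_inv_cancel, map_one]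
    have hlt : finrank K (V ⧸ W) < finrank K V := by
      have h1 := W.finrank_quotient_add_finrank
      have : Nontrivial W := Submodule.nontrivial_iff_ne_bot.2 hWb
      have := Module.finrank_pos (R := K) (M := W)
      omega
    have h1 := key W (restrictRep ρ S W hWS) (Submodule.finrank_lt hWt)
      (fun s => deg_restrict_le (hWS s s.2))
      (fun s hs => LinearMap.ext fun w => Subtype.ext (by rw [restrictRep_apply_coe, hs]; rfl))
    have h2 := key (V ⧸ W) (quotientRep ρ S W hWS) hlt (fun s => deg_mapQ_le (hWS s s.2))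
      (fun s hs => by
        refine LinearMap.ext fun v => ?_
        obtain ⟨v, rfl⟩ := W.mkQ_surjective v
        show Submodule.Quotient.mk (ρ (s : G) v) = _
        rw [hs]; rfl)
    set d := c * t₀ * (t₀ * c)⁻¹ with hd
    have h2' : ∀ v, ρ d v - v ∈ W := fun v =>
      (Submodule.Quotient.eq W).1 (LinearMap.congr_fun h2 (Submodule.Quotient.mk v))
    have h1' : ∀ w ∈ W, ρ d w = w := fun w hw => congrArg Subtype.val (LinearMap.congr_fun h1 ⟨w, hw⟩)
    have hdT : d ∈ T₀ := by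
      rw [hd, mul_inv_rev, ← mul_assoc]
      exact mul_mem (conj_mem_of_mem_normalizer (hPT₀ (mul_mem (mul_mem (mul_mem hy.mem hy'.mem)
        (inv_mem hy.mem)) (inv_mem hy'.mem))) ht₀) (inv_mem ht₀)
    obtain ⟨k, hk⟩ := IsPGroup.iff_orderOf.1 hT₀ ⟨d, hdT⟩
    rw [orderOf_mk] at hk
    have : ρ d = 1 := eq_one_of_unipotent (m := 2 ^ k) (by rw [← map_pow, ← hk, pow_orderOf_eq_one, map_one])
      (by rw [Nat.cast_pow]; exact pow_ne_zero _ (two_ne_zero_of_charP hp2)) h1' h2'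
    exact mul_inv_eq_one.1 (hinj (this.trans (map_one ρ).symm))
  set Z := T₀ ⊓ centralizer (T₀ : Set G) with hZ
  have hZc : ∀ a ∈ Z, ∀ t ∈ T₀, t * a = a * t := fun a ha t ht => mem_centralizer_iff.1 ha.2 t ht
  have hPZ : P ≤ normalizer (Z : Set G) := fun s hs => mem_normalizer_of_conj_mem fun b hb =>
    ⟨conj_mem_of_mem_normalizer (hPT₀ hs) hb.1, mem_centralizer_iff.2 fun t ht => by
      have := hZc b hb _ (inv_conj_mem_of_mem_normalizer (hPT₀ hs) ht)
      calc t * (s * b * s⁻¹) = s * ((s⁻¹ * t * s) * b) * s⁻¹ := by group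
        _ = s * (b * (s⁻¹ * t * s)) * s⁻¹ := by rw [this]
        _ = _ := by group⟩
  by_cases hscal : ∃ χ : G → K, charSpace ρ Z χ = ⊤
  · obtain ⟨χ, hχ⟩ := hscal
    exact commute_of_scalar hp2 hinj hT₀ hP hPT₀ hy hy' hfix hcl (fun z hz hzc => ⟨χ z, LinearMap.ext fun v =>
      (hχ ▸ Submodule.mem_top : v ∈ charSpace ρ Z χ) z ⟨hz, mem_centralizer_iff.2 hzc⟩⟩) hmin hnab t₀ ht₀
  push Not at hscal
  set D := LinearMap.ker (ρ (c * t₀) - ρ (t₀ * c))
  set U := ⨆ χ : G → K, charSpace ρ Z χ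
  have hU : U = ⊤ := by
    obtain ⟨v, χ, hv, hχ⟩ := exists_common_eigvec ρ Z fun a ha b hb => hZc b hb a ha.1
    refine (hirr U fun s hs => ?_).resolve_left fun e => hv
      ((Submodule.mem_bot K).1 (e ▸ Submodule.mem_iSup_of_mem χ hχ))
    have hUle : ∀ s ∈ normalizer (Z : Set G), U.map (ρ s) ≤ U := by
      intro s hs
      rw [Submodule.map_iSup]
      refine iSup_le fun χ => ?_
      rintro _ ⟨w, hw, rfl⟩
      refine Submodule.mem_iSup_of_mem (fun z => χ (s⁻¹ * z * s)) fun z hz => ?_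
      rw [← Module.End.mul_apply, ← map_mul, show z * s = s * (s⁻¹ * z * s) by group, map_mul,
        Module.End.mul_apply, hw _ (inv_conj_mem_of_mem_normalizer hs hz), map_smul]
    have hTZ : T₀ ≤ normalizer (Z : Set G) := fun t ht => mem_normalizer_of_conj_mem fun b hb => by
      rwa [hZc b hb t ht, mul_inv_cancel_right]
    exact fun w hw => hUle s (sup_le hTZ hPZ hs) (Submodule.mem_map_of_mem hw)
  have hUD : U ≤ D := by
    refine iSup_le fun χ => ?_
    set W := charSpace ρ Z χ with hW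
    by_cases hWb : W = ⊥
    · rw [hWb]; exact bot_le
    set St := charStabilizer Z χ
    have hst : ∀ {w}, Low p ρ P w → w ∈ St := fun {w} hw => ⟨hPZ hw.mem, fun z hz => by
      rw [mul_assoc, ← hfix w hw z hz.1 (hZc z hz), inv_mul_cancel_left]⟩
    set S := T₀ ⊔ (P ⊓ St)
    have hTS : T₀ ≤ S := le_sup_left
    have hPS : P ⊓ St ≤ S := le_sup_right
    have hWS : ∀ s ∈ S, ∀ w ∈ W, ρ s w ∈ W := fun s hs => (sup_le (fun t ht w hw z hz => by
        rw [← Module.End.mul_apply, ← map_mul, ← hZc z hz t ht, map_mul, Module.End.mul_apply, hw z hz,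
          map_smul])
      (fun q hq w hw => charSpace_map_mem hq.2 hw) : S ≤ stabSubgroup ρ W) hs
    set σ := restrictRep ρ S W hWS
    have hlow : ∀ {w} (hw : Low p ρ P w),
        Low p σ ((P ⊓ St).subgroupOf S) ⟨w, hPS ⟨hw.mem, hst hw⟩⟩ := by
      intro w hw
      have hwst := hst hw
      obtain ⟨z, hz, m, rfl, h1, h2⟩ := hw
      have hex : ∃ j, z ^ p ^ j ∈ St := ⟨m, hwst⟩
      set j := Nat.find hex with hj
      have hjm : j ≤ m := Nat.find_min' hex hwst
      have hjS : z ^ p ^ j ∈ P ⊓ St := ⟨pow_mem hz _, Nat.find_spec hex⟩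
      have hzP : z ^ p ^ (m + 1) = 1 := hinj (by rw [h1, map_one])
      refine ⟨⟨z ^ p ^ j, hPS hjS⟩, hjS, m - j, Subtype.ext ?_, LinearMap.ext fun v => Subtype.ext ?_, ?_⟩
      · show z ^ p ^ m = (z ^ p ^ j) ^ p ^ (m - j)
        rw [← pow_mul, ← pow_add, Nat.add_sub_cancel' hjm]
      · show ρ ((z ^ p ^ j) ^ p ^ (m - j + 1)) v = v
        rw [← pow_mul, ← pow_add, show j + (m - j + 1) = m + 1 by omega, h1, Module.End.one_apply]
      · have hnot : ∀ i, 0 < i → i < p ^ j → z ^ i ∉ St := by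
          intro i hi hij hmem
          obtain ⟨e, -, hei, hem⟩ := exists_pow_prime_mem_zpowers hp.out hzP hi
            (hij.trans_le (Nat.pow_le_pow_right hp.out.pos (by omega)))
          exact Nat.find_min hex ((Nat.pow_lt_pow_iff_right hp.out.one_lt).1 (hei.trans_lt hij))
            (Subgroup.zpowers_le.2 hmem hem)
        have : Nontrivial W := Submodule.nontrivial_iff_ne_bot.2 hWb
        have h3 := mul_deg_restrict_le (x := ρ z) (o := p ^ j) (W := W)
          (fun w hw => by rw [← map_pow]; exact hWS _ (hPS hjS) w hw)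
          (charSpace_translates ρ Z (hPZ hz) χ hnot (le_of_eq hW))
        refine Nat.lt_of_mul_lt_mul_left (a := p ^ j) (lt_of_le_of_lt (le_trans (le_of_eq ?_) h3) ?_)
        · congr 2
          exact LinearMap.ext fun w => Subtype.ext (by simp [σ, restrictRep_apply_coe, map_pow])
        · rwa [← pow_add, show j + (m - j + 1) = m + 1 by omega]
    have := ih _ (Submodule.finrank_lt (hscal χ)) σ rfl (T := T₀.subgroupOf S)
      (P := (P ⊓ St).subgroupOf S) (hT₀.of_equiv (subgroupOfEquivOfLe hTS).symm)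
      ((hP.to_le inf_le_left).of_equiv (subgroupOfEquivOfLe hPS).symm)
      (fun s hs => mem_normalizer_of_conj_mem fun g hg => conj_mem_of_mem_normalizer (x := (s : G)) (Q := T₀) (g := (g : G)) (hPT₀ hs.1) hg)
      (hlow hy) (hlow hy') ⟨t₀, hTS ht₀⟩ ht₀
    intro v hv
    rw [LinearMap.mem_ker, LinearMap.sub_apply, sub_eq_zero]
    exact congrArg Subtype.val (LinearMap.congr_fun this ⟨v, hv⟩)
  exact hinj (LinearMap.ext fun v => sub_eq_zero.1 (hUD (hU ▸ Submodule.mem_top : v ∈ U)))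

end CfsgLib.HallHigman
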