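import Cfsg.Agent.Lib.HallHigman.TheoremB
import Cfsg.Agent.Lib.Coprime.Sylow
import Cfsg.Agent.Lib.BlockB.PSolvableCentralizer
import Mathlib.FieldTheory.IsAlgClosed.AlgebraicClosure
import Mathlib.LinearAlgebra.Matrix.ToLin
import Mathlib.Algebra.CharP.Basic

/-!
# Theorem B for unipotent elements of a linear group over an arbitrary field
-/

set_option autoImplicit false

namespace CfsgLib.HallHigman

open Module Polynomial

universe u v w

/-- If `p ^ a = q ^ b + 1` for primes, one of them is `2`. -/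
theorem eq_two_of_pow_eq_pow_add_one {p q a b : ℕ} (hp : p.Prime) (hq : q.Prime) (ha : 1 ≤ a)
    (hb : 1 ≤ b) (h : p ^ a = q ^ b + 1) : p = 2 ∨ q = 2 := by
  by_contra hc
  push Not at hc
  have h1 : Odd (p ^ a) := (hp.odd_of_ne_two hc.1).pow
  have h2 : Odd (q ^ b) := (hq.odd_of_ne_two hc.2).pow
  rw [h] at h1
  rw [Nat.odd_iff] at h1 h2
  omega

/-- A `p`-element acting nontrivially on a normal `p'`-subgroup moves some invariant `q`-subgroup
of it. -/
theorem exists_invariant_moved {G : Type u} [Group G] [Finite G] {p : ℕ} (hp : p.Prime)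
    {N : Subgroup G} (hN : (Nat.card N).Coprime p) {x : G} (hxN : x ∈ Subgroup.normalizer (N : Set G))
    {n : ℕ} (hx : x ^ p ^ n = 1) {y : G} (hmov : ∃ g ∈ N, y * g ≠ g * y) :
    ∃ (q : ℕ) (Q : Subgroup G), q.Prime ∧ q ≠ p ∧ IsPGroup q Q ∧ Q ≤ N ∧
      x ∈ Subgroup.normalizer (Q : Set G) ∧ ∃ g ∈ Q, y * g ≠ g * y := by
  by_contra hc
  push Not at hc
  obtain ⟨g, hg, hne⟩ := hmov
  have hcop : (Nat.card (Subgroup.zpowers x)).Coprime (Nat.card N) := by
    rw [Nat.card_zpowers]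
    exact (hN.symm.pow_left n).coprime_dvd_left (orderOf_dvd_of_pow_eq_one hx)
  set C := Subgroup.centralizer ({y} : Set G) ⊓ N with hC
  have hCN : C = N := by
    refine Subgroup.eq_of_le_of_card_ge inf_le_right (Nat.le_of_dvd Nat.card_pos ?_)
    refine (Nat.dvd_iff_prime_pow_dvd_dvd _ _).2 fun q k hq hd => ?_
    rcases Nat.eq_zero_or_pos k with rfl | hk
    · simp
    have hqp : q ≠ p := fun e => hp.coprime_iff_not_dvd.1 hN.symm
      (e ▸ (dvd_pow_self q hk.ne').trans hd)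
    have := Fact.mk hq
    obtain ⟨P, hP⟩ := CfsgLib.Coprime.exists_invariant_sylow (Subgroup.zpowers_le.2 hxN) hcop
      (Or.inl (by open scoped IsMulCommutative in exact inferInstance)) q
    refine (P.pow_dvd_card_of_pow_dvd_card hd).trans ?_
    rw [← Subgroup.card_map_of_injective (K := (P : Subgroup N)) N.subtype_injective]
    refine Subgroup.card_dvd_of_le (le_inf (fun a ha => ?_) (Subgroup.map_subtype_le _))
    exact Subgroup.mem_centralizer_singleton_iff.2 (hc q _ hq hqp (P.2.map _)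
      (Subgroup.map_subtype_le _) (hP (Subgroup.mem_zpowers x)) a ha).symm
  exact hne (Subgroup.mem_centralizer_singleton_iff.1 ((hCN.symm ▸ hg : g ∈ C)).1).symm

variable {F : Type u} [Field F] {V : Type v} [AddCommGroup V] [Module F V] [FiniteDimensional F V]
  {G : Type w} [Group G] [Finite G]

/-- Theorem B for a vanishing power of `x - 1`, in characteristic `p`. -/
theorem exceptional_of_pow_eq_zero (ρ : Representation F G V) {p : ℕ} (hp : p.Prime) [CharP F p]
    {Q : Subgroup G} {q : ℕ} (hq : q.Prime) (hqp : q ≠ p) (hQ : IsPGroup q Q) {x : G}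
    (hxQ : x ∈ Subgroup.normalizer (Q : Set G)) {n : ℕ} (hn : 1 ≤ n) (hxP : x ^ p ^ n = 1)
    (hmov : ∃ g ∈ Q, ρ (x ^ p ^ (n - 1) * g) ≠ ρ (g * x ^ p ^ (n - 1))) {k : ℕ}
    (hk : (ρ x - 1) ^ k = 0) :
    DegBound p q n k (∃ g ∈ Q, ∃ h ∈ Q, ρ (g * h) ≠ ρ (h * g)) := by
  have := charP_of_injective_algebraMap (algebraMap F (AlgebraicClosure F)).injective p
  let b := Module.finBasis F V
  let ι := algebraMap F (AlgebraicClosure F)
  let Φ : Module.End F V →+* Module.End (AlgebraicClosure F) (Fin (finrank F V) → AlgebraicClosure F) :=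
    (Matrix.toLinAlgEquiv' (R := AlgebraicClosure F) (n := Fin (finrank F V))).toRingEquiv.toRingHom.comp
      ((ι.mapMatrix).comp (LinearMap.toMatrixAlgEquiv b).toRingEquiv.toRingHom)
  have hΦ : Function.Injective Φ := by
    intro a c hac
    refine (LinearMap.toMatrixAlgEquiv b).injective (Matrix.map_injective ι.injective ?_)
    exact (Matrix.toLinAlgEquiv' (R := AlgebraicClosure F) (n := Fin (finrank F V))).injective hac
  let ρ' : Representation (AlgebraicClosure F) G (Fin (finrank F V) → AlgebraicClosure F) :=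
    Φ.toMonoidHom.comp ρ
  have hρ' : ∀ g, ρ' g = Φ (ρ g) := fun g => rfl
  have hqK : (q : AlgebraicClosure F) ≠ 0 := fun e =>
    hqp ((Nat.prime_dvd_prime_iff_eq hp hq).1 ((CharP.cast_eq_zero_iff _ p q).1 e)).symm
  obtain ⟨g, hg, hne⟩ := hmov
  have hb := boundHolds hp hq (Ne.symm hqp) hqK _ ρ' rfl Q x n hQ hxQ (by rw [hxP, map_one]) hn
    ⟨g, hg, fun e => hne (hΦ (by rw [← hρ', ← hρ', e]))⟩
  refine hb.mono ?_ ?_
  · have hk' : aeval (ρ' x) ((X - 1) ^ k : (AlgebraicClosure F)[X]) = 0 := by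
      rw [map_pow, map_sub, aeval_X, map_one, hρ', ← map_one Φ, ← map_sub, ← map_pow, hk, map_zero]
    refine (deg_le_of_aeval_eq_zero (pow_ne_zero _ (by simpa using X_sub_C_ne_zero (1 : AlgebraicClosure F))) hk').trans ?_
    rw [natDegree_pow, show (X - 1 : (AlgebraicClosure F)[X]) = X - C 1 by simp, natDegree_X_sub_C, mul_one]
  · rintro ⟨a, ha, c, hc, hac⟩
    exact ⟨a, ha, c, hc, fun e => hac (by rw [hρ', hρ', e])⟩

/-- Theorem B for a `p`-solvable linear group with trivial `p`-core. -/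
theorem exceptional_of_isPSolvable (ρ : Representation F G V) {p : ℕ} [hp : Fact p.Prime]
    [CharP F p] (hinj : Function.Injective ρ) (hs : Cfsg.IsPSolvable p G)
    (hO : Cfsg.pCore p G = ⊥) {x : G} {n : ℕ} (hn : 1 ≤ n) (hord : orderOf x = p ^ n) {k : ℕ}
    (hk : (ρ x - 1) ^ k = 0) :
    ∃ (q : ℕ) (Q : Subgroup G), q.Prime ∧ q ≠ p ∧ IsPGroup q Q ∧ Q ≤ Cfsg.pPrimeCore p G ∧
      DegBound p q n k (∃ g ∈ Q, ∃ h ∈ Q, g * h ≠ h * g) := by
  have hxP : x ^ p ^ n = 1 := hord ▸ pow_orderOf_eq_one x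
  have hN := CfsgLib.Solvable.pPrimeCore_normal p G
  have hmov : ∃ g ∈ Cfsg.pPrimeCore p G, x ^ p ^ (n - 1) * g ≠ g * x ^ p ^ (n - 1) := by
    by_contra hc
    push Not at hc
    have hmem := CfsgLib.BlockB.centralizer_pPrimeCore_le_of_isPSolvable hs hO
      (Subgroup.mem_centralizer_iff.2 fun g hg => (hc g hg).symm)
    have h1 : orderOf (x ^ p ^ (n - 1)) = p := by
      rw [orderOf_pow_of_dvd (pow_ne_zero _ hp.out.ne_zero)
        (hord ▸ pow_dvd_pow p (Nat.sub_le n 1)), hord, Nat.pow_div (Nat.sub_le n 1) hp.out.pos,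
        show n - (n - 1) = 1 by omega, pow_one]
    exact hp.out.coprime_iff_not_dvd.1 (CfsgLib.Solvable.pPrimeCore_coprime p).symm
      (h1 ▸ Subgroup.orderOf_dvd_natCard _ hmem)
  obtain ⟨q, Q, hq, hqp, hQ, hQN, hxQ, g, hg, hne⟩ := exists_invariant_moved hp.out
    (CfsgLib.Solvable.pPrimeCore_coprime p) (by rw [Subgroup.normalizer_eq_top]; trivial) hxP hmov
  refine ⟨q, Q, hq, hqp, hQ, hQN, (exceptional_of_pow_eq_zero ρ hp.out hq hqp hQ hxQ hn hxP
    ⟨g, hg, fun e => hne (hinj e)⟩ hk).mono le_rfl ?_⟩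
  rintro ⟨a, ha, c, hc, hac⟩
  exact ⟨a, ha, c, hc, fun e => hac (congrArg ρ e)⟩

end CfsgLib.HallHigman
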