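import Cfsg.Agent.Lib.HallHigman.TheoremB
import Cfsg.Agent.Lib.Solvable.Nilpotent
import Cfsg.Agent.Lib.HallHigman.Linear
import Mathlib.GroupTheory.Nilpotent

/-!
# The critical case of Hall and Higman for an irreducible normal `q`-subgroup
-/

set_option autoImplicit false

namespace CfsgLib.HallHigman

open Module Subgroup
open scoped commutatorElement

universe u v w

/-- In a `q`-group whose characteristic abelian subgroups are central the derived subgroup is
central. -/
theorem commutator_le_center_of_char_abelian {Q : Type w} [Group Q] [Group.IsNilpotent Q]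
    (h : ∀ A : Subgroup Q, A.Characteristic → IsMulCommutative A → A ≤ center Q) :
    commutator Q ≤ center Q := by
  by_contra hne
  set Z := center Q
  set π := QuotientGroup.mk' Z
  set W : Subgroup Q := Subgroup.upperCentralSeries Q 2 with hW
  have hWmem : ∀ w ∈ W, ∀ g : Q, ⁅w, g⁆ ∈ Z := fun w hw g => by
    have := (Subgroup.mem_upperCentralSeries_succ_iff (n := 1)).1 hw g
    rwa [Subgroup.upperCentralSeries_one] at this
  set A := W ⊓ commutator Q with hA
  -- the derived subgroup centralises the second centre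
  have h3 : ⁅commutator Q, W⁆ = ⊥ := by
    have h1 : ⁅⁅(⊤ : Subgroup Q), W⁆, (⊤ : Subgroup Q)⁆ = ⊥ := by
      rw [commutator_eq_bot_iff_le_centralizer]
      refine commutator_le.2 fun g _ w hw => mem_centralizer_iff.2 fun b _ => ?_
      have h2 : ⁅g, w⁆ ∈ Z := by rw [← commutatorElement_inv]; exact inv_mem (hWmem w hw g)
      exact Subgroup.mem_center_iff.1 h2 b
    have h2 : ⁅⁅W, (⊤ : Subgroup Q)⁆, (⊤ : Subgroup Q)⁆ = ⊥ := by rwa [commutator_comm W]
    rw [_root_.commutator_def]
    exact commutator_commutator_eq_bot_of_rotate (H₁ := (⊤ : Subgroup Q)) (H₂ := (⊤ : Subgroup Q)) (H₃ := W) h1 h2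
  have hAc : IsMulCommutative A := ⟨⟨fun a b => Subtype.ext (commutatorElement_eq_one_iff_mul_comm.1
    (mem_bot.1 (h3 ▸ commutator_mem_commutator a.2.2 b.2.1)))⟩⟩
  have hch : A.Characteristic := by
    rw [hA, hW, _root_.commutator_def]
    infer_instance
  have hAZ := h A hch hAc
  -- a central element of the quotient in the image of the derived subgroup
  have hn : ((commutator Q).map π).Normal := inferInstance
  have hne' : (commutator Q).map π ≠ ⊥ := fun e => hne (by
    have := (Subgroup.map_eq_bot_iff _).1 e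
    rwa [QuotientGroup.ker_mk'] at this)
  obtain ⟨x, hx, hx1⟩ : ∃ x ∈ center (Q ⧸ Z) ⊓ (commutator Q).map π, x ≠ 1 := by
    refine (bot_or_exists_ne_one _).resolve_left ?_
    rw [inf_comm]
    exact CfsgLib.Solvable.normal_inf_center_ne_bot _ hne'
  obtain ⟨d, hd, rfl⟩ := hx.2
  refine hx1 ((QuotientGroup.eq_one_iff d).2 (hAZ ⟨(Subgroup.mem_upperCentralSeries_succ_iff (n := 1)).2 fun g => ?_, hd⟩))
  rw [Subgroup.upperCentralSeries_one, ← QuotientGroup.eq_one_iff]
  show π ⁅d, g⁆ = 1
  rw [map_commutatorElement, commutatorElement_eq_one_iff_mul_comm]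
  exact (Subgroup.mem_center_iff.1 hx.1 (π g)).symm

variable {K : Type u} [Field K] [IsAlgClosed K] {V : Type v} [AddCommGroup V] [Module K V]
  [FiniteDimensional K V] [Nontrivial V] {G : Type w} [Group G] [Finite G]

/-- The critical case: `Q` normal and irreducible, `x` acting semiregularly modulo the centre. -/
theorem deg_of_critical_irreducible (ρ : Representation K G V) (hinj : Function.Injective ρ) {p q : ℕ}
    [hp : Fact p.Prime] [hq : Fact q.Prime] [CharP K p] (hpq : p ≠ q) {Q : Subgroup G} [hQn : Q.Normal]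
    (hQ : IsPGroup q Q) {x : G} {n : ℕ} (hn : 1 ≤ n) (hord : orderOf x = p ^ n)
    (hC : ∀ y ∈ zpowers x, y ≠ 1 → centralizer ({y} : Set G) = zpowers x ⊔ center G)
    (hirr : ∀ W : Submodule K V, (∀ g ∈ Q, ∀ w ∈ W, ρ g w ∈ W) → W = ⊥ ∨ W = ⊤) :
    p ^ n ≤ deg (ρ x) ∨ ∃ b : ℕ, 1 ≤ b ∧ p ^ n = q ^ b + 1 ∧ deg (ρ x) = q ^ b ∧
      ∃ g ∈ Q, ∃ h ∈ Q, g * h ≠ h * g := by
  classical
  by_cases hdeg : p ^ n ≤ deg (ρ x)
  · exact Or.inl hdeg
  right
  have hxP : x ^ p ^ n = 1 := hord ▸ pow_orderOf_eq_one x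
  have hqK : (q : K) ≠ 0 := fun e =>
    hpq ((Nat.prime_dvd_prime_iff_eq hp.out hq.out).1 ((CharP.cast_eq_zero_iff K p q).1 e))
  have hxQ : x ∈ normalizer (Q : Set G) := by rw [Subgroup.normalizer_eq_top]; trivial
  set x₀ := x ^ p ^ (n - 1) with hx₀
  have hx₀1 : x₀ ≠ 1 := fun e => by
    have h1 := Nat.le_of_dvd (pow_pos hp.out.pos _) (hord ▸ orderOf_dvd_of_pow_eq_one e)
    have h2 := (Nat.pow_le_pow_iff_right hp.out.one_lt).1 h1
    omega
  -- a `q`-element commuting with a nontrivial power of `x` is central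
  have hcentral : ∀ y ∈ zpowers x, y ≠ 1 → ∀ u ∈ Q, y * u = u * y → u ∈ center G := by
    intro y hy hy1 u hu hyu
    have hmem : u ∈ ((zpowers x ⊔ center G : Subgroup G) : Set G) :=
      hC y hy hy1 ▸ mem_centralizer_singleton_iff.2 hyu.symm
    rw [mul_normal] at hmem
    obtain ⟨a, ha, z, hz, rfl⟩ := hmem
    obtain ⟨i, rfl⟩ := mem_powers_iff_mem_zpowers.2 ha
    obtain ⟨k, hk⟩ := IsPGroup.iff_orderOf.1 hQ ⟨_, hu⟩
    rw [orderOf_mk] at hk
    have hzc : Commute (x ^ i) z := Subgroup.mem_center_iff.1 hz (x ^ i)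
    have h1 : (x ^ i * z) ^ p ^ n ∈ center G := by
      rw [hzc.mul_pow, ← pow_mul, mul_comm i, pow_mul, hxP, one_pow, one_mul]
      exact pow_mem hz _
    have hco : (p ^ n).Coprime (q ^ k) := (((Nat.coprime_primes hp.out hq.out).2 hpq).pow_left n).pow_right k
    obtain ⟨m, hm⟩ := exists_pow_eq_self_of_coprime (n := p ^ n) (x := x ^ i * z) (hk ▸ hco)
    exact (Eq.subst (motive := fun a => a ∈ center G) hm (pow_mem h1 m) :)
  -- every `x`-invariant abelian subgroup of `Q` is central
  have habel : ∀ A ≤ Q, x ∈ normalizer (A : Set G) → (∀ a ∈ A, ∀ b ∈ A, a * b = b * a) →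
      ∀ a ∈ A, a ∈ center G := by
    intro A hAQ hxA hAc a ha
    refine hcentral x₀ (pow_mem (mem_zpowers x) _) hx₀1 a (hAQ ha) ?_
    by_contra hne
    rcases boundHolds hp.out hq.out hpq hqK _ ρ rfl A x n (hQ.to_le hAQ) hxA (by rw [hxP, map_one]) hn
      ⟨a, ha, fun e => hne (hinj e)⟩ with h | ⟨_, _, -, -, -, -, -, g, hg, g', hg', hne'⟩
    · exact hdeg h
    · exact hne' (by rw [hAc g hg g' hg'])
  have hQnil : Group.IsNilpotent Q := hQ.isNilpotent
  -- `Q` is not abelian
  have hnab : center Q ≠ ⊤ := by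
    intro e
    have hc : ∀ a ∈ Q, a ∈ center G := habel Q le_rfl hxQ fun a ha b hb =>
      congrArg Subtype.val (Subgroup.mem_center_iff.1 (e ▸ mem_top (⟨b, hb⟩ : Q)) ⟨a, ha⟩)
    -- all eigenspaces of `x` are invariant under `Q`
    have heq : Module.End.eigenspace (ρ x) 1 = ⊤ := by
      obtain ⟨c, hcv⟩ := Module.End.exists_eigenvalue (ρ x)
      obtain ⟨v, hv, hv0⟩ := Submodule.exists_mem_ne_zero_of_ne_bot hcv
      rw [Module.End.mem_eigenspace_iff] at hv
      have hpow : ∀ k : ℕ, (ρ x ^ k) v = c ^ k • v := fun k => by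
        induction k with
        | zero => simp
        | succ k ih => rw [pow_succ', Module.End.mul_apply, ih, map_smul, hv, smul_smul, pow_succ]
      have hc1 : c = 1 := by
        have h2 := hpow (p ^ n)
        rw [← map_pow, hxP, map_one, Module.End.one_apply] at h2
        have h3 : c ^ p ^ n = 1 := smul_left_injective K hv0 (h2.symm.trans (one_smul K v).symm)
        refine sub_eq_zero.1 (pow_eq_zero_iff (pow_ne_zero n hp.out.ne_zero) |>.1 ?_)
        rw [sub_pow_char_pow (p := p) (n := n) c 1, h3, one_pow, sub_self]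
      refine (hirr _ fun g hg w hw => ?_).resolve_left ((Submodule.ne_bot_iff _).2
        ⟨v, Module.End.mem_eigenspace_iff.2 (hc1 ▸ hv), hv0⟩)
      rw [Module.End.mem_eigenspace_iff] at hw ⊢
      rw [← Module.End.mul_apply, ← map_mul, Subgroup.mem_center_iff.1 (hc g hg) x, map_mul,
        Module.End.mul_apply, hw, map_smul]
    have hx1 : x = 1 := hinj (LinearMap.ext fun v => by
      rw [map_one, Module.End.one_apply, Module.End.mem_eigenspace_iff.1 (heq ▸ Submodule.mem_top : v ∈ _),
        one_smul])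
    exact hx₀1 (by rw [hx₀, hx1, one_pow])
  have hcrit : Critical ρ Q q :=
    { injective := hinj
      isPGroup := hQ
      scalar := fun z hz => by
        obtain ⟨c, hcv⟩ := Module.End.exists_eigenvalue (ρ (z : G))
        refine ⟨c, LinearMap.ext fun w => ?_⟩
        have h1 : Module.End.eigenspace (ρ (z : G)) c = ⊤ := (hirr _ fun g hg w hw => by
          rw [Module.End.mem_eigenspace_iff] at hw ⊢
          rw [← Module.End.mul_apply, ← map_mul, show (z : G) * g = g * z from (congrArg Subtype.val (Subgroup.mem_center_iff.1 hz ⟨g, hg⟩)).symm, map_mul, Module.End.mul_apply, hw, map_smul]).resolve_left hcv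
        exact Module.End.mem_eigenspace_iff.1 (h1 ▸ Submodule.mem_top)
      classTwo := fun g h => commutator_le_center_of_char_abelian (fun A hA hAc a ha => by
          have hc := habel (A.map Q.subtype) (map_subtype_le _) (by
            rw [Subgroup.normalizer_eq_top]; trivial) (by
            rintro _ ⟨a, ha, rfl⟩ _ ⟨b, hb, rfl⟩
            exact congrArg Subtype.val (congrArg Subtype.val (hAc.is_comm.comm ⟨a, ha⟩ ⟨b, hb⟩)))
            a ⟨a, ha, rfl⟩
          exact Subgroup.mem_center_iff.2 fun g => Subtype.ext (Subgroup.mem_center_iff.1 hc g))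
        (commutator_mem_commutator (mem_top g) (mem_top h))
      nonabelian := hnab }
  have hfree : ∀ (u v : Q) (i : ℕ), 0 < i → i < p ^ n → (v : G) = x ^ i * u * (x ^ i)⁻¹ →
      u⁻¹ * v ∈ center Q → u ∈ center Q := by
    intro u v i hi hiP hv huv
    have hy1 : x ^ i ≠ 1 := fun e => by
      have := Nat.le_of_dvd hi (hord ▸ orderOf_dvd_of_pow_eq_one e)
      omega
    set z : G := (u : G)⁻¹ * v with hz
    obtain ⟨c, hc⟩ := hcrit.scalar _ huv
    have hzc : z ∈ center G := Subgroup.mem_center_iff.2 fun g => hinj (by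
      have e : ρ z = c • (1 : Module.End K V) := hc
      rw [map_mul ρ g z, map_mul ρ z g, e, mul_smul_comm, smul_mul_assoc, mul_one, one_mul])
    -- the cocycle `z` has order dividing both primes' powers
    have hl : ∀ l : ℕ, (x ^ i) ^ l * u * ((x ^ i) ^ l)⁻¹ = u * z ^ l := by
      intro l
      induction l with
      | zero => simp
      | succ l ih =>
        calc (x ^ i) ^ (l + 1) * u * ((x ^ i) ^ (l + 1))⁻¹
            = x ^ i * ((x ^ i) ^ l * u * ((x ^ i) ^ l)⁻¹) * (x ^ i)⁻¹ := by rw [pow_succ']; group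
          _ = (x ^ i * u * (x ^ i)⁻¹) * (x ^ i * z ^ l * (x ^ i)⁻¹) := by rw [ih]; group
          _ = u * z * z ^ l := by
              rw [← hv, Subgroup.mem_center_iff.1 (pow_mem hzc l) (x ^ i), mul_inv_cancel_right, hz,
                mul_inv_cancel_left]
          _ = _ := by rw [pow_succ', mul_assoc]
    have hzp : z ^ p ^ n = 1 := by
      have := hl (p ^ n)
      rwa [← pow_mul, mul_comm i, pow_mul, hxP, one_pow, one_mul, inv_one, mul_one, left_eq_mul] at this
    obtain ⟨k, hk⟩ := IsPGroup.iff_orderOf.1 hQ (u⁻¹ * v)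
    rw [← Subgroup.orderOf_coe, Subgroup.coe_mul, InvMemClass.coe_inv, ← hz] at hk
    have hz1 : z = 1 := orderOf_eq_one_iff.1 (Nat.eq_one_of_dvd_coprimes
      ((((Nat.coprime_primes hp.out hq.out).2 hpq).pow_left n).pow_right k) (orderOf_dvd_of_pow_eq_one hzp)
      (dvd_of_eq hk))
    have h1 := hl 1
    rw [pow_one, pow_one, hz1, mul_one] at h1
    have := hcentral _ (pow_mem (mem_zpowers x) i) hy1 u u.2 (mul_inv_eq_iff_eq_mul.1 h1)
    exact Subgroup.mem_center_iff.2 fun g => Subtype.ext (Subgroup.mem_center_iff.1 this g)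
  rcases hcrit.deg_bound (fun g hg => hQn.conj_mem g hg x) (Nat.one_lt_pow (by omega) hp.out.one_lt) hxP
    hfree (fun W h1 _ => hirr W h1) with h | ⟨b, hb, hPb, hd⟩
  · exact absurd h hdeg
  · refine ⟨b, hb, hPb, hd, ?_⟩
    by_contra hc
    push Not at hc
    exact hnab (eq_top_iff.2 fun a _ => Subgroup.mem_center_iff.2 fun g => Subtype.ext (hc g g.2 a a.2))

end CfsgLib.HallHigman
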