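import Cfsg.Agent.Lib.Coprime.Action
import Mathlib.GroupTheory.Commutator.Basic
import Mathlib.GroupTheory.Nilpotent

/-!
# A `q`-group minimal subject to being moved by a power of an element normalising it
-/

set_option autoImplicit false

namespace CfsgLib.HallHigman

open Subgroup
open scoped commutatorElement

universe u

variable {G : Type u} [Group G]

theorem mem_normalizer_of_conj_mem [Finite G] {Q : Subgroup G} {x : G}
    (h : ∀ g ∈ Q, x * g * x⁻¹ ∈ Q) : x ∈ normalizer (Q : Set G) :=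
  mem_normalizer_iff_map_conj_eq.2 (eq_of_le_of_card_ge (by rintro _ ⟨g, hg, rfl⟩; exact h g hg)
    (card_map_of_injective (MulAut.conj x).injective).ge)

theorem conj_mem_of_mem_normalizer {Q : Subgroup G} {x g : G} (hx : x ∈ normalizer (Q : Set G))
    (hg : g ∈ Q) : x * g * x⁻¹ ∈ Q :=
  (mem_normalizer_iff.1 hx g).1 hg

theorem inv_conj_mem_of_mem_normalizer {Q : Subgroup G} {x g : G} (hx : x ∈ normalizer (Q : Set G))
    (hg : g ∈ Q) : x⁻¹ * g * x ∈ Q := by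
  simpa using conj_mem_of_mem_normalizer (inv_mem hx) hg

theorem normalizer_le_normalizer_commutator (Q : Subgroup G) :
    normalizer (Q : Set G) ≤ normalizer ((⁅Q, Q⁆ : Subgroup G) : Set G) := by
  intro x hx
  rw [mem_normalizer_iff_map_conj_eq] at hx ⊢
  rw [map_commutator, hx]

/-- If `x ^ P = 1` and `P = p ^ n`, a power `x ^ i` with `0 < i < P` generates `x ^ (p ^ (n-1))`, and
indeed the power with exponent the `p`-part of `i`. -/
theorem exists_pow_prime_mem_zpowers {p n i : ℕ} (hp : p.Prime) {x : G} (hxP : x ^ p ^ n = 1)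
    (hi : 0 < i) (hiP : i < p ^ n) :
    ∃ e, e < n ∧ p ^ e ≤ i ∧ x ^ p ^ e ∈ zpowers (x ^ i) := by
  obtain ⟨e, he, hg⟩ := (Nat.dvd_prime_pow hp).1 (Nat.gcd_dvd_right i (p ^ n))
  have hle : p ^ e ≤ i := Nat.le_of_dvd hi (hg ▸ Nat.gcd_dvd_left i (p ^ n))
  refine ⟨e, lt_of_le_of_ne he fun h => absurd (h ▸ hle) (not_le.2 hiP), hle, Nat.gcdA i (p ^ n), ?_⟩
  show (x ^ i) ^ Nat.gcdA i (p ^ n) = x ^ p ^ e
  rw [← zpow_natCast x (p ^ e), ← hg, Nat.gcd_eq_gcd_ab i (p ^ n), zpow_add, zpow_mul, zpow_mul,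
    zpow_natCast, zpow_natCast, hxP, one_zpow, mul_one]

theorem pow_mem_zpowers_of_pos_lt {p n i : ℕ} (hp : p.Prime) {x : G} (hxP : x ^ p ^ n = 1)
    (hi : 0 < i) (hiP : i < p ^ n) : x ^ p ^ (n - 1) ∈ zpowers (x ^ i) := by
  obtain ⟨e, he, -, hmem⟩ := exists_pow_prime_mem_zpowers hp hxP hi hiP
  rw [show p ^ (n - 1) = p ^ e * p ^ (n - 1 - e) by rw [← pow_add]; congr 1; omega, pow_mul]
  exact pow_mem hmem _

/-- `Q` is minimal among the `x`-invariant subgroups which `x₀` does not centralise. -/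
structure MinMoved (Q : Subgroup G) (x x₀ : G) : Prop where
  normalizes : x ∈ normalizer (Q : Set G)
  mem_zpowers : x₀ ∈ zpowers x
  moved : ∃ g ∈ Q, x₀ * g ≠ g * x₀
  minimal : ∀ R ≤ Q, x ∈ normalizer (R : Set G) → R ≠ Q → ∀ g ∈ R, x₀ * g = g * x₀
  coprime : (Nat.card (zpowers x₀)).Coprime (Nat.card Q)

section

variable {Q : Subgroup G} {x x₀ : G}

theorem MinMoved.zpowers_le (h : MinMoved Q x x₀) : zpowers x₀ ≤ normalizer (Q : Set G) :=
  Subgroup.zpowers_le.2 (Subgroup.zpowers_le.2 h.normalizes h.mem_zpowers)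

theorem MinMoved.commutator_le_self (h : MinMoved Q x x₀) : ⁅Q, zpowers x₀⁆ ≤ Q :=
  commutator_le.2 fun g hg a ha => by
    rw [commutatorElement_def, mul_assoc, mul_assoc]
    exact mul_mem hg (by simpa [mul_assoc] using conj_mem_of_mem_normalizer (h.zpowers_le ha) (inv_mem hg))

variable [Finite G]

theorem MinMoved.commutator_eq (h : MinMoved Q x x₀) : ⁅Q, zpowers x₀⁆ = Q := by
  by_contra hne
  have hx : x ∈ normalizer ((⁅Q, zpowers x₀⁆ : Subgroup G) : Set G) := by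
    rw [mem_normalizer_iff_map_conj_eq, map_commutator, MonoidHom.map_zpowers,
      mem_normalizer_iff_map_conj_eq.1 h.normalizes]
    congr 2
    obtain ⟨i, hi⟩ := h.mem_zpowers
    rw [← show x ^ i = x₀ from hi]
    show x * x ^ i * x⁻¹ = x ^ i
    group
  have h2 : ⁅⁅Q, zpowers x₀⁆, zpowers x₀⁆ = ⊥ := commutator_eq_bot_iff_le_centralizer.2 fun g hg =>
    mem_centralizer_iff.2 fun a ha => by
      obtain ⟨i, rfl⟩ := Subgroup.mem_zpowers_iff.1 ha
      exact (Commute.zpow_left (h.minimal _ h.commutator_le_self hx hne g hg) i).eq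
  have h3 := CfsgLib.Coprime.commutator_eq_bot_of_commutator_commutator h.zpowers_le h.coprime
    (Or.inl (by open scoped IsMulCommutative in exact inferInstance)) h2
  obtain ⟨g, hg, hgx⟩ := h.moved
  have : ⁅g, x₀⁆ ∈ ⁅Q, zpowers x₀⁆ := commutator_mem_commutator hg (Subgroup.mem_zpowers x₀)
  rw [h3, mem_bot, commutatorElement_eq_one_iff_mul_comm] at this
  exact hgx this.symm

theorem MinMoved.derived_ne (h : MinMoved Q x x₀) {q : ℕ} [Fact q.Prime] (hQ : IsPGroup q Q) :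
    ⁅Q, Q⁆ ≠ Q := by
  intro e
  have hsol : Group.IsSolvable Q := by
    have := hQ.isNilpotent
    infer_instance
  have : Nontrivial Q := by
    obtain ⟨g, hg, hne⟩ := h.moved
    refine ⟨⟨g, hg⟩, 1, fun e => hne ?_⟩
    rw [show g = 1 from congrArg Subtype.val e, one_mul, mul_one]
  refine (Group.IsSolvable.commutator_lt_top_of_nontrivial Q).ne ?_
  refine Subgroup.map_injective Q.subtype_injective ?_
  rw [Subgroup.map_subtype_commutator, e, ← MonoidHom.range_eq_map, Subgroup.range_subtype]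

theorem MinMoved.derived_central (h : MinMoved Q x x₀) {q : ℕ} [Fact q.Prime] (hQ : IsPGroup q Q) :
    ∀ a ∈ ⁅Q, Q⁆, a ∈ Q ∧ ∀ g ∈ Q, g * a = a * g := by
  set D := ⁅Q, Q⁆ with hD
  have hDQ : D ≤ Q := commutator_le.2 fun a ha b hb => by
    rw [commutatorElement_def]; exact mul_mem (mul_mem (mul_mem ha hb) (inv_mem ha)) (inv_mem hb)
  have hDn : Q ≤ normalizer (D : Set G) := le_normalizer.trans (normalizer_le_normalizer_commutator Q)
  have hDne : D ≠ Q := h.derived_ne hQ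
  have hfix := h.minimal D hDQ (normalizer_le_normalizer_commutator Q h.normalizes) hDne
  have hK : ∀ R : Subgroup G, R ≤ D → ⁅R, zpowers x₀⁆ = ⊥ := fun R hR =>
    commutator_eq_bot_iff_le_centralizer.2 fun a ha => mem_centralizer_iff.2 fun b hb => by
      obtain ⟨i, rfl⟩ := Subgroup.mem_zpowers_iff.1 hb
      exact (Commute.zpow_left (hfix a (hR ha)) i).eq
  have h1 : ⁅⁅zpowers x₀, D⁆, Q⁆ = ⊥ := by
    rw [commutator_comm (zpowers x₀) D, hK D le_rfl, commutator_bot_left]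
  have h2 : ⁅⁅D, Q⁆, zpowers x₀⁆ = ⊥ := hK _ (commutator_le.2 fun a ha b hb => by
    rw [commutatorElement_def, show a * b * a⁻¹ * b⁻¹ = a * (b * a⁻¹ * b⁻¹) by group]
    exact mul_mem ha (conj_mem_of_mem_normalizer (hDn hb) (inv_mem ha)))
  have h3 := commutator_commutator_eq_bot_of_rotate (H₁ := Q) (H₂ := zpowers x₀) (H₃ := D) h1 h2
  rw [h.commutator_eq, commutator_eq_bot_iff_le_centralizer] at h3
  exact fun a ha => ⟨hDQ ha, fun g hg => (mem_centralizer_iff.1 (h3 hg) a ha).symm⟩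

/-- A coset of the centre fixed by some nontrivial power is the centre itself. -/
theorem MinMoved.mem_center_of_fixed_coset (h : MinMoved Q x x₀) {q : ℕ} [Fact q.Prime]
    (hQ : IsPGroup q Q) {y u : G} (hy : y ∈ zpowers x) (hx₀y : x₀ ∈ zpowers y) (hu : u ∈ Q)
    (hfix : ∀ g ∈ Q, g * (u⁻¹ * (y * u * y⁻¹)) = u⁻¹ * (y * u * y⁻¹) * g) :
    ∀ g ∈ Q, g * u = u * g := by
  -- the stabiliser of the coset
  let T : Subgroup G :=
    { carrier := {a | a ∈ normalizer (Q : Set G) ∧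
        ∀ g ∈ Q, g * (u⁻¹ * (a * u * a⁻¹)) = u⁻¹ * (a * u * a⁻¹) * g}
      one_mem' := ⟨one_mem _, fun g _ => by simp⟩
      mul_mem' := fun {a b} ha hb => ⟨mul_mem ha.1 hb.1, fun g hg => by
        have e : u⁻¹ * (a * b * u * (a * b)⁻¹) = u⁻¹ * (a * u * a⁻¹) * (a * (u⁻¹ * (b * u * b⁻¹)) * a⁻¹) := by
          group
        have hc : Commute g (a * (u⁻¹ * (b * u * b⁻¹)) * a⁻¹) := by
          have := hb.2 _ (inv_conj_mem_of_mem_normalizer ha.1 hg)
          show g * _ = _ * g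
          calc g * (a * (u⁻¹ * (b * u * b⁻¹)) * a⁻¹)
              = a * ((a⁻¹ * g * a) * (u⁻¹ * (b * u * b⁻¹))) * a⁻¹ := by group
            _ = a * ((u⁻¹ * (b * u * b⁻¹)) * (a⁻¹ * g * a)) * a⁻¹ := by rw [this]
            _ = _ := by group
        rw [e]
        exact (Commute.mul_right (show Commute g _ from ha.2 g hg) hc).eq⟩
      inv_mem' := fun {a} ha => ⟨inv_mem ha.1, fun g hg => by
        have e : u⁻¹ * (a⁻¹ * u * a⁻¹⁻¹) = a⁻¹ * (u⁻¹ * (a * u * a⁻¹))⁻¹ * a := by group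
        have := ha.2 _ (conj_mem_of_mem_normalizer ha.1 hg)
        rw [e]
        have h2 : Commute (a * g * a⁻¹) (u⁻¹ * (a * u * a⁻¹))⁻¹ := (show Commute _ _ from this).inv_right
        calc g * (a⁻¹ * (u⁻¹ * (a * u * a⁻¹))⁻¹ * a)
            = a⁻¹ * ((a * g * a⁻¹) * (u⁻¹ * (a * u * a⁻¹))⁻¹) * a := by group
          _ = a⁻¹ * ((u⁻¹ * (a * u * a⁻¹))⁻¹ * (a * g * a⁻¹)) * a := by rw [h2.eq]
          _ = _ := by group⟩ }
  have hyT : y ∈ T := ⟨Subgroup.zpowers_le.2 h.normalizes hy, hfix⟩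
  have hxT : x₀ ∈ T := Subgroup.zpowers_le.2 hyT hx₀y
  -- the pairing with `u` is invariant under `x₀`
  set D := ⁅Q, Q⁆
  have hD := h.derived_central hQ
  have hbr : ∀ c ∈ Q, u * c * u⁻¹ * c⁻¹ ∈ D := fun c hc => commutator_mem_commutator hu hc
  have hDne : D ≠ Q := h.derived_ne hQ
  have hDfix := h.minimal D (fun a ha => (hD a ha).1)
    (normalizer_le_normalizer_commutator Q h.normalizes) hDne
  have hinv : ∀ c ∈ Q, u * (x₀ * c * x₀⁻¹) * u⁻¹ * (x₀ * c * x₀⁻¹)⁻¹ = u * c * u⁻¹ * c⁻¹ := by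
    intro c hc
    have hc' : x₀ * c * x₀⁻¹ ∈ Q := conj_mem_of_mem_normalizer hxT.1 hc
    set z := u⁻¹ * (x₀ * u * x₀⁻¹) with hz
    have hzc := hxT.2 _ hc'
    calc u * (x₀ * c * x₀⁻¹) * u⁻¹ * (x₀ * c * x₀⁻¹)⁻¹
        = u * ((x₀ * c * x₀⁻¹) * z) * z⁻¹ * u⁻¹ * (x₀ * c * x₀⁻¹)⁻¹ := by group
      _ = u * (z * (x₀ * c * x₀⁻¹)) * z⁻¹ * u⁻¹ * (x₀ * c * x₀⁻¹)⁻¹ := by rw [← hz] at hzc; rw [hzc]
      _ = x₀ * (u * c * u⁻¹ * c⁻¹) * x₀⁻¹ := by rw [hz]; group
      _ = _ := by rw [hDfix _ (hbr c hc), mul_inv_cancel_right]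
  -- so `u` commutes with the commutators
  have hcen : ⁅Q, zpowers x₀⁆ ≤ centralizer {u} := by
    rw [commutator_comm]
    refine commutator_le.2 fun a ha b hb => ?_
    obtain ⟨l, rfl⟩ := mem_powers_iff_mem_zpowers.2 ha
    have hinvl : ∀ l : ℕ, ∀ c ∈ Q,
        u * (x₀ ^ l * c * (x₀ ^ l)⁻¹) * u⁻¹ * (x₀ ^ l * c * (x₀ ^ l)⁻¹)⁻¹ = u * c * u⁻¹ * c⁻¹ := by
      intro l
      induction l with
      | zero => intro c _; simp
      | succ l ihl =>
        intro c hc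
        have hmem : x₀ ^ l * c * (x₀ ^ l)⁻¹ ∈ Q :=
          conj_mem_of_mem_normalizer (pow_mem hxT.1 l) hc
        rw [← ihl c hc, ← hinv _ hmem, pow_succ']
        group
    rw [mem_centralizer_singleton_iff]
    show x₀ ^ l * b * (x₀ ^ l)⁻¹ * b⁻¹ * u = u * (x₀ ^ l * b * (x₀ ^ l)⁻¹ * b⁻¹)
    set c := x₀ ^ l * b * (x₀ ^ l)⁻¹ * b⁻¹ with hcdef
    have hcQ : c ∈ Q := mul_mem (conj_mem_of_mem_normalizer (pow_mem hxT.1 l) hb) (inv_mem hb)
    have h1 := hinvl l b hb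
    rw [show x₀ ^ l * b * (x₀ ^ l)⁻¹ = c * b by rw [hcdef]; group] at h1
    calc c * u = c * (u * b * u⁻¹ * b⁻¹) * (b * u * b⁻¹) := by group
      _ = (u * b * u⁻¹ * b⁻¹) * c * (b * u * b⁻¹) := by rw [(hD _ (hbr b hb)).2 c hcQ]
      _ = (u * (c * b) * u⁻¹ * (c * b)⁻¹) * c * (b * u * b⁻¹) := by rw [h1]
      _ = u * c := by group
  exact fun g hg => mem_centralizer_singleton_iff.1 (hcen (h.commutator_eq.symm ▸ hg))

end

end CfsgLib.HallHigman
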