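import Cfsg.Agent.Lib.HallHigman.Eigen
import Cfsg.Agent.Lib.HallHigman.MinMoved

/-!
# Hall and Higman's Theorem B, in arbitrary characteristic prime to `q`

`x` normalises the `q`-group `Q`, `x ^ (p ^ n)` acts trivially and `x ^ (p ^ (n - 1))` does not
commute with the action of `Q`. Then the minimal polynomial of `x` has degree at least `p ^ n`,
apart from the exceptional case `p ^ a = q ^ b + 1` with non-abelian action of `Q`, where the degree
is at least `p ^ (n - a) q ^ b`.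
-/

set_option autoImplicit false

namespace CfsgLib.HallHigman

open Module Polynomial

universe u v w

/-- The conclusion of Theorem B for a degree `r`. -/
def DegBound (p q n r : ℕ) (nonab : Prop) : Prop :=
  p ^ n ≤ r ∨ ∃ a b : ℕ, 1 ≤ a ∧ a ≤ n ∧ 1 ≤ b ∧ p ^ a = q ^ b + 1 ∧ p ^ (n - a) * q ^ b ≤ r ∧ nonab

theorem DegBound.mono {p q n r r' : ℕ} {A B : Prop} (h : DegBound p q n r A) (hr : r ≤ r')
    (hAB : A → B) : DegBound p q n r' B := by
  rcases h with h | ⟨a, b, h1, h2, h3, h4, h5, h6⟩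
  · exact Or.inl (h.trans hr)
  · exact Or.inr ⟨a, b, h1, h2, h3, h4, h5.trans hr, hAB h6⟩

theorem DegBound.lift {p q n m r r' : ℕ} {A B : Prop} (h : DegBound p q (n - m) r A) (hm : m ≤ n)
    (hr : p ^ m * r ≤ r') (hAB : A → B) : DegBound p q n r' B := by
  rcases h with h | ⟨a, b, h1, h2, h3, h4, h5, h6⟩
  · refine Or.inl (le_trans ?_ hr)
    calc p ^ n = p ^ m * p ^ (n - m) := by rw [← pow_add, Nat.add_sub_cancel' hm]
      _ ≤ p ^ m * r := Nat.mul_le_mul_left _ h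
  · refine Or.inr ⟨a, b, h1, by omega, h3, h4, le_trans ?_ hr, hAB h6⟩
    calc p ^ (n - a) * q ^ b = p ^ m * (p ^ (n - m - a) * q ^ b) := by
          rw [← mul_assoc, ← pow_add]; congr 2; omega
      _ ≤ p ^ m * r := Nat.mul_le_mul_left _ h5

variable {K : Type u} [Field K]

/-- An element of order prime to the characteristic acting trivially on a subspace and on the
quotient by it is trivial. -/
theorem eq_one_of_unipotent {V : Type v} [AddCommGroup V] [Module K V] {f : Module.End K V} {m : ℕ}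
    (hf : f ^ m = 1) (hm : (m : K) ≠ 0) {W : Submodule K V} (h1 : ∀ w ∈ W, f w = w)
    (h2 : ∀ v, f v - v ∈ W) : f = 1 := by
  refine LinearMap.ext fun v => ?_
  have key : ∀ k : ℕ, (f ^ k) v = v + (k : K) • (f v - v) := by
    intro k
    induction k with
    | zero => simp
    | succ k ih =>
      rw [pow_succ', Module.End.mul_apply, ih, map_add, map_smul, h1 _ (h2 v), Nat.cast_succ,
        add_smul, one_smul]
      abel
  have h3 := key m
  rw [hf, Module.End.one_apply, left_eq_add, smul_eq_zero, sub_eq_zero] at h3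
  exact h3.resolve_left hm

section Reps

variable {G : Type w} [Group G] {V : Type v} [AddCommGroup V] [Module K V]

/-- `ρ` restricted to an invariant subspace. -/
def restrictRep (ρ : Representation K G V) (S : Subgroup G) (W : Submodule K V)
    (h : ∀ s ∈ S, ∀ w ∈ W, ρ s w ∈ W) : Representation K S W where
  toFun s := (ρ (s : G)).restrict (h s s.2)
  map_one' := by ext w; simp
  map_mul' a b := by ext w; simp

theorem restrictRep_apply_coe (ρ : Representation K G V) (S : Subgroup G) (W : Submodule K V)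
    (h : ∀ s ∈ S, ∀ w ∈ W, ρ s w ∈ W) (s : S) (w : W) :
    ((restrictRep ρ S W h s w : W) : V) = ρ (s : G) w := rfl

/-- `ρ` on the quotient by an invariant subspace. -/
def quotientRep (ρ : Representation K G V) (S : Subgroup G) (W : Submodule K V)
    (h : ∀ s ∈ S, ∀ w ∈ W, ρ s w ∈ W) : Representation K S (V ⧸ W) where
  toFun s := W.mapQ W (ρ (s : G)) (fun w hw => h s s.2 w hw)
  map_one' := by ext w; simp
  map_mul' a b := by ext w; simp

/-- Invariance under two generating sets passes to the subgroup generated. -/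
theorem invariant_of_closure [Finite G] (ρ : Representation K G V) (Q : Subgroup G) (x : G)
    (W : Submodule K V) (h1 : ∀ g ∈ Q, ∀ w ∈ W, ρ g w ∈ W) (h2 : ∀ w ∈ W, ρ x w ∈ W) :
    ∀ s ∈ Q ⊔ Subgroup.zpowers x, ∀ w ∈ W, ρ s w ∈ W := by
  let M : Subgroup G :=
    { carrier := {s | ∀ w ∈ W, ρ s w ∈ W}
      one_mem' := fun w hw => by simpa using hw
      mul_mem' := fun {a b} ha hb w hw => by rw [map_mul]; exact ha _ (hb w hw)
      inv_mem' := fun {a} ha w hw => by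
        rw [show a⁻¹ = a ^ (orderOf a - 1) from inv_eq_of_mul_eq_one_right (by
          rw [← pow_succ', Nat.sub_add_cancel (orderOf_pos a), pow_orderOf_eq_one]), map_pow]
        generalize orderOf a - 1 = k
        induction k with
        | zero => exact hw
        | succ k ihk => rw [pow_succ', Module.End.mul_apply]; exact ha _ ihk }
  exact fun s hs => (sup_le (fun g hg => h1 g hg) (Subgroup.zpowers_le.2 h2) :
    Q ⊔ Subgroup.zpowers x ≤ M) hs

/-- The eigenspace of a character of `Z`. -/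
def charSpace (ρ : Representation K G V) (Z : Subgroup G) (χ : G → K) : Submodule K V where
  carrier := {w | ∀ z ∈ Z, ρ z w = χ z • w}
  zero_mem' g _ := by simp
  add_mem' {a b} ha hb g hg := by rw [map_add, ha g hg, hb g hg, smul_add]
  smul_mem' c a ha g hg := by rw [map_smul, ha g hg, smul_comm]

/-- The normalising elements fixing a character. -/
def charStabilizer (Z : Subgroup G) (χ : G → K) : Subgroup G where
  carrier := {y | y ∈ Subgroup.normalizer (Z : Set G) ∧ ∀ z ∈ Z, χ (y⁻¹ * z * y) = χ z}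
  one_mem' := ⟨one_mem _, fun z _ => by simp⟩
  mul_mem' {a b} ha hb := ⟨mul_mem ha.1 hb.1, fun z hz => by
    rw [← ha.2 z hz, ← hb.2 _ (inv_conj_mem_of_mem_normalizer ha.1 hz)]
    congr 1
    group⟩
  inv_mem' {a} ha := ⟨inv_mem ha.1, fun z hz => by
    have := ha.2 _ (conj_mem_of_mem_normalizer ha.1 hz)
    simp [mul_assoc] at this ⊢
    exact this.symm⟩

theorem charSpace_map_mem {ρ : Representation K G V} {Z : Subgroup G} {χ : G → K} {y : G}
    (hy : y ∈ charStabilizer Z χ) {w : V} (hw : w ∈ charSpace ρ Z χ) :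
    ρ y w ∈ charSpace ρ Z χ := by
  intro z hz
  rw [← Module.End.mul_apply, ← map_mul, show z * y = y * (y⁻¹ * z * y) by group, map_mul,
    Module.End.mul_apply, hw _ (inv_conj_mem_of_mem_normalizer hy.1 hz), map_smul, hy.2 z hz]

/-- The translates of a character space are independent up to the least stabilising power. -/
theorem charSpace_translates (ρ : Representation K G V) (Z : Subgroup G) {x : G}
    (hxZ : x ∈ Subgroup.normalizer (Z : Set G)) (χ : G → K) {o : ℕ}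
    (ho : ∀ i, 0 < i → i < o → x ^ i ∉ charStabilizer Z χ) {W : Submodule K V}
    (hW : W ≤ charSpace ρ Z χ) (w : Fin o → W)
    (hw : ∑ i : Fin o, (ρ x ^ (i : ℕ)) (w i : V) = 0) (i : Fin o) : w i = 0 := by
  have hindep := eq_zero_of_sum_eigen ρ Z
    (fun (j : Fin o) z => χ ((x ^ (j : ℕ))⁻¹ * z * x ^ (j : ℕ))) ?_
    (fun j => (ρ x ^ (j : ℕ)) (w j : V)) ?_ hw i
  · refine Subtype.ext ?_
    have h2 : ρ ((x ^ (i : ℕ))⁻¹) ((ρ x ^ (i : ℕ)) (w i : V)) = 0 := by
      rw [show (ρ x ^ (i : ℕ)) (w i : V) = 0 from hindep, map_zero]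
    rwa [← map_pow, ← Module.End.mul_apply, ← map_mul, inv_mul_cancel, map_one] at h2
  · intro a b hab
    wlog hle : (a : ℕ) ≤ b generalizing a b
    · exact (this b a (fun z hz => (hab z hz).symm) (le_of_not_ge hle)).symm
    by_contra hne
    have hlt : (a : ℕ) < b := lt_of_le_of_ne hle fun e => hne (Fin.ext e)
    refine ho ((b : ℕ) - a) (by omega) (by omega) ⟨pow_mem hxZ _, fun z hz => ?_⟩
    have h3 := hab (x ^ (a : ℕ) * z * (x ^ (a : ℕ))⁻¹) (conj_mem_of_mem_normalizer (pow_mem hxZ _) hz)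
    have e : x ^ (b : ℕ) = x ^ (a : ℕ) * x ^ ((b : ℕ) - a) := by
      rw [← pow_add, Nat.add_sub_cancel' hle]
    rw [e] at h3
    simp only [mul_inv_rev, mul_assoc, inv_mul_cancel_left, inv_mul_cancel, mul_one] at h3
    simp only [mul_assoc]
    exact h3.symm
  · intro j z hz
    rw [← map_pow, ← Module.End.mul_apply, ← map_mul,
      show z * x ^ (j : ℕ) = x ^ (j : ℕ) * ((x ^ (j : ℕ))⁻¹ * z * x ^ (j : ℕ)) by group,
      map_mul, Module.End.mul_apply, hW (w j).2 _ (inv_conj_mem_of_mem_normalizer (pow_mem hxZ _) hz),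
      map_smul]

end Reps

variable [IsAlgClosed K]

/-- Theorem B in dimension `d`. -/
def BoundHolds (K : Type u) [Field K] (p q d : ℕ) : Prop :=
  ∀ {G : Type w} [Group G] [Finite G] {V : Type v} [AddCommGroup V] [Module K V]
    [FiniteDimensional K V] (ρ : Representation K G V), finrank K V = d →
    ∀ (Q : Subgroup G) (x : G) (n : ℕ), IsPGroup q Q → x ∈ Subgroup.normalizer (Q : Set G) →
      ρ (x ^ p ^ n) = 1 → 1 ≤ n →
      (∃ g ∈ Q, ρ (x ^ p ^ (n - 1) * g) ≠ ρ (g * x ^ p ^ (n - 1))) →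
      DegBound p q n (deg (ρ x)) (∃ g ∈ Q, ∃ h ∈ Q, ρ (g * h) ≠ ρ (h * g))

section Faithful

variable {p q : ℕ} {G : Type w} [Group G] [Finite G] {V : Type v} [AddCommGroup V] [Module K V]
  [FiniteDimensional K V] (ρ : Representation K G V) {Q : Subgroup G} {x : G} {n : ℕ}

omit [IsAlgClosed K] in
/-- A proper invariant subspace reduces the dimension. -/
theorem degBound_of_invariant (hq : q.Prime) (hqK : (q : K) ≠ 0)
    (ih : ∀ m < finrank K V, BoundHolds.{u, v, w} K p q m) (hinj : Function.Injective ρ)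
    (hQ : IsPGroup q Q) (hxQ : x ∈ Subgroup.normalizer (Q : Set G)) (hxP : x ^ p ^ n = 1) (hn : 1 ≤ n)
    (hmov : ∃ g ∈ Q, x ^ p ^ (n - 1) * g ≠ g * x ^ p ^ (n - 1))
    {W : Submodule K V} (hW1 : ∀ g ∈ Q, ∀ w ∈ W, ρ g w ∈ W) (hW2 : ∀ w ∈ W, ρ x w ∈ W)
    (hWb : W ≠ ⊥) (hWt : W ≠ ⊤) :
    DegBound p q n (deg (ρ x)) (∃ g ∈ Q, ∃ h ∈ Q, g * h ≠ h * g) := by
  have := Fact.mk hq
  set S := Q ⊔ Subgroup.zpowers x
  have hWS := invariant_of_closure ρ Q x W hW1 hW2
  have hQS : Q ≤ S := le_sup_left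
  have hxS : x ∈ S := Subgroup.mem_sup_right (Subgroup.mem_zpowers x)
  have hQ' : IsPGroup q (Q.subgroupOf S) := hQ.of_equiv (Subgroup.subgroupOfEquivOfLe hQS).symm
  have hxQ' : (⟨x, hxS⟩ : S) ∈ Subgroup.normalizer ((Q.subgroupOf S : Subgroup S) : Set S) :=
    mem_normalizer_of_conj_mem fun g hg => (conj_mem_of_mem_normalizer hxQ (Subgroup.mem_subgroupOf.1 hg) : x * (g : G) * x⁻¹ ∈ Q)
  have hxP' : (⟨x, hxS⟩ : S) ^ p ^ n = 1 := Subtype.ext hxP
  have step : ∀ (W' : Type v) [AddCommGroup W'] [Module K W'] [FiniteDimensional K W']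
      (σ : Representation K S W'), finrank K W' < finrank K V → deg (σ ⟨x, hxS⟩) ≤ deg (ρ x) →
      (∃ (g : G) (hg : g ∈ Q),
        σ (⟨x, hxS⟩ ^ p ^ (n - 1) * ⟨g, hQS hg⟩) ≠ σ (⟨g, hQS hg⟩ * ⟨x, hxS⟩ ^ p ^ (n - 1))) →
      DegBound p q n (deg (ρ x)) (∃ g ∈ Q, ∃ h ∈ Q, g * h ≠ h * g) := by
    intro W' _ _ _ σ hlt hdeg ⟨g, hg, hne⟩
    refine (ih _ hlt σ rfl (Q.subgroupOf S) ⟨x, hxS⟩ n hQ' hxQ' (by rw [hxP', map_one]) hn
      ⟨⟨g, hQS hg⟩, hg, hne⟩).mono hdeg ?_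
    rintro ⟨a, ha, b, hb, hab⟩
    exact ⟨a, ha, b, hb, fun e => hab (congrArg σ (Subtype.ext e))⟩
  by_cases hm₁ : ∃ (g : G) (hg : g ∈ Q), restrictRep ρ S W hWS (⟨x, hxS⟩ ^ p ^ (n - 1) * ⟨g, hQS hg⟩)
      ≠ restrictRep ρ S W hWS (⟨g, hQS hg⟩ * ⟨x, hxS⟩ ^ p ^ (n - 1))
  · exact step W _ (Submodule.finrank_lt hWt) (deg_restrict_le fun w hw => hWS x hxS w hw) hm₁
  push Not at hm₁
  refine step (V ⧸ W) (quotientRep ρ S W hWS) ?_ (deg_mapQ_le fun w hw => hWS x hxS w hw) ?_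
  · have h1 := W.finrank_quotient_add_finrank
    have h2 : 0 < finrank K W := by
      have : Nontrivial W := Submodule.nontrivial_iff_ne_bot.2 hWb
      exact Module.finrank_pos
    omega
  by_contra hm₂
  push Not at hm₂
  obtain ⟨g, hg, hne⟩ := hmov
  apply hne
  -- the commutator is unipotent of order prime to the characteristic
  set x₀ := x ^ p ^ (n - 1) with hx₀
  set c := x₀ * g * x₀⁻¹ * g⁻¹ with hc
  have hcQ : c ∈ Q := mul_mem (conj_mem_of_mem_normalizer (pow_mem hxQ _) hg) (inv_mem hg)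
  obtain ⟨k, hk⟩ := IsPGroup.iff_orderOf.1 hQ ⟨c, hcQ⟩
  rw [Subgroup.orderOf_mk] at hk
  have hσ : ∀ {W' : Type v} [AddCommGroup W'] [Module K W'] (σ : Representation K S W')
      (a b : S), σ (a * b) = σ (b * a) → σ (a * b * a⁻¹ * b⁻¹) = 1 := by
    intro W' _ _ σ a b e
    rw [mul_assoc (a * b), map_mul, e, ← map_mul]
    simp [mul_assoc]
  have h1 : ∀ w ∈ W, ρ c w = w := fun w hw =>
    congrArg Subtype.val (LinearMap.congr_fun (hσ _ _ _ (hm₁ g hg)) ⟨w, hw⟩)
  have h2 : ∀ v, ρ c v - v ∈ W := fun v => by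
    have := LinearMap.congr_fun (hσ (quotientRep ρ S W hWS) _ _ (hm₂ g hg)) (Submodule.Quotient.mk v)
    rw [← Submodule.Quotient.mk_eq_zero, Submodule.Quotient.mk_sub]
    exact sub_eq_zero.2 this
  have hρc : ρ c = 1 := eq_one_of_unipotent (m := q ^ k)
    (by rw [← map_pow, ← hk, pow_orderOf_eq_one, map_one])
    (by rw [Nat.cast_pow]; exact pow_ne_zero _ hqK) h1 h2
  have hc1 : c = 1 := hinj (by rw [hρc, map_one])
  rwa [hc, mul_inv_eq_one, mul_inv_eq_iff_eq_mul] at hc1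

variable {x₀ : G}

omit [IsAlgClosed K] [Finite G] [FiniteDimensional K V] in
/-- Nothing is fixed by a minimal moved subgroup in the irreducible case. -/
theorem eq_zero_of_fixed (hinj : Function.Injective ρ) (h : MinMoved Q x x₀)
    (hirr : ∀ W : Submodule K V, (∀ g ∈ Q, ∀ w ∈ W, ρ g w ∈ W) → (∀ w ∈ W, ρ x w ∈ W) →
      W = ⊥ ∨ W = ⊤) {v : V} (hv : ∀ g ∈ Q, ρ g v = v) : v = 0 := by
  by_contra hv0
  have hmem : ∀ w, w ∈ charSpace ρ Q (fun _ => 1) ↔ ∀ g ∈ Q, ρ g w = w := fun w =>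
    forall₂_congr fun g _ => by rw [one_smul]
  have hWt : charSpace ρ Q (fun _ => (1 : K)) = ⊤ := (hirr _ (fun g hg w hw => by
      rw [(hmem w).1 hw g hg]; exact hw)
    fun w hw => charSpace_map_mem (χ := fun _ => (1 : K)) ⟨h.normalizes, fun _ _ => rfl⟩ hw).resolve_left
      ((Submodule.ne_bot_iff _).2 ⟨v, (hmem v).2 hv, hv0⟩)
  obtain ⟨g, hg, hgx⟩ := h.moved
  have hg1 : g = 1 := hinj (LinearMap.ext fun w => by
    rw [map_one]; exact (hmem w).1 (hWt ▸ Submodule.mem_top) g hg)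
  exact hgx (by rw [hg1, mul_one, one_mul])

/-- An abelian minimal moved subgroup forces the full degree. -/
theorem le_deg_of_abelian (hinj : Function.Injective ρ) [Nontrivial V] (hp : p.Prime)
    (h : MinMoved Q x (x ^ p ^ (n - 1))) (hxP : x ^ p ^ n = 1)
    (hirr : ∀ W : Submodule K V, (∀ g ∈ Q, ∀ w ∈ W, ρ g w ∈ W) → (∀ w ∈ W, ρ x w ∈ W) →
      W = ⊥ ∨ W = ⊤) (hab : ∀ g ∈ Q, ∀ g' ∈ Q, g * g' = g' * g) : p ^ n ≤ deg (ρ x) := by
  obtain ⟨v, χ, hv, hχ⟩ := exists_common_eigvec ρ Q hab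
  have hnot : ∀ i, 0 < i → i < p ^ n → x ^ i ∉ charStabilizer Q χ := by
    intro i hi hiP hst
    have hx₀ : x ^ p ^ (n - 1) ∈ charStabilizer Q χ :=
      Subgroup.zpowers_le.2 hst (pow_mem_zpowers_of_pos_lt hp hxP hi hiP)
    refine hv (eq_zero_of_fixed ρ hinj h hirr fun g hg => ?_)
    let M : Subgroup G :=
      { carrier := {g | ρ g v = v}
        one_mem' := by simp
        mul_mem' := fun {a b} ha hb => by
          show ρ (a * b) v = v
          rw [map_mul, Module.End.mul_apply, show ρ b v = v from hb, show ρ a v = v from ha]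
        inv_mem' := fun {a} ha => by
          show ρ a⁻¹ v = v
          conv_lhs => rw [← show ρ a v = v from ha]
          exact rep_inv_apply_self ρ a v }
    refine (?_ : ⁅Q, Subgroup.zpowers (x ^ p ^ (n - 1))⁆ ≤ M) (h.commutator_eq.symm ▸ hg)
    refine Subgroup.commutator_le.2 fun a ha b hb => ?_
    have hbst := Subgroup.zpowers_le.2 hx₀ hb
    have h1 : b * a⁻¹ * b⁻¹ ∈ Q := conj_mem_of_mem_normalizer hbst.1 (inv_mem ha)
    show ρ (a * b * a⁻¹ * b⁻¹) v = v
    rw [show a * b * a⁻¹ * b⁻¹ = a * (b * a⁻¹ * b⁻¹) by group, map_mul, Module.End.mul_apply,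
      hχ _ h1]
    have h2 : χ (b * a⁻¹ * b⁻¹) = χ a⁻¹ := by
      rw [← hbst.2 _ h1]
      congr 1
      group
    rw [h2, ← hχ _ (inv_mem ha)]
    exact rep_self_apply_inv ρ a v
  refine le_deg_of_forall_eq_zero (ρ x) (w := v) fun g hg hgv => ?_
  refine Polynomial.ext fun k => ?_
  rw [coeff_zero]
  by_cases hk : k < p ^ n
  · have hsum : ∑ j : Fin (p ^ n), (ρ x ^ (j : ℕ)) (g.coeff j • v) = 0 := by
      rw [← hgv, Polynomial.aeval_eq_sum_range' hg, LinearMap.sum_apply,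
        Finset.sum_range (fun j => (g.coeff j • (ρ x) ^ j) v)]
      exact Finset.sum_congr rfl fun j _ => by rw [map_smul]; rfl
    have h0 := charSpace_translates ρ Q h.normalizes χ hnot
      (W := K ∙ v) ((Submodule.span_singleton_le_iff_mem _ _).2 hχ)
      (fun j => ⟨g.coeff j • v, Submodule.smul_mem _ _ (Submodule.mem_span_singleton_self v)⟩)
      hsum ⟨k, hk⟩
    exact (smul_eq_zero.1 (congrArg Subtype.val h0)).resolve_right hv
  · exact coeff_eq_zero_of_natDegree_lt (by omega)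

/-- Non-abelian `Q` with non-scalar centre reduces the dimension. -/
theorem degBound_of_eigenspace (hq : q.Prime) (hp : p.Prime)
    (ih : ∀ m < finrank K V, BoundHolds.{u, v, w} K p q m) (hinj : Function.Injective ρ)
    (h : MinMoved Q x (x ^ p ^ (n - 1))) (hQ : IsPGroup q Q) (hxP : x ^ p ^ n = 1) (hn : 1 ≤ n)
    (hirr : ∀ W : Submodule K V, (∀ g ∈ Q, ∀ w ∈ W, ρ g w ∈ W) → (∀ w ∈ W, ρ x w ∈ W) →
      W = ⊥ ∨ W = ⊤) {Z : Subgroup G} (hZle : Z ≤ Q) (hZc : ∀ z ∈ Z, ∀ g ∈ Q, g * z = z * g)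
    (hxZ : x ∈ Subgroup.normalizer (Z : Set G)) (hZne : Z ≠ Q) {χ : G → K}
    (hWb : charSpace ρ Z χ ≠ ⊥) (hWt : charSpace ρ Z χ ≠ ⊤) :
    DegBound p q n (deg (ρ x)) (∃ g ∈ Q, ∃ g' ∈ Q, g * g' ≠ g' * g) := by
  classical
  have := Fact.mk hq
  set x₀ := x ^ p ^ (n - 1) with hx₀
  set W := charSpace ρ Z χ with hW
  have hZfix := h.minimal Z hZle hxZ hZne
  have hst : x₀ ∈ charStabilizer Z χ := ⟨pow_mem hxZ _, fun z hz => by
    rw [mul_assoc, ← hZfix z hz, inv_mul_cancel_left]⟩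
  have hex : ∃ m, x ^ p ^ m ∈ charStabilizer Z χ := ⟨n - 1, hst⟩
  set m := Nat.find hex
  have hm : m ≤ n - 1 := Nat.find_min' hex hst
  have hmst : x ^ p ^ m ∈ charStabilizer Z χ := Nat.find_spec hex
  set o := p ^ m with ho
  have hnot : ∀ i, 0 < i → i < o → x ^ i ∉ charStabilizer Z χ := by
    intro i hi hio hsti
    have hiP : i < p ^ n := lt_of_lt_of_le hio (Nat.pow_le_pow_right hp.pos (by omega))
    obtain ⟨e, -, hei, hmem⟩ := exists_pow_prime_mem_zpowers hp hxP hi hiP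
    have hme : m ≤ e := Nat.find_min' hex (Subgroup.zpowers_le.2 hsti hmem)
    have : o ≤ p ^ e := Nat.pow_le_pow_right hp.pos hme
    omega
  have hWQ : ∀ g ∈ Q, ∀ w ∈ W, ρ g w ∈ W := fun g hg w hw z hz => by
    rw [← Module.End.mul_apply, ← map_mul, ← hZc z hz g hg, map_mul, Module.End.mul_apply, hw z hz,
      map_smul]
  have hWo : ∀ w ∈ W, ρ (x ^ o) w ∈ W := fun w hw => charSpace_map_mem hmst hw
  set S := Q ⊔ Subgroup.zpowers (x ^ o)
  have hWS := invariant_of_closure ρ Q (x ^ o) W hWQ hWo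
  have hQS : Q ≤ S := le_sup_left
  have hxS : x ^ o ∈ S := Subgroup.mem_sup_right (Subgroup.mem_zpowers _)
  set σ := restrictRep ρ S W hWS
  have hpow : (x ^ o) ^ p ^ (n - m - 1) = x₀ := by
    rw [hx₀, ho, ← pow_mul, ← pow_add]; congr 2; omega
  have : Nontrivial W := Submodule.nontrivial_iff_ne_bot.2 hWb
  have hmov : ∃ g ∈ Q.subgroupOf S, σ ((⟨x ^ o, hxS⟩ : S) ^ p ^ (n - m - 1) * g)
      ≠ σ (g * (⟨x ^ o, hxS⟩ : S) ^ p ^ (n - m - 1)) := by
    by_contra hc
    push Not at hc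
    let M : Subgroup G :=
      { carrier := {g | ∀ w ∈ W, ρ g w = w}
        one_mem' := fun w _ => by simp
        mul_mem' := fun {a b} ha hb w hw => by
          rw [map_mul, Module.End.mul_apply, hb w hw, ha w hw]
        inv_mem' := fun {a} ha w hw => by
          conv_lhs => rw [← ha w hw]
          exact rep_inv_apply_self ρ a w }
    have hCM : ⁅Q, Subgroup.zpowers x₀⁆ ≤ M := by
      refine Subgroup.commutator_le.2 fun a ha b hb => ?_
      obtain ⟨l, rfl⟩ := mem_powers_iff_mem_zpowers.2 hb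
      have hx₀S : x₀ ∈ S := hpow ▸ pow_mem hxS _
      have e : Commute (σ ⟨a, hQS ha⟩) (σ ⟨x₀, hx₀S⟩) := by
        show σ _ * σ _ = σ _ * σ _
        rw [← map_mul, ← map_mul]
        have := (hc ⟨a, hQS ha⟩ ha).symm
        rwa [show ((⟨x ^ o, hxS⟩ : S) ^ p ^ (n - m - 1)) = ⟨x₀, hx₀S⟩ from Subtype.ext hpow] at this
      have e2 := (e.pow_right l).eq
      rw [← map_pow, ← map_mul, ← map_mul] at e2
      intro w hw
      have e3 := congrArg Subtype.val (LinearMap.congr_fun e2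
        ⟨ρ (a⁻¹ * (x₀ ^ l)⁻¹) w, hWS _ (mul_mem (inv_mem (hQS ha)) (inv_mem (pow_mem hx₀S l))) w hw⟩)
      simp only [σ, restrictRep_apply_coe, Subgroup.coe_mul, SubgroupClass.coe_pow,
        ← Module.End.mul_apply, ← map_mul] at e3
      rw [commutatorElement_def]
      simp only [mul_assoc, mul_inv_cancel_left, mul_inv_cancel, map_one, Module.End.one_apply] at e3 ⊢
      exact e3
    obtain ⟨v, hv, hv0⟩ := Submodule.exists_mem_ne_zero_of_ne_bot hWb
    exact hv0 (eq_zero_of_fixed ρ hinj h hirr fun g hg => hCM (h.commutator_eq.symm ▸ hg) v hv)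
  have hlt : finrank K W < finrank K V := Submodule.finrank_lt hWt
  have hxP' : (⟨x ^ o, hxS⟩ : S) ^ p ^ (n - m) = 1 := Subtype.ext (by
    show (x ^ o) ^ p ^ (n - m) = 1
    rw [ho, ← pow_mul, ← pow_add, show m + (n - m) = n by omega, hxP])
  have hb := ih _ hlt σ rfl (Q.subgroupOf S) ⟨x ^ o, hxS⟩ (n - m)
    (hQ.of_equiv (Subgroup.subgroupOfEquivOfLe hQS).symm)
    (mem_normalizer_of_conj_mem fun g hg => (conj_mem_of_mem_normalizer (pow_mem h.normalizes o)
      (Subgroup.mem_subgroupOf.1 hg) : x ^ o * (g : G) * (x ^ o)⁻¹ ∈ Q))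
    (by rw [hxP', map_one]) (by omega) hmov
  refine hb.lift (by omega) ?_ ?_
  · have h1 := mul_deg_restrict_le (x := ρ x) (o := o) (W := W)
      (fun w hw => by rw [← map_pow]; exact hWo w hw)
      (charSpace_translates ρ Z hxZ χ hnot (le_of_eq hW))
    refine le_trans (le_of_eq ?_) h1
    congr 2
    exact LinearMap.ext fun w => Subtype.ext (by simp [σ, restrictRep_apply_coe, map_pow])
  · rintro ⟨a, ha, b, hb, hab⟩
    exact ⟨a, ha, b, hb, fun e => hab (congrArg σ (Subtype.ext e))⟩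

/-- Theorem B for a faithful representation. -/
theorem degBound_of_injective (hp : p.Prime) (hq : q.Prime) (hpq : p ≠ q) (hqK : (q : K) ≠ 0)
    (ih : ∀ m < finrank K V, BoundHolds.{u, v, w} K p q m) (hinj : Function.Injective ρ)
    (hQ : IsPGroup q Q) (hxQ : x ∈ Subgroup.normalizer (Q : Set G)) (hxP : x ^ p ^ n = 1) (hn : 1 ≤ n)
    (hmov : ∃ g ∈ Q, x ^ p ^ (n - 1) * g ≠ g * x ^ p ^ (n - 1)) :
    DegBound p q n (deg (ρ x)) (∃ g ∈ Q, ∃ h ∈ Q, g * h ≠ h * g) := by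
  have := Fact.mk hq
  obtain ⟨Q₁, ⟨hQ₁le, hxQ₁, hmov₁⟩, hQmin⟩ := wellFounded_lt.has_min
    {R : Subgroup G | R ≤ Q ∧ x ∈ Subgroup.normalizer (R : Set G) ∧
      ∃ g ∈ R, x ^ p ^ (n - 1) * g ≠ g * x ^ p ^ (n - 1)} ⟨Q, le_rfl, hxQ, hmov⟩
  have hQ₁ : IsPGroup q Q₁ := hQ.to_le hQ₁le
  suffices main : DegBound p q n (deg (ρ x)) (∃ g ∈ Q₁, ∃ h ∈ Q₁, g * h ≠ h * g) from
    main.mono le_rfl fun ⟨g, hg, h, hh, hne⟩ => ⟨g, hQ₁le hg, h, hQ₁le hh, hne⟩
  have h : MinMoved Q₁ x (x ^ p ^ (n - 1)) :=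
    { normalizes := hxQ₁
      mem_zpowers := pow_mem (Subgroup.mem_zpowers x) _
      moved := hmov₁
      minimal := fun R hR hRx hne g hg => by
        by_contra hc
        exact hQmin R ⟨hR.trans hQ₁le, hRx, g, hg, hc⟩ (lt_of_le_of_ne hR hne)
      coprime := by
        obtain ⟨k, hk⟩ := IsPGroup.iff_card.1 hQ₁
        rw [hk, Nat.card_zpowers]
        refine ((((Nat.coprime_primes hp hq).2 hpq).pow_right k).coprime_dvd_left
          (orderOf_dvd_of_pow_eq_one ?_))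
        rw [← pow_mul, ← pow_succ, Nat.sub_add_cancel hn, hxP] }
  by_cases hirr : ∀ W : Submodule K V, (∀ g ∈ Q₁, ∀ w ∈ W, ρ g w ∈ W) →
      (∀ w ∈ W, ρ x w ∈ W) → W = ⊥ ∨ W = ⊤
  swap
  · push Not at hirr
    obtain ⟨W, hW1, hW2, hWb, hWt⟩ := hirr
    exact degBound_of_invariant ρ hq hqK ih hinj hQ₁ hxQ₁ hxP hn hmov₁ hW1 hW2 hWb hWt
  have : Nontrivial V := by
    by_contra hT
    rw [not_nontrivial_iff_subsingleton] at hT
    obtain ⟨g, hg, hne⟩ := hmov₁
    exact hne (hinj (LinearMap.ext fun _ => Subsingleton.elim _ _))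
  by_cases hab : ∀ g ∈ Q₁, ∀ g' ∈ Q₁, g * g' = g' * g
  · exact Or.inl (le_deg_of_abelian ρ hinj hp h hxP hirr hab)
  push Not at hab
  set Z : Subgroup G := (Subgroup.center Q₁).map Q₁.subtype with hZ
  have hZle : Z ≤ Q₁ := Subgroup.map_subtype_le _
  have hZc : ∀ z ∈ Z, ∀ g ∈ Q₁, g * z = z * g := by
    rintro _ ⟨y, hy, rfl⟩ g hg
    exact congrArg Subtype.val (Subgroup.mem_center_iff.1 hy ⟨g, hg⟩)
  have hZmem : ∀ z ∈ Q₁, (∀ g ∈ Q₁, g * z = z * g) → z ∈ Z := fun z hz hc =>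
    ⟨⟨z, hz⟩, Subgroup.mem_center_iff.2 fun g => Subtype.ext (hc g g.2), rfl⟩
  have hxZ : x ∈ Subgroup.normalizer (Z : Set G) := mem_normalizer_of_conj_mem fun z hz =>
    hZmem _ (conj_mem_of_mem_normalizer hxQ₁ (hZle hz)) fun g hg => by
      have := hZc z hz _ (inv_conj_mem_of_mem_normalizer hxQ₁ hg)
      calc g * (x * z * x⁻¹) = x * ((x⁻¹ * g * x) * z) * x⁻¹ := by group
        _ = x * (z * (x⁻¹ * g * x)) * x⁻¹ := by rw [this]
        _ = x * z * x⁻¹ * g := by group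
  have hZne : Z ≠ Q₁ := fun e => by
    obtain ⟨g, hg, g', hg', hne⟩ := hab
    exact hne (hZc g' (e.symm ▸ hg') g hg)
  obtain ⟨v, χ, hv, hχ⟩ := exists_common_eigvec ρ Z fun a ha b hb => hZc b hb a (hZle ha)
  by_cases hWt : charSpace ρ Z χ = ⊤
  swap
  · exact degBound_of_eigenspace ρ hq hp ih hinj h hQ₁ hxP hn hirr hZle hZc hxZ hZne
      ((Submodule.ne_bot_iff _).2 ⟨v, hχ, hv⟩) hWt
  -- the critical case
  have hcrit : Critical ρ Q₁ q :=
    { injective := hinj
      isPGroup := hQ₁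
      scalar := fun z hz => ⟨χ z, LinearMap.ext fun w => by
        have hw : w ∈ charSpace ρ Z χ := hWt ▸ Submodule.mem_top
        exact hw z ⟨z, hz, rfl⟩⟩
      classTwo := fun g g' => Subgroup.mem_center_iff.2 fun k => Subtype.ext
        ((h.derived_central hQ₁ _ (Subgroup.commutator_mem_commutator g.2 g'.2)).2 k k.2)
      nonabelian := fun e => by
        obtain ⟨g, hg, g', hg', hne⟩ := hab
        exact hne (congrArg Subtype.val (Subgroup.mem_center_iff.1
          (e ▸ Subgroup.mem_top _ : (⟨g', hg'⟩ : Q₁) ∈ Subgroup.center Q₁) ⟨g, hg⟩)) }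
  have hfree : ∀ (u v : Q₁) (i : ℕ), 0 < i → i < p ^ n → (v : G) = x ^ i * u * (x ^ i)⁻¹ →
      u⁻¹ * v ∈ Subgroup.center Q₁ → u ∈ Subgroup.center Q₁ := fun u v i hi hiP hv huv =>
    Subgroup.mem_center_iff.2 fun g => Subtype.ext
      (h.mem_center_of_fixed_coset hQ₁ (pow_mem (Subgroup.mem_zpowers x) i)
        (pow_mem_zpowers_of_pos_lt hp hxP hi hiP) u.2 (fun g hg => by
          rw [← hv]
          exact congrArg Subtype.val (Subgroup.mem_center_iff.1 huv ⟨g, hg⟩)) g g.2)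
  rcases hcrit.deg_bound (fun g hg => conj_mem_of_mem_normalizer hxQ₁ hg)
    (Nat.one_lt_pow (by omega) hp.one_lt) hxP hfree hirr with hdeg | ⟨b, hb, hPb, hdb⟩
  · exact Or.inl hdeg
  · exact Or.inr ⟨n, b, hn, le_rfl, hb, hPb, by simp [hdb], hab⟩

end Faithful

/-- **Theorem B** of Hall and Higman. -/
theorem boundHolds {p q : ℕ} (hp : p.Prime) (hq : q.Prime) (hpq : p ≠ q) (hqK : (q : K) ≠ 0) :
    ∀ d, BoundHolds.{u, v, w} K p q d := by
  intro d
  induction d using Nat.strong_induction_on with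
  | _ d ih =>
    intro G _ _ V _ _ _ ρ hd Q x n hQ hxQ hxP hn hmov
    subst hd
    let π := QuotientGroup.mk' ρ.ker
    let ρ' : Representation K (G ⧸ ρ.ker) V := QuotientGroup.lift ρ.ker ρ le_rfl
    have hρ' : ∀ g, ρ' (π g) = ρ g := fun g => QuotientGroup.lift_mk' _ _ g
    have hinj : Function.Injective ρ' := by
      intro a b hab
      obtain ⟨a, rfl⟩ := QuotientGroup.mk'_surjective ρ.ker a
      obtain ⟨b, rfl⟩ := QuotientGroup.mk'_surjective ρ.ker b
      rw [hρ', hρ'] at hab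
      exact QuotientGroup.eq.2 (MonoidHom.mem_ker.2 (by
        rw [map_mul, ← hab, ← map_mul, inv_mul_cancel, map_one]))
    obtain ⟨g, hg, hne⟩ := hmov
    have h := degBound_of_injective ρ' (Q := Q.map π) (x := π x) (n := n) hp hq hpq hqK ih hinj
      (hQ.map π) (mem_normalizer_of_conj_mem (by
        rintro _ ⟨a, ha, rfl⟩
        exact ⟨x * a * x⁻¹, conj_mem_of_mem_normalizer hxQ ha, by simp⟩))
      (hinj (by rw [← map_pow, hρ', hxP, map_one])) hn
      ⟨π g, Subgroup.mem_map_of_mem π hg, fun e => hne (by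
        rw [← map_pow, ← map_mul, ← map_mul] at e
        rw [← hρ', ← hρ', e])⟩
    refine h.mono le_rfl ?_
    rintro ⟨_, ⟨a, ha, rfl⟩, _, ⟨b, hb, rfl⟩, hab⟩
    exact ⟨a, ha, b, hb, fun e => hab (hinj (by rw [← map_mul, ← map_mul, hρ', hρ', e]))⟩

end CfsgLib.HallHigman
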