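import Cfsg.Agent.Lib.HallHigman.LinAlg
import Mathlib.GroupTheory.GroupAction.Quotient
import Mathlib.GroupTheory.PGroup
import Mathlib.RepresentationTheory.Basic
import Mathlib.LinearAlgebra.LinearIndependent.Lemmas
import Mathlib.LinearAlgebra.Eigenspace.Triangularizable

/-!
# The critical case of Hall and Higman's Theorem B

`Q` has class two with scalar centre and `x` acts on `Q / Z(Q)` semiregularly, as a cyclic group
of order `P`. Then the minimal polynomial of `x` has degree at least `P - 1`.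
-/

set_option autoImplicit false

namespace CfsgLib.HallHigman

open Module

universe u v w

variable {K : Type u} [Field K] {V : Type v} [AddCommGroup V] [Module K V]
  {G : Type w} [Group G]

theorem eq_of_smul_one_eq [Nontrivial V] {a b : K}
    (h : (a • 1 : Module.End K V) = b • 1) : a = b := by
  obtain ⟨v, hv⟩ := exists_ne (0 : V)
  have h2 : a • v = b • v := by simpa using congrArg (fun f : Module.End K V => f v) h
  exact smul_left_injective K hv h2

theorem eq_bot_of_map_subtype {W : Submodule K V} {p : Submodule K W}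
    (h : p.map W.subtype = ⊥) : p = ⊥ :=
  Submodule.map_injective_of_injective W.subtype_injective (by rw [h, Submodule.map_bot])

theorem rep_inv_apply_self (ρ : Representation K G V) (g : G) (v : V) : ρ g⁻¹ (ρ g v) = v := by
  rw [← Module.End.mul_apply, ← map_mul, inv_mul_cancel, map_one, Module.End.one_apply]

theorem rep_self_apply_inv (ρ : Representation K G V) (g : G) (v : V) : ρ g (ρ g⁻¹ v) = v := by
  rw [← Module.End.mul_apply, ← map_mul, mul_inv_cancel, map_one, Module.End.one_apply]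

/-- The span of the representatives of `Q / Z(Q)`. -/
noncomputable def repSpan (ρ : Representation K G V) (Q : Subgroup G) :
    Submodule K (Module.End K V) :=
  Submodule.span K (Set.range fun u : Q ⧸ Subgroup.center Q => ρ ((u.out : Q) : G))

/-- The data of the critical case. -/
structure Critical (ρ : Representation K G V) (Q : Subgroup G) (q : ℕ) : Prop where
  injective : Function.Injective ρ
  isPGroup : IsPGroup q Q
  scalar : ∀ z : Q, z ∈ Subgroup.center Q → ∃ c : K, ρ (z : G) = c • (1 : Module.End K V)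
  classTwo : ∀ g h : Q, g * h * g⁻¹ * h⁻¹ ∈ Subgroup.center Q
  nonabelian : Subgroup.center Q ≠ ⊤

section

variable {ρ : Representation K G V} {Q : Subgroup G} {q : ℕ}

theorem Critical.exists_smul_rep (h : Critical ρ Q q) (g : Q) :
    ∃ c : K, ρ (g : G) = c • ρ (((g : Q ⧸ Subgroup.center Q).out : Q) : G) := by
  obtain ⟨z, hz⟩ := QuotientGroup.mk_out_eq_mul (Subgroup.center Q) g
  obtain ⟨c, hc⟩ := h.scalar _ (inv_mem z.2)
  refine ⟨c, ?_⟩
  have e : (g : G) = ((g : Q ⧸ Subgroup.center Q).out : Q) * (((z : Q)⁻¹ : Q) : G) := by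
    rw [hz]; simp
  rw [e, map_mul, hc, mul_smul_comm, mul_one]

theorem Critical.rep_mem (h : Critical ρ Q q) (g : Q) : ρ (g : G) ∈ repSpan ρ Q := by
  obtain ⟨c, hc⟩ := h.exists_smul_rep g
  rw [hc]
  exact Submodule.smul_mem _ _ (Submodule.subset_span ⟨_, rfl⟩)

theorem Critical.mul_mem (h : Critical ρ Q q) {a b : Module.End K V} (ha : a ∈ repSpan ρ Q)
    (hb : b ∈ repSpan ρ Q) : a * b ∈ repSpan ρ Q := by
  induction ha using Submodule.span_induction with
  | mem a ha =>
    obtain ⟨u, rfl⟩ := ha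
    induction hb using Submodule.span_induction with
    | mem b hb =>
      obtain ⟨v, rfl⟩ := hb
      rw [← map_mul, ← Subgroup.coe_mul]
      exact h.rep_mem _
    | zero => simp
    | add x y _ _ hx hy => rw [mul_add]; exact Submodule.add_mem _ hx hy
    | smul c x _ hx => rw [mul_smul_comm]; exact Submodule.smul_mem _ _ hx
  | zero => simp
  | add x y _ _ hx hy => rw [add_mul]; exact Submodule.add_mem _ hx hy
  | smul c x _ hx => rw [smul_mul_assoc]; exact Submodule.smul_mem _ _ hx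

/-- The representatives are independent, even on an invariant nonzero subspace. -/
theorem Critical.coeff_eq_zero [Nontrivial V] [Finite G] (h : Critical ρ Q q)
    {W : Submodule K V} (hW : ∀ g ∈ Q, ∀ w ∈ W, ρ g w ∈ W) {w₀ : V} (hw₀ : w₀ ∈ W) (hne : w₀ ≠ 0)
    [Fintype (Q ⧸ Subgroup.center Q)] (a : Q ⧸ Subgroup.center Q → K)
    (ha : ∀ w ∈ W, ∑ u, a u • ρ ((u.out : Q) : G) w = 0) (u : Q ⧸ Subgroup.center Q) : a u = 0 := by
  classical
  choose χ hχ using fun (u : Q ⧸ Subgroup.center Q) (g : Q) => h.scalar _ (h.classTwo g u.out)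
  have hχmul : ∀ u (g g' : Q), χ u (g * g') = χ u g * χ u g' := by
    intro u g g'
    refine eq_of_smul_one_eq (V := V) ?_
    have e : g * g' * u.out * (g * g')⁻¹ * u.out⁻¹
        = (g' * u.out * g'⁻¹ * u.out⁻¹) * (g * u.out * g⁻¹ * u.out⁻¹) := by
      have hc := Subgroup.mem_center_iff.1 (h.classTwo g' u.out) g
      calc g * g' * u.out * (g * g')⁻¹ * u.out⁻¹
          = (g * (g' * u.out * g'⁻¹ * u.out⁻¹)) * (u.out * g⁻¹ * u.out⁻¹) := by group
        _ = ((g' * u.out * g'⁻¹ * u.out⁻¹) * g) * (u.out * g⁻¹ * u.out⁻¹) := by rw [hc]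
        _ = _ := by group
    rw [← hχ, e, Subgroup.coe_mul, map_mul, hχ, hχ, smul_one_mul, smul_smul, mul_comm]
  let ψ : Q ⧸ Subgroup.center Q → Q →* K := fun u =>
    { toFun := χ u
      map_one' := eq_of_smul_one_eq (V := V) (by rw [← hχ, one_smul]; simp)
      map_mul' := hχmul u }
  have hψinj : Function.Injective ψ := by
    intro u v e
    rw [← QuotientGroup.out_eq' u, ← QuotientGroup.out_eq' v, QuotientGroup.eq,
      Subgroup.mem_center_iff]
    intro g
    have e1 : χ u g = χ v g := congrArg (fun f : Q →* K => f g) e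
    have e2 : g * u.out * g⁻¹ * u.out⁻¹ = g * v.out * g⁻¹ * v.out⁻¹ :=
      Subtype.ext (h.injective (by rw [hχ, hχ, e1]))
    have e3 : u.out * g⁻¹ * u.out⁻¹ = v.out * g⁻¹ * v.out⁻¹ := by
      simpa only [mul_assoc, mul_right_inj] using e2
    have e4 : g * (v.out⁻¹ * u.out) = (v.out⁻¹ * u.out) * g := by
      calc g * (v.out⁻¹ * u.out) = v.out⁻¹ * (v.out * g⁻¹ * v.out⁻¹)⁻¹ * u.out := by group
        _ = v.out⁻¹ * (u.out * g⁻¹ * u.out⁻¹)⁻¹ * u.out := by rw [e3]
        _ = _ := by group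
    calc g * (u.out⁻¹ * v.out) = (u.out⁻¹ * v.out) * ((v.out⁻¹ * u.out) * g) * (u.out⁻¹ * v.out) := by group
      _ = (u.out⁻¹ * v.out) * (g * (v.out⁻¹ * u.out)) * (u.out⁻¹ * v.out) := by rw [e4]
      _ = _ := by group
  have hkey : ∀ w ∈ W, ∀ g : Q, ∑ u, (a u * χ u g) • ρ ((u.out : Q) : G) w = 0 := by
    intro w hw g
    have h1 := congrArg (ρ (g : G)) (ha (ρ ((g : G)⁻¹) w) (hW _ (inv_mem g.2) w hw))
    rw [map_sum, map_zero] at h1
    rw [← h1]
    refine Finset.sum_congr rfl fun u _ => ?_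
    rw [map_smul, mul_smul]
    congr 1
    have e : ρ ((g * u.out * g⁻¹ * u.out⁻¹ : Q) : G) (ρ ((u.out : Q) : G) w)
        = χ u g • ρ ((u.out : Q) : G) w := by rw [hχ]; rfl
    rw [← e, ← Module.End.mul_apply, ← map_mul, ← Module.End.mul_apply, ← map_mul,
      ← Module.End.mul_apply, ← map_mul]
    congr 2
    push_cast
    group
  have hli := (linearIndependent_monoidHom Q K).comp ψ hψinj
  rw [Fintype.linearIndependent_iff] at hli
  have h0 : a u • ρ ((u.out : Q) : G) w₀ = 0 := by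
    rw [← Module.forall_dual_apply_eq_zero_iff K]
    intro f
    have h2 := hli (fun u => a u * f (ρ ((u.out : Q) : G) w₀)) (funext fun g => by
      simp only [Function.comp_apply, Finset.sum_apply, Pi.smul_apply, smul_eq_mul, Pi.zero_apply]
      rw [← f.map_zero, ← hkey w₀ hw₀ g, map_sum]
      refine Finset.sum_congr rfl fun u _ => ?_
      rw [map_smul, smul_eq_mul]
      show a u * _ * χ u g = _
      ring) u
    rw [map_smul, smul_eq_mul]; exact h2
  refine (smul_eq_zero.1 h0).resolve_right fun e => hne ?_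
  rw [← rep_inv_apply_self ρ ((u.out : Q) : G) w₀, e, map_zero]

theorem Critical.eq_zero_of_vanishing [Nontrivial V] [Finite G] (h : Critical ρ Q q)
    {W : Submodule K V} (hW : ∀ g ∈ Q, ∀ w ∈ W, ρ g w ∈ W) (hne : W ≠ ⊥) {X : Module.End K V}
    (hX : X ∈ repSpan ρ Q) (hvan : ∀ w ∈ W, X w = 0) : X = 0 := by
  have : Fintype (Q ⧸ Subgroup.center Q) := Fintype.ofFinite _
  obtain ⟨w₀, hw₀, hw₀'⟩ := Submodule.exists_mem_ne_zero_of_ne_bot hne
  obtain ⟨a, rfl⟩ := (Submodule.mem_span_range_iff_exists_fun K).1 hX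
  have h0 := h.coeff_eq_zero hW hw₀ hw₀' a fun w hw => by simpa using hvan w hw
  exact Finset.sum_eq_zero fun u _ => by rw [h0 u, zero_smul]

theorem Critical.finrank_repSpan [Nontrivial V] [Finite G] (h : Critical ρ Q q) :
    finrank K (repSpan ρ Q) = Nat.card (Q ⧸ Subgroup.center Q) := by
  have : Fintype (Q ⧸ Subgroup.center Q) := Fintype.ofFinite _
  rw [Nat.card_eq_fintype_card, repSpan]
  refine finrank_span_eq_card (Fintype.linearIndependent_iff.2 fun a ha u => ?_)
  obtain ⟨v, hv⟩ := exists_ne (0 : V)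
  exact h.coeff_eq_zero (W := ⊤) (fun _ _ _ _ => Submodule.mem_top) Submodule.mem_top hv a
    (fun w _ => by simpa using congrArg (fun f : Module.End K V => f w) ha) u

/-- With `x` normalising `Q` and no invariant subspace for both, `Q` alone is irreducible. -/
theorem Critical.irreducible [IsAlgClosed K] [FiniteDimensional K V] [Nontrivial V] [Finite G]
    (h : Critical ρ Q q) {x : G} (hxQ : ∀ g ∈ Q, x * g * x⁻¹ ∈ Q) {P : ℕ} (hP : 0 < P)
    (hxP : x ^ P = 1)
    (hirr : ∀ W : Submodule K V, (∀ g ∈ Q, ∀ w ∈ W, ρ g w ∈ W) → (∀ w ∈ W, ρ x w ∈ W) →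
      W = ⊥ ∨ W = ⊤)
    {W₀ : Submodule K V} (hW₀ : ∀ g ∈ Q, ∀ w ∈ W₀, ρ g w ∈ W₀) (hne : W₀ ≠ ⊥) : W₀ = ⊤ := by
  classical
  -- shrink to a minimal invariant subspace
  suffices key : ∀ W₀ : Submodule K V, (∀ g ∈ Q, ∀ w ∈ W₀, ρ g w ∈ W₀) → W₀ ≠ ⊥ →
      (∀ W ≤ W₀, (∀ g ∈ Q, ∀ w ∈ W, ρ g w ∈ W) → W = ⊥ ∨ W = W₀) → W₀ = ⊤ by
    obtain ⟨W, hWm⟩ := wellFounded_lt.has_min
      {W : Submodule K V | W ≤ W₀ ∧ (∀ g ∈ Q, ∀ w ∈ W, ρ g w ∈ W) ∧ W ≠ ⊥} ⟨W₀, le_rfl, hW₀, hne⟩
    obtain ⟨⟨hle, hWi, hWb⟩, hmin⟩ := hWm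
    refine top_le_iff.1 ((key W hWi hWb fun W' hW' hW'i => ?_).ge.trans hle)
    by_contra hcon
    push Not at hcon
    exact hmin W' ⟨hW'.trans hle, hW'i, hcon.1⟩ (lt_of_le_of_ne hW' hcon.2)
  clear hW₀ hne W₀
  intro W₀ hW₀ hne hmin
  have : Nontrivial W₀ := Submodule.nontrivial_iff_ne_bot.2 hne
  -- restriction of the span is onto
  let σ : Q → Module.End K W₀ := fun g => (ρ (g : G)).restrict (hW₀ g g.2)
  let A : Submodule K (Module.End K W₀) := Submodule.span K (Set.range σ)
  have hσmul : ∀ g g' : Q, σ g * σ g' = σ (g * g') := fun g g' => by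
    ext w; simp [σ]
  have hAmul : ∀ a b, a ∈ A → b ∈ A → a * b ∈ A := by
    intro a b ha hb
    induction ha using Submodule.span_induction with
    | mem a ha =>
      obtain ⟨g, rfl⟩ := ha
      induction hb using Submodule.span_induction with
      | mem b hb => obtain ⟨g', rfl⟩ := hb; rw [hσmul]; exact Submodule.subset_span ⟨_, rfl⟩
      | zero => simp
      | add x y _ _ hx hy => rw [mul_add]; exact Submodule.add_mem _ hx hy
      | smul c x _ hx => rw [mul_smul_comm]; exact Submodule.smul_mem _ _ hx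
    | zero => simp
    | add x y _ _ hx hy => rw [add_mul]; exact Submodule.add_mem _ hx hy
    | smul c x _ hx => rw [smul_mul_assoc]; exact Submodule.smul_mem _ _ hx
  have h1 : (1 : Module.End K W₀) ∈ A := Submodule.subset_span ⟨1, by ext w; simp [σ]⟩
  have htop : A.toSubalgebra h1 hAmul = ⊤ := by
    refine eq_top_of_no_invariant _ fun W hW => ?_
    rcases hmin (W.map W₀.subtype) (Submodule.map_subtype_le W₀ W) (by
      rintro g hg _ ⟨w, hw, rfl⟩
      exact ⟨σ ⟨g, hg⟩ w, hW _ (Submodule.subset_span ⟨_, rfl⟩) w hw, rfl⟩) with h' | h'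
    · left; exact eq_bot_of_map_subtype h'
    · right
      refine Submodule.map_injective_of_injective W₀.subtype_injective ?_
      rw [h', Submodule.map_subtype_top]
  have hsurj : ∀ B : Module.End K W₀, ∃ X ∈ repSpan ρ Q, ∀ w : W₀, X w = (B w : V) := by
    intro B
    have hB : B ∈ A := by
      have hB' : B ∈ A.toSubalgebra h1 hAmul := htop ▸ Algebra.mem_top
      exact hB'
    induction hB using Submodule.span_induction with
    | mem a ha => obtain ⟨g, rfl⟩ := ha; exact ⟨_, h.rep_mem g, fun w => rfl⟩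
    | zero => exact ⟨0, Submodule.zero_mem _, fun w => rfl⟩
    | add a b _ _ ha hb =>
      obtain ⟨X, hX, hX'⟩ := ha
      obtain ⟨Y, hY, hY'⟩ := hb
      exact ⟨X + Y, Submodule.add_mem _ hX hY, fun w => by simp [hX', hY']⟩
    | smul c a _ ha =>
      obtain ⟨X, hX, hX'⟩ := ha
      exact ⟨c • X, Submodule.smul_mem _ _ hX, fun w => by simp [hX']⟩
  choose R hRmem hR using hsurj
  have huniq : ∀ {X Y : Module.End K V}, X ∈ repSpan ρ Q → Y ∈ repSpan ρ Q →
      (∀ w : W₀, X w = Y w) → X = Y := fun {X Y} hX hY he => sub_eq_zero.1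
    (h.eq_zero_of_vanishing hW₀ hne (Submodule.sub_mem _ hX hY) fun w hw => by
      simpa [sub_eq_zero] using he ⟨w, hw⟩)
  -- the intertwiner into the translate
  set W₁ := W₀.map (ρ x) with hW₁
  have hxinv : ∀ g ∈ Q, x⁻¹ * g * x ∈ Q := by
    intro g hg
    have hpow : ∀ i : ℕ, x ^ i * g * (x ^ i)⁻¹ ∈ Q := by
      intro i
      induction i with
      | zero => simpa using hg
      | succ i ih => convert hxQ _ ih using 1; rw [pow_succ']; group
    have hx1 : x⁻¹ = x ^ (P - 1) := inv_eq_of_mul_eq_one_right (by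
      rw [← pow_succ', Nat.sub_add_cancel hP, hxP])
    have := hpow (P - 1)
    rwa [← hx1, inv_inv] at this
  have hW₁i : ∀ g ∈ Q, ∀ w ∈ W₁, ρ g w ∈ W₁ := by
    rintro g hg _ ⟨w, hw, rfl⟩
    refine ⟨ρ (x⁻¹ * g * x) w, hW₀ _ (hxinv g hg) w hw, ?_⟩
    rw [← Module.End.mul_apply, ← Module.End.mul_apply, ← map_mul, ← map_mul]
    group
  have hEinv : ∀ X ∈ repSpan ρ Q, ∀ w ∈ W₁, X w ∈ W₁ := by
    intro X hX w hw
    induction hX using Submodule.span_induction with
    | mem a ha => obtain ⟨u, rfl⟩ := ha; exact hW₁i _ u.out.2 w hw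
    | zero => simp
    | add a b _ _ ha hb => exact Submodule.add_mem _ ha hb
    | smul c a _ ha => exact Submodule.smul_mem _ _ ha
  obtain ⟨w₀, hw₀⟩ := exists_ne (0 : W₀)
  obtain ⟨φ, hφ⟩ := Module.Projective.exists_dual_ne_zero K hw₀
  obtain ⟨u, hu, hu'⟩ : ∃ u ∈ W₁, R (φ.smulRight w₀) u ≠ 0 := by
    by_contra hcon
    push Not at hcon
    have h0 := h.eq_zero_of_vanishing hW₁i (fun e => hne ?_) (hRmem _) hcon
    · have h2 := hR (φ.smulRight w₀) w₀
      rw [h0, LinearMap.zero_apply, LinearMap.smulRight_apply, Submodule.coe_smul] at h2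
      exact hw₀ (Subtype.ext ((smul_eq_zero.1 h2.symm).resolve_left hφ))
    · rw [eq_bot_iff]
      intro w hw
      have : ρ x w = 0 := (Submodule.mem_bot K).1 (e ▸ Submodule.mem_map_of_mem hw)
      rw [Submodule.mem_bot, ← rep_inv_apply_self ρ x w, this, map_zero]
  let f : W₀ →ₗ[K] V :=
    { toFun := fun w => R (φ.smulRight w) u
      map_add' := fun a b => by
        rw [← LinearMap.add_apply]
        congr 1
        exact huniq (hRmem _) (Submodule.add_mem _ (hRmem _) (hRmem _)) fun w => by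
          simp [hR]
      map_smul' := fun c a => by
        rw [RingHom.id_apply, ← LinearMap.smul_apply]
        congr 1
        exact huniq (hRmem _) (Submodule.smul_mem _ _ (hRmem _)) fun w => by
          simp [hR, smul_comm c] }
  have hfeq : ∀ (g : Q) (w : W₀), f (σ g w) = ρ (g : G) (f w) := by
    intro g w
    show R _ u = (ρ (g : G) * R _) u
    congr 1
    exact huniq (hRmem _) (h.mul_mem (h.rep_mem g) (hRmem _)) fun w' => by
      simp [hR, σ]
  have hfinj : Function.Injective f := by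
    rw [← LinearMap.ker_eq_bot]
    rcases hmin ((LinearMap.ker f).map W₀.subtype) (Submodule.map_subtype_le W₀ _) (by
      rintro g hg _ ⟨w, hw, rfl⟩
      refine ⟨σ ⟨g, hg⟩ w, ?_, rfl⟩
      rw [SetLike.mem_coe, LinearMap.mem_ker] at hw ⊢
      rw [hfeq, hw, map_zero]) with h' | h'
    · exact eq_bot_of_map_subtype h'
    · exfalso
      have : LinearMap.ker f = ⊤ :=
        Submodule.map_injective_of_injective W₀.subtype_injective (by rw [h', Submodule.map_subtype_top])
      exact hu' (LinearMap.congr_fun (LinearMap.ker_eq_top.1 this) w₀)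
  have hfW₁ : ∀ w, f w ∈ W₁ := fun w => hEinv _ (hRmem _) u hu
  let e : Module.End K W₀ := ((ρ x⁻¹).comp f).codRestrict W₀ fun w => by
    obtain ⟨w', hw', e⟩ := hfW₁ w
    rw [LinearMap.comp_apply, ← e, rep_inv_apply_self]
    exact hw'
  have he : ∀ (g : Q) (w : W₀), (e (σ g w) : V) = ρ (x⁻¹ * g * x) (e w) := by
    intro g w
    show ρ x⁻¹ (f (σ g w)) = ρ (x⁻¹ * g * x) (ρ x⁻¹ (f w))
    rw [hfeq, ← Module.End.mul_apply, ← Module.End.mul_apply, ← map_mul, ← map_mul]
    group
  have heinj : Function.Injective e := fun a b hab => hfinj (by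
    have h2 : ρ x⁻¹ (f a) = ρ x⁻¹ (f b) := congrArg Subtype.val hab
    rw [← rep_self_apply_inv ρ x (f a), h2, rep_self_apply_inv])
  have hepow : ∀ (i : ℕ) (g : Q) (w : W₀),
      ((e ^ i) (σ g w) : V) = ρ ((x ^ i)⁻¹ * g * x ^ i) ((e ^ i) w) := by
    intro i
    induction i with
    | zero => intro g w; simp [σ]
    | succ i ih =>
      intro g w
      rw [pow_succ', Module.End.mul_apply, Module.End.mul_apply]
      have hmem : (x ^ i)⁻¹ * (g : G) * x ^ i ∈ Q := by
        clear ih
        induction i with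
        | zero => simp
        | succ i ih2 => convert hxinv _ ih2 using 1; rw [pow_succ]; group
      rw [show (e ^ i) (σ g w) = σ ⟨_, hmem⟩ ((e ^ i) w) from Subtype.ext (ih g w), he]
      congr 2
      push_cast
      rw [pow_succ]
      group
  have hcomm : ∀ (g : Q) (w : W₀), (e ^ P) (σ g w) = σ g ((e ^ P) w) := fun g w => Subtype.ext (by
    rw [hepow, hxP]; simp [σ])
  have hePinj : Function.Injective (e ^ P) := by
    clear hcomm hepow hxP hP
    induction P with
    | zero => intro a b hab; simpa using hab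
    | succ P ih => rw [pow_succ']; exact heinj.comp ih
  obtain ⟨c, hc⟩ := Module.End.exists_eigenvalue (e ^ P)
  have hscalar : ∀ w, (e ^ P) w = c • w := by
    rcases hmin ((Module.End.eigenspace (e ^ P) c).map W₀.subtype) (Submodule.map_subtype_le W₀ _) (by
      rintro g hg _ ⟨w, hw, rfl⟩
      refine ⟨σ ⟨g, hg⟩ w, ?_, rfl⟩
      rw [SetLike.mem_coe, Module.End.mem_eigenspace_iff] at hw ⊢
      rw [hcomm, hw, map_smul]) with h' | h'
    · exact absurd (eq_bot_of_map_subtype h') hc
    · have : Module.End.eigenspace (e ^ P) c = ⊤ :=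
        Submodule.map_injective_of_injective W₀.subtype_injective (by rw [h', Submodule.map_subtype_top])
      exact fun w => Module.End.mem_eigenspace_iff.1 (this ▸ Submodule.mem_top)
  have hc0 : c ≠ 0 := fun e0 => hw₀ (hePinj (by rw [hscalar, e0, zero_smul, map_zero]))
  obtain ⟨s, hs⟩ := IsAlgClosed.exists_pow_nat_eq c⁻¹ hP
  set e' := s • e with he'
  have he'P : e' ^ P = 1 := by
    rw [he', smul_pow, hs]
    ext w
    simp [hscalar, smul_smul, inv_mul_cancel₀ hc0]
  have hs0 : s ≠ 0 := fun e0 => inv_ne_zero hc0 (by rw [← hs, e0, zero_pow hP.ne'])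
  -- an eigenvector in the space of intertwiners
  let H : Submodule K (W₀ →ₗ[K] V) :=
    { carrier := {t | ∀ (g : Q) w, t (σ g w) = ρ (g : G) (t w)}
      zero_mem' := fun g w => by simp
      add_mem' := fun {a b} ha hb g w => by simp [ha g w, hb g w]
      smul_mem' := fun r a ha g w => by simp [ha g w] }
  let L : (W₀ →ₗ[K] V) →ₗ[K] (W₀ →ₗ[K] V) :=
    (LinearMap.llcomp K W₀ V V (ρ x)).comp (LinearMap.lcomp K V e')
  have hLapp : ∀ t w, L t w = ρ x (t (e' w)) := fun t w => rfl
  have hL : ∀ t ∈ H, L t ∈ H := by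
    intro t ht g w
    have hmem := hxinv g g.2
    rw [hLapp, hLapp, he', LinearMap.smul_apply, LinearMap.smul_apply,
      show e (σ g w) = σ ⟨_, hmem⟩ (e w) from Subtype.ext (he g w), map_smul, map_smul, ht,
      map_smul, map_smul, map_smul]
    congr 1
    rw [← Module.End.mul_apply, ← Module.End.mul_apply, ← map_mul, ← map_mul]
    push_cast
    group
  have hH : (⟨W₀.subtype, fun g w => rfl⟩ : H) ≠ 0 := fun e0 => hw₀
    (Subtype.ext (congrArg (fun t : H => (t : W₀ →ₗ[K] V) w₀) e0))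
  have : Nontrivial H := nontrivial_of_ne _ _ hH
  obtain ⟨ω, hω⟩ := Module.End.exists_eigenvalue (L.restrict hL : Module.End K H)
  obtain ⟨⟨t, ht⟩, htω, ht0⟩ := Submodule.exists_mem_ne_zero_of_ne_bot hω
  rw [Module.End.mem_eigenspace_iff] at htω
  have htω' : ∀ w, ρ x (t (e' w)) = ω • t w := fun w =>
    congrArg (fun r : H => (r : W₀ →ₗ[K] V) w) htω
  have he'surj : ∀ w, ∃ w', e' w' = w := fun w =>
    ⟨(e' ^ (P - 1)) w, by rw [← Module.End.mul_apply, ← pow_succ', Nat.sub_add_cancel hP, he'P]; rfl⟩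
  have htrange : LinearMap.range t = ⊤ := by
    refine (hirr _ ?_ ?_).resolve_left fun e0 => ht0 (Subtype.ext (LinearMap.range_eq_bot.1 e0))
    · rintro g hg _ ⟨w, rfl⟩; exact ⟨σ ⟨g, hg⟩ w, ht ⟨g, hg⟩ w⟩
    · rintro _ ⟨w, rfl⟩
      obtain ⟨w', rfl⟩ := he'surj w
      rw [htω']
      exact ⟨ω • w', map_smul _ _ _⟩
  refine Submodule.eq_top_of_finrank_eq (le_antisymm (Submodule.finrank_le _) ?_)
  have h3 := t.finrank_range_le
  rwa [htrange, finrank_top] at h3

/-- Hall–Higman, critical case, with the order of `Q / Z(Q)` in the exceptional case. -/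
theorem Critical.deg_bound_card [IsAlgClosed K] [FiniteDimensional K V] [Nontrivial V] [Finite G]
    [hq : Fact q.Prime] (h : Critical ρ Q q) {x : G} (hxQ : ∀ g ∈ Q, x * g * x⁻¹ ∈ Q) {P : ℕ}
    (hP : 1 < P) (hxP : x ^ P = 1)
    (hfree : ∀ (u : Q) (v : Q) (i : ℕ), 0 < i → i < P → (v : G) = x ^ i * u * (x ^ i)⁻¹ →
      u⁻¹ * v ∈ Subgroup.center Q → u ∈ Subgroup.center Q)
    (hirr : ∀ W : Submodule K V, (∀ g ∈ Q, ∀ w ∈ W, ρ g w ∈ W) → (∀ w ∈ W, ρ x w ∈ W) →
      W = ⊥ ∨ W = ⊤) :
    P ≤ deg (ρ x) ∨ ∃ b : ℕ, 1 ≤ b ∧ P = q ^ b + 1 ∧ deg (ρ x) = q ^ b ∧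
      Nat.card (Q ⧸ Subgroup.center Q) = q ^ b * q ^ b := by
  classical
  have : Fintype (Q ⧸ Subgroup.center Q) := Fintype.ofFinite _
  set d := finrank K V with hd
  -- `Q` spans all endomorphisms
  have hspan : repSpan ρ Q = ⊤ := by
    have h1 : (1 : Module.End K V) ∈ repSpan ρ Q := by simpa using h.rep_mem 1
    have htop : (repSpan ρ Q).toSubalgebra h1 (fun _ _ => h.mul_mem) = ⊤ := by
      refine eq_top_of_no_invariant _ fun W hW => ?_
      by_cases hWb : W = ⊥
      · exact Or.inl hWb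
      · exact Or.inr (h.irreducible hxQ (by omega) hxP hirr (fun g hg w hw =>
          hW _ (h.rep_mem ⟨g, hg⟩) w hw) hWb)
    refine eq_top_iff.2 fun f _ => ?_
    have hf : f ∈ (repSpan ρ Q).toSubalgebra h1 (fun _ _ => h.mul_mem) := htop ▸ Algebra.mem_top
    exact hf
  have hcard : Nat.card (Q ⧸ Subgroup.center Q) = d * d := by
    rw [← h.finrank_repSpan, hspan, finrank_top, Module.finrank_linearMap, hd]
  -- the automorphism of `Q / Z(Q)`
  let φ : Q ≃* Q := MulEquiv.ofBijective
    (((MulAut.conj x).toMonoidHom.comp Q.subtype).codRestrict Q fun g => hxQ g g.2)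
    (Finite.injective_iff_bijective.1 fun a b e =>
      Subtype.ext ((MulAut.conj x).injective (congrArg Subtype.val e)))
  have hφ : ∀ (i : ℕ) (u : Q), (((φ ^ i : MulAut Q)) u : G) = x ^ i * u * (x ^ i)⁻¹ := by
    intro i u
    induction i with
    | zero => simp
    | succ i ih =>
      rw [pow_succ', MulAut.mul_apply]
      show x * ((φ ^ i : MulAut Q) u : G) * x⁻¹ = _
      rw [ih, pow_succ']; group
  let σ : MulAut (Q ⧸ Subgroup.center Q) := QuotientGroup.congr _ _ φ
    (Subgroup.characteristic_iff_map_eq.1 inferInstance φ)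
  have hσ : ∀ (i : ℕ) (u : Q), (σ ^ i) (u : Q ⧸ Subgroup.center Q) = (((φ ^ i : MulAut Q) u : Q) : Q ⧸ Subgroup.center Q) := by
    intro i u
    induction i with
    | zero => simp
    | succ i ih =>
      rw [pow_succ', MulAut.mul_apply, ih, pow_succ', MulAut.mul_apply]
      rfl
  have hσfix : ∀ i, 0 < i → i < P → ∀ u, (σ ^ i) u = u → u = 1 := by
    intro i hi0 hiP u
    induction u using QuotientGroup.induction_on with
    | _ u =>
      intro hu
      rw [hσ, eq_comm, QuotientGroup.eq] at hu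
      exact (QuotientGroup.eq_one_iff u).2 (hfree u _ i hi0 hiP (hφ i u) hu)
  have hσP : σ ^ P = 1 := by
    refine MulEquiv.ext fun u => ?_
    induction u using QuotientGroup.induction_on with
    | _ u =>
      rw [hσ, MulAut.one_apply]
      congr 1
      exact Subtype.ext (by rw [hφ, hxP]; simp)
  have hnt : Nontrivial (Q ⧸ Subgroup.center Q) := QuotientGroup.nontrivial_iff.2 h.nonabelian
  have hord : orderOf σ = P := by
    rw [orderOf_eq_iff (by omega)]
    refine ⟨hσP, fun i hiP hi0 e => ?_⟩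
    obtain ⟨u, hu⟩ := exists_ne (1 : Q ⧸ Subgroup.center Q)
    exact hu (hσfix i hi0 hiP u (by rw [e, MulAut.one_apply]))
  -- count the orbits
  set S := Subgroup.zpowers σ with hS
  have hScard : Nat.card S = P := by rw [hS, Nat.card_zpowers, hord]
  let Ω := Quotient (MulAction.orbitRel S (Q ⧸ Subgroup.center Q))
  have : Fintype S := Fintype.ofFinite _
  have : Fintype Ω := Fintype.ofFinite _
  have hfixed : ∀ s : S, s ≠ 1 → Fintype.card (MulAction.fixedBy (Q ⧸ Subgroup.center Q) s) = 1 := by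
    rintro ⟨s, hs⟩ hs1
    refine Fintype.card_eq_one_iff.2 ⟨⟨1, map_one s⟩, fun ⟨u, hu⟩ => Subtype.ext ?_⟩
    obtain ⟨i, rfl⟩ := mem_powers_iff_mem_zpowers.2 hs
    simp only at hu ⊢
    change (σ ^ i) u = u at hu
    rw [← pow_mod_orderOf, hord] at hu
    refine hσfix _ (Nat.pos_of_ne_zero fun e => hs1 (Subtype.ext ?_)) (Nat.mod_lt _ (by omega)) u hu
    show σ ^ i = 1
    rw [← pow_mod_orderOf, hord, e, pow_zero]
  have hburn : Fintype.card Ω * P = d * d + (P - 1) := by
    have h1 := MulAction.sum_card_fixedBy_eq_card_orbits_mul_card_group S (Q ⧸ Subgroup.center Q)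
    rw [← Finset.add_sum_erase _ _ (Finset.mem_univ (1 : S)),
      Finset.sum_congr rfl (fun s hs => hfixed s (Finset.ne_of_mem_erase hs)),
      Finset.sum_const, Finset.card_erase_of_mem (Finset.mem_univ _), Finset.card_univ,
      ← Nat.card_eq_fintype_card (α := S), hScard, smul_eq_mul, mul_one] at h1
    rw [← h1, ← hcard, Nat.card_eq_fintype_card]
    congr 1
    exact Fintype.card_congr (Equiv.subtypeUnivEquiv (p := fun u => u ∈ MulAction.fixedBy (Q ⧸ Subgroup.center Q) (1 : S)) fun u : Q ⧸ Subgroup.center Q => one_smul S u)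
  -- the centraliser is at most that large
  let T : Q ⧸ Subgroup.center Q → Module.End K V := fun u => ρ ((u.out : Q) : G)
  have hTli : LinearIndependent K T := Fintype.linearIndependent_iff.2 fun a ha u => by
    obtain ⟨v, hv⟩ := exists_ne (0 : V)
    exact h.coeff_eq_zero (W := ⊤) (fun _ _ _ _ => Submodule.mem_top) Submodule.mem_top hv a
      (fun w _ => by simpa [T] using congrArg (fun f : Module.End K V => f w) ha) u
  let B : Basis (Q ⧸ Subgroup.center Q) K (Module.End K V) := Basis.mk hTli hspan.ge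
  have hBapp : ∀ u, B u = T u := fun u => Basis.mk_apply _ _ u
  have hconj : ∀ u, ∃ c : K, c ≠ 0 ∧ ρ x * T u * ρ x⁻¹ = c • T (σ u) := by
    intro u
    obtain ⟨c, hc⟩ := h.exists_smul_rep (φ u.out)
    have e : ((φ u.out : Q) : Q ⧸ Subgroup.center Q) = σ u := by
      conv_rhs => rw [← QuotientGroup.out_eq' u]
      rfl
    rw [e] at hc
    refine ⟨c, fun hc0 => ?_, ?_⟩
    · obtain ⟨v, hv⟩ := exists_ne (0 : V)
      refine hv ?_
      rw [← rep_inv_apply_self ρ ((φ u.out : Q) : G) v, hc, hc0, zero_smul, LinearMap.zero_apply, map_zero]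
    · rw [← map_mul, ← map_mul, ← hc]; rfl
  choose cc hcc0 hcc using hconj
  let ev : commSubmodule (ρ x) →ₗ[K] (Ω → K) :=
    LinearMap.pi fun o : Ω => (B.coord o.out).comp (commSubmodule (ρ x)).subtype
  have hev : Function.Injective ev := by
    rw [injective_iff_map_eq_zero]
    rintro ⟨X, hX⟩ h0
    refine Subtype.ext (B.ext_elem fun u => ?_)
    rw [Submodule.coe_zero, map_zero, Finsupp.zero_apply]
    have hXconj : ρ x * X * ρ x⁻¹ = X := by
      rw [mem_commSubmodule.1 hX, mul_assoc, ← map_mul, mul_inv_cancel, map_one, mul_one]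
    have hprop : ∀ w, B.repr X (σ w) = cc w * B.repr X w := by
      intro w
      conv_lhs => rw [← hXconj, ← B.sum_repr X]
      rw [Finset.mul_sum, Finset.sum_mul, map_sum, Finsupp.finsetSum_apply]
      rw [Finset.sum_eq_single w]
      · rw [mul_smul_comm, smul_mul_assoc, hBapp, hcc, ← hBapp, smul_smul, map_smul,
          Finsupp.smul_apply, B.repr_self, Finsupp.single_eq_same, smul_eq_mul, mul_one, mul_comm]
      · intro b _ hb
        rw [mul_smul_comm, smul_mul_assoc, hBapp, hcc, ← hBapp, smul_smul, map_smul,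
          Finsupp.smul_apply, B.repr_self, Finsupp.single_eq_of_ne, smul_zero]
        exact fun e => hb (σ.injective e).symm
      · simp
    have hiter : ∀ (i : ℕ) (w), B.repr X w = 0 → B.repr X ((σ ^ i) w) = 0 := by
      intro i w hw
      induction i with
      | zero => simpa using hw
      | succ i ih => rw [pow_succ', MulAut.mul_apply, hprop, ih, mul_zero]
    let o : Ω := Quotient.mk _ u
    have hrep : B.repr X o.out = 0 := congr_fun h0 o
    have horb : (MulAction.orbitRel S (Q ⧸ Subgroup.center Q)).r u o.out :=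
      Quotient.exact (Quotient.out_eq o).symm
    obtain ⟨⟨s, hs⟩, hsu⟩ := horb
    obtain ⟨i, rfl⟩ := mem_powers_iff_mem_zpowers.2 hs
    rw [← hsu]
    exact hiter i _ hrep
  have hC : finrank K (commSubmodule (ρ x)) ≤ Fintype.card Ω := by
    simpa using LinearMap.finrank_le_finrank_of_injective hev
  obtain ⟨hC1, hC2⟩ := sq_finrank_le d rfl (ρ x)
  set r := deg (ρ x) with hr
  have hr1 : 0 < r := minpoly.natDegree_pos (Algebra.IsIntegral.isIntegral (ρ x))
  have hrd : r ≤ d := deg_le_finrank (ρ x)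
  set C := finrank K (commSubmodule (ρ x)) with hCdef
  by_cases hPr : P ≤ r
  · exact Or.inl hPr
  push Not at hPr
  -- `(P - r) C < P`, while `r ≤ d ≤ C`
  have hkey : P * C ≤ r * C + (P - 1) := by
    calc P * C ≤ P * Fintype.card Ω := Nat.mul_le_mul_left _ hC
      _ = d * d + (P - 1) := by rw [mul_comm, hburn]
      _ ≤ _ := by omega
  have hd1 : 1 < d := by
    have : 1 < d * d := by rw [← hcard]; exact Finite.one_lt_card
    nlinarith
  obtain ⟨k, hk⟩ : ∃ k, P = r + 1 + k := ⟨P - r - 1, by omega⟩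
  have hk0 : k = 0 ∨ r = 1 := by
    rcases Nat.eq_zero_or_pos k with hk0 | hk0
    · exact Or.inl hk0
    · right
      by_contra hr2
      have h2 : 2 ≤ r := by omega
      have h3 : (k + 1) * C ≤ r + k := by
        have : (r + 1 + k) * C = r * C + (k + 1) * C := by ring
        rw [hk] at hkey; omega
      nlinarith
  rcases hk0 with hk0 | hr1'
  · subst hk0
    have hC3 : C ≤ r := by
      have : (r + 1) * C = r * C + C := by ring
      rw [hk, add_zero] at hkey; omega
    have hdr : d = r := by omega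
    obtain ⟨n, hn⟩ := IsPGroup.iff_card.1 (h.isPGroup.to_quotient (Subgroup.center Q))
    rw [hcard] at hn
    obtain ⟨b, -, hb⟩ := (Nat.dvd_prime_pow hq.out).1 (hn ▸ dvd_mul_right d d)
    refine Or.inr ⟨b, Nat.one_le_iff_ne_zero.2 fun e => ?_, by omega, by omega, hb ▸ hcard⟩
    rw [e, pow_zero] at hb
    omega
  · exfalso
    rw [hr1', one_mul] at hC2
    have : C ≤ 1 := by
      by_contra hC4
      rw [hk, hr1', one_mul] at hkey
      have : (1 + 1 + k) * C = C + (1 + k) * C := by ring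
      have : (1 + k) * 2 ≤ (1 + k) * C := Nat.mul_le_mul_left _ (by omega)
      omega
    omega

/-- Hall–Higman, critical case. -/
theorem Critical.deg_bound [IsAlgClosed K] [FiniteDimensional K V] [Nontrivial V] [Finite G]
    [hq : Fact q.Prime] (h : Critical ρ Q q) {x : G} (hxQ : ∀ g ∈ Q, x * g * x⁻¹ ∈ Q) {P : ℕ}
    (hP : 1 < P) (hxP : x ^ P = 1)
    (hfree : ∀ (u : Q) (v : Q) (i : ℕ), 0 < i → i < P → (v : G) = x ^ i * u * (x ^ i)⁻¹ →
      u⁻¹ * v ∈ Subgroup.center Q → u ∈ Subgroup.center Q)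
    (hirr : ∀ W : Submodule K V, (∀ g ∈ Q, ∀ w ∈ W, ρ g w ∈ W) → (∀ w ∈ W, ρ x w ∈ W) →
      W = ⊥ ∨ W = ⊤) :
    P ≤ deg (ρ x) ∨ ∃ b : ℕ, 1 ≤ b ∧ P = q ^ b + 1 ∧ deg (ρ x) = q ^ b :=
  (h.deg_bound_card hxQ hP hxP hfree hirr).imp id fun ⟨b, h1, h2, h3, _⟩ => ⟨b, h1, h2, h3⟩

end

end CfsgLib.HallHigman
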