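import Cfsg.Agent.Lib.HallHigman.LowCommute
import Cfsg.Agent.Lib.StructC.BurnsideBasis

/-!
# Commutator chains of a module along the derived series of a `p`-group
-/

set_option autoImplicit false

namespace CfsgLib.HallHigman

open Module Subgroup
open scoped commutatorElement

universe u v v' w w'

variable {G : Type w} [Group G]

/-- The derived series of a subgroup, inside the ambient group. -/
def derivedIn (P : Subgroup G) : ℕ → Subgroup G
  | 0 => P
  | j + 1 => ⁅derivedIn P j, derivedIn P j⁆

theorem derivedIn_succ_le (P : Subgroup G) (j : ℕ) : derivedIn P (j + 1) ≤ derivedIn P j :=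
  commutator_le.2 fun a ha b hb => by
    rw [commutatorElement_def]; exact mul_mem (mul_mem (mul_mem ha hb) (inv_mem ha)) (inv_mem hb)

theorem derivedIn_le (P : Subgroup G) (j : ℕ) : derivedIn P j ≤ P := by
  induction j with
  | zero => exact le_rfl
  | succ j ih => exact (derivedIn_succ_le P j).trans ih

theorem derivedIn_add (P : Subgroup G) (i j : ℕ) : derivedIn (derivedIn P i) j = derivedIn P (i + j) := by
  induction j with
  | zero => rfl
  | succ j ih =>
    show ⁅derivedIn (derivedIn P i) j, derivedIn (derivedIn P i) j⁆ = ⁅derivedIn P (i + j), derivedIn P (i + j)⁆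
    rw [ih]

theorem normalizer_le_normalizer_derivedIn [Finite G] (P : Subgroup G) (j : ℕ) :
    normalizer (P : Set G) ≤ normalizer ((derivedIn P j : Subgroup G) : Set G) := by
  induction j with
  | zero => exact le_rfl
  | succ j ih => exact ih.trans (normalizer_le_normalizer_commutator _)

theorem derivedIn_map {G' : Type w'} [Group G'] (f : G' →* G) (P' : Subgroup G') (j : ℕ) :
    (derivedIn P' j).map f = derivedIn (P'.map f) j := by
  induction j with
  | zero => rfl
  | succ j ih =>
    show (⁅derivedIn P' j, derivedIn P' j⁆).map f = ⁅derivedIn (P'.map f) j, derivedIn (P'.map f) j⁆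
    rw [map_commutator, ih]

theorem mem_derivedIn_subgroupOf {P S : Subgroup G} (hPS : P ≤ S) {j : ℕ} {s : S}
    (hs : (s : G) ∈ derivedIn P j) : s ∈ derivedIn (P.subgroupOf S) j := by
  have h := derivedIn_map S.subtype (P.subgroupOf S) j
  rw [map_subgroupOf_eq_of_le hPS] at h
  obtain ⟨t, ht, e⟩ := (h.symm ▸ hs : (s : G) ∈ (derivedIn (P.subgroupOf S) j).map S.subtype)
  exact Subtype.ext e ▸ ht

theorem derivedIn_le_frattini {p : ℕ} [Fact p.Prime] [Finite G] {P : Subgroup G} (hP : IsPGroup p P)
    (j : ℕ) {A : Subgroup G} (hA : A ≤ derivedIn P j)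
    (h : A ⊔ derivedIn P (j + 1) = derivedIn P j) : A = derivedIn P j := by
  set D := derivedIn P j
  have hD : IsPGroup p D := hP.to_le (derivedIn_le P j)
  have h1 : (derivedIn P (j + 1)).subgroupOf D ≤ frattini D := by
    rw [← Subgroup.map_le_map_iff_of_injective D.subtype_injective, map_subgroupOf_eq_of_le (derivedIn_succ_le P j)]
    refine commutator_le.2 fun a ha b hb => ?_
    refine ⟨_, StructC.comm_mem_frattini hD (⟨a, ha⟩⁻¹ : D) (⟨b, hb⟩⁻¹ : D), ?_⟩
    simp [commutatorElement_def, mul_assoc]
  have h2 : A.subgroupOf D = ⊤ := by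
    refine frattini_nongenerating (eq_top_iff.2 fun x _ => ?_)
    have hx : (x : G) ∈ (A ⊔ derivedIn P (j + 1) : Subgroup G) := h.symm ▸ x.2
    have h3 : (⊤ : Subgroup D) = A.subgroupOf D ⊔ (derivedIn P (j + 1)).subgroupOf D := by
      refine Subgroup.map_injective D.subtype_injective ?_
      rw [Subgroup.map_sup, map_subgroupOf_eq_of_le hA, map_subgroupOf_eq_of_le (derivedIn_succ_le P j), h,
        ← MonoidHom.range_eq_map, range_subtype]
    exact sup_le le_sup_left (h1.trans le_sup_right) (h3 ▸ mem_top x)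
  exact le_antisymm hA (subgroupOf_eq_top.1 h2)

variable {K : Type u} [Field K] {V : Type v} [AddCommGroup V] [Module K V]

/-- The chain `V`, `[V, P]`, `[V, P, P']`, ... along the derived series. -/
def chain (ρ : Representation K G V) (P : Subgroup G) : ℕ → Submodule K V
  | 0 => ⊤
  | j + 1 => ⨆ g ∈ derivedIn P j, (chain ρ P j).map (ρ g - 1)

theorem mem_chain_succ (ρ : Representation K G V) (P : Subgroup G) {j : ℕ} {g : G}
    (hg : g ∈ derivedIn P j) {v : V} (hv : v ∈ chain ρ P j) : (ρ g - 1) v ∈ chain ρ P (j + 1) :=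
  le_iSup₂_of_le (f := fun g (_ : g ∈ derivedIn P j) => (chain ρ P j).map (ρ g - 1)) g hg le_rfl
    (Submodule.mem_map_of_mem hv)

theorem chain_map_le {G' : Type w'} [Group G'] (f : G' →* G) {V' : Type v'} [AddCommGroup V']
    [Module K V'] (σ : Representation K G' V') (ρ : Representation K G V) (ι : V' →ₗ[K] V)
    (hι : ∀ s x, ι (σ s x) = ρ (f s) (ι x)) {P' : Subgroup G'} {P : Subgroup G}
    (hP : P'.map f = P) (j : ℕ) : (chain σ P' j).map ι ≤ chain ρ P j := by
  induction j with
  | zero => exact le_top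
  | succ j ih =>
    show (⨆ g ∈ derivedIn P' j, (chain σ P' j).map (σ g - 1)).map ι ≤ _
    rw [Submodule.map_iSup]
    refine iSup_le fun g => ?_
    rw [Submodule.map_iSup]
    refine iSup_le fun hg => ?_
    rintro _ ⟨_, ⟨x, hx, rfl⟩, rfl⟩
    have e : ι ((σ g - 1) x) = (ρ (f g) - 1) (ι x) := by
      simp only [LinearMap.sub_apply, Module.End.one_apply, map_sub, hι]
    rw [e]
    refine mem_chain_succ ρ P ?_ (ih (Submodule.mem_map_of_mem hx))
    rw [← hP, ← derivedIn_map]
    exact mem_map_of_mem f hg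

theorem chain_le_map {G' : Type w'} [Group G'] (f : G' →* G) {V' : Type v'} [AddCommGroup V']
    [Module K V'] (σ : Representation K G' V') (ρ : Representation K G V) (ι : V →ₗ[K] V')
    (hι : ∀ s x, σ s (ι x) = ι (ρ (f s) x)) (hsurj : Function.Surjective ι) {P' : Subgroup G'}
    {P : Subgroup G} (hP : P'.map f = P) (j : ℕ) : chain σ P' j ≤ (chain ρ P j).map ι := by
  induction j with
  | zero => exact fun x _ => ⟨(hsurj x).choose, Submodule.mem_top, (hsurj x).choose_spec⟩
  | succ j ih =>
    refine iSup₂_le fun g hg => ?_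
    rintro _ ⟨x, hx, rfl⟩
    obtain ⟨y, hy, rfl⟩ := ih hx
    refine ⟨(ρ (f g) - 1) y, mem_chain_succ ρ P ?_ hy, ?_⟩
    · rw [← hP, ← derivedIn_map]
      exact mem_map_of_mem f hg
    · simp only [LinearMap.sub_apply, Module.End.one_apply, map_sub, hι]

/-- A quadratic element deep in the derived series annihilating the chain. -/
def Annihilates (ρ : Representation K G V) (P : Subgroup G) (k : ℕ) (a : G) : Prop :=
  a ∈ derivedIn P k ∧ (ρ a - 1) ^ 2 = 0 ∧ ∀ v ∈ chain ρ P k, (ρ a - 1) v = 0

/-- Pushing the chain through the translates of an eigenspace: from each vector of the eigenspace one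
reaches the chain, modulo translates by elements outside the stabiliser. -/
theorem exists_chain_translate [Finite G] {p : ℕ} [hp : Fact p.Prime] (hp2 : p ≠ 2)
    (ρ : Representation K G V) {P : Subgroup G} (hP : IsPGroup p P) (St : Subgroup G) {i : ℕ}
    (hi : ∀ l < i, ¬ derivedIn P l ≤ St) :
    ∀ l ≤ i, ∃ (X : V →ₗ[K] V) (ε : K) (B : Finset G), ε ≠ 0 ∧ B.card + 1 ≤ 2 ^ (i - l) ∧
      (∀ b ∈ B, b ∈ derivedIn P l ∧ b ∉ St) ∧ (∀ u ∈ chain ρ P l, X u ∈ chain ρ P i) ∧
      ∀ u, X u - ε • u ∈ Submodule.span K ((fun b => ρ b u) '' (B : Set G)) := by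
  classical
  have hgrow : ∀ d l, l + d = i → p ^ d ≤ St.relIndex (derivedIn P l) := by
    intro d
    induction d with
    | zero => intro l _; rw [pow_zero]; exact Nat.one_le_iff_ne_zero.2 index_ne_zero_of_finite
    | succ d ih =>
      intro l hl
      set D := derivedIn P l
      set D' := derivedIn P (l + 1)
      set J := St ⊓ D ⊔ D'
      have hJD : J ≤ D := sup_le inf_le_right (derivedIn_succ_le P l)
      have hJne : J ≠ D := fun e => hi l (by omega)
        ((derivedIn_le_frattini hP l (A := St ⊓ D) inf_le_right e).ge.trans inf_le_left)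
      have hJp : p ≤ J.relIndex D := by
        obtain ⟨j, hj⟩ := (hP.to_le (derivedIn_le P l)).index (J.subgroupOf D)
        rw [relIndex, hj]
        refine Nat.le_self_pow (fun e => hJne (le_antisymm hJD ?_)) p
        rw [e, pow_zero, index_eq_one, subgroupOf_eq_top] at hj
        exact hj
      have h1 : (St ⊓ D).relIndex J * J.relIndex D = (St ⊓ D).relIndex D :=
        relIndex_mul_relIndex _ _ _ le_sup_left hJD
      have h2 : (St ⊓ D).relIndex J = St.relIndex J := by
        rw [← inf_relIndex_right (St ⊓ D) J, inf_assoc, inf_eq_right.2 hJD, inf_relIndex_right]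
      rw [inf_relIndex_right, h2] at h1
      rw [← h1, pow_succ]
      exact Nat.mul_le_mul ((ih (l + 1) (by omega)).trans
        (relIndex_le_of_le_right le_sup_right index_ne_zero_of_finite)) hJp
  intro l hl
  obtain ⟨d, rfl⟩ : ∃ d, i = l + d := ⟨i - l, by omega⟩
  rw [Nat.add_sub_cancel_left]
  clear hl
  induction d generalizing l with
  | zero => exact ⟨LinearMap.id, 1, ∅, one_ne_zero, by simp, by simp, fun u hu => hu, fun u => by simp⟩
  | succ d ih =>
    obtain ⟨X, ε, B, hε, hB, hBSt, hX, hXu⟩ := ih (l + 1)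
      (fun x hx => hi x (by omega)) (fun d' x hx => hgrow d' x (by omega))
    rw [show l + 1 + d = l + (d + 1) by omega] at hX
    set D := derivedIn P l
    -- choose an element avoiding the bad cosets
    obtain ⟨g, hg, hgSt, hbg⟩ : ∃ g ∈ D, g ∉ St ∧ ∀ b ∈ B, b * g ∉ St := by
      by_contra hc
      push Not at hc
      set B₁ := insert (1 : G) B
      have hmem : ∀ b ∈ B₁, b⁻¹ ∈ D := fun b hb => by
        rcases Finset.mem_insert.1 hb with rfl | hb
        · simp
        · exact inv_mem (derivedIn_succ_le P l (hBSt b hb).1)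
      let F : B₁ → D ⧸ St.subgroupOf D := fun b => ((⟨(b : G)⁻¹, hmem b b.2⟩ : D) : D ⧸ St.subgroupOf D)
      have hF : Function.Surjective F := by
        intro q
        induction q using QuotientGroup.induction_on with
        | _ g =>
          obtain ⟨b, hb, hbSt⟩ : ∃ b ∈ B₁, b * (g : G) ∈ St := by
            by_cases hgs : (g : G) ∈ St
            · exact ⟨1, Finset.mem_insert_self _ _, by rwa [one_mul]⟩
            · obtain ⟨b, hb, hb'⟩ := hc g g.2 hgs
              exact ⟨b, Finset.mem_insert_of_mem hb, hb'⟩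
          refine ⟨⟨b, hb⟩, QuotientGroup.eq.2 ?_⟩
          show ((b⁻¹)⁻¹ * (g : G)) ∈ St
          rwa [inv_inv]
      have h1 := Nat.card_le_card_of_surjective F hF
      rw [Nat.card_eq_fintype_card (α := B₁), Fintype.card_coe] at h1
      have h2 : p ^ (d + 1) ≤ B₁.card := (hgrow (d + 1) l rfl).trans h1
      have h3 := Finset.card_insert_le (1 : G) B
      have h4 : 3 ^ (d + 1) ≤ p ^ (d + 1) := Nat.pow_le_pow_left (by have := hp.out.two_le; omega) _
      have h5 : 2 ^ (d + 1) ≤ 3 ^ (d + 1) := Nat.pow_le_pow_left (by norm_num) _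
      have h6 : 1 ≤ 2 ^ d := Nat.one_le_two_pow
      rw [pow_succ] at h5
      change B₁.card ≤ B.card + 1 at h3
      omega
    refine ⟨X.comp (ρ g - 1), -ε, insert g (B ∪ B.image (· * g)), neg_ne_zero.2 hε, ?_, ?_, ?_, fun u => ?_⟩
    · have h1 := Finset.card_insert_le g (B ∪ B.image (· * g))
      have h2 := Finset.card_union_le B (B.image (· * g))
      have h3 : (B.image (· * g)).card ≤ B.card := Finset.card_image_le
      rw [pow_succ]
      omega
    · intro b hb
      rcases Finset.mem_insert.1 hb with rfl | hb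
      · exact ⟨hg, hgSt⟩
      rcases Finset.mem_union.1 hb with hb | hb
      · exact ⟨derivedIn_succ_le P l (hBSt b hb).1, (hBSt b hb).2⟩
      · obtain ⟨c, hc, rfl⟩ := Finset.mem_image.1 hb
        exact ⟨mul_mem (derivedIn_succ_le P l (hBSt c hc).1) hg, hbg c hc⟩
    · intro u hu
      exact hX _ (mem_chain_succ ρ P hg hu)
    · set B' := insert g (B ∪ B.image (· * g))
      set Sp := Submodule.span K ((fun b => ρ b u) '' (B' : Set G))
      have hin : ∀ b ∈ B', ρ b u ∈ Sp := fun b hb => Submodule.subset_span ⟨b, hb, rfl⟩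
      have hgu : X (ρ g u) - ε • ρ g u ∈ Sp := by
        refine Submodule.span_le.2 ?_ (hXu (ρ g u))
        rintro _ ⟨b, hb, rfl⟩
        show ρ b (ρ g u) ∈ Sp
        rw [← Module.End.mul_apply, ← map_mul]
        exact hin _ (Finset.mem_insert_of_mem (Finset.mem_union_right _ (Finset.mem_image_of_mem _ hb)))
      have hu' : X u - ε • u ∈ Sp := by
        refine Submodule.span_le.2 ?_ (hXu u)
        rintro _ ⟨b, hb, rfl⟩
        exact hin _ (Finset.mem_insert_of_mem (Finset.mem_union_left _ hb))
      have e : (X.comp (ρ g - 1)) u - (-ε) • u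
          = (X (ρ g u) - ε • ρ g u) + ε • ρ g u - (X u - ε • u) := by
        simp only [LinearMap.comp_apply, LinearMap.sub_apply, Module.End.one_apply, map_sub, neg_smul]
        abel
      rw [e]
      exact Submodule.sub_mem _ (Submodule.add_mem _ hgu
        (Submodule.smul_mem _ _ (hin g (Finset.mem_insert_self _ _)))) hu'

end CfsgLib.HallHigman
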