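import Cfsg.Agent.Lib.HallHigman.Core
import Mathlib.LinearAlgebra.Quotient.Basic
import Mathlib.GroupTheory.OrderOfElement

/-!
# Common eigenvectors, orbits of eigencharacters, restrictions and quotients
-/

set_option autoImplicit false

namespace CfsgLib.HallHigman

open Module Polynomial

universe u v w

variable {K : Type u} [Field K] {V : Type v} [AddCommGroup V] [Module K V]
  {G : Type w} [Group G]

/-- A commutative subgroup has a common eigenvector. -/
theorem exists_common_eigvec [IsAlgClosed K] [FiniteDimensional K V] [Nontrivial V]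
    (ρ : Representation K G V) (Z : Subgroup G) (hZ : ∀ a ∈ Z, ∀ b ∈ Z, a * b = b * a) :
    ∃ (v : V) (χ : G → K), v ≠ 0 ∧ ∀ z ∈ Z, ρ z v = χ z • v := by
  classical
  obtain ⟨W, ⟨hWb, hWi⟩, hmin⟩ := wellFounded_lt.has_min
    {W : Submodule K V | W ≠ ⊥ ∧ ∀ z ∈ Z, ∀ w ∈ W, ρ z w ∈ W} ⟨⊤, top_ne_bot, by simp⟩
  have : Nontrivial W := Submodule.nontrivial_iff_ne_bot.2 hWb
  obtain ⟨v, hvW, hv⟩ := Submodule.exists_mem_ne_zero_of_ne_bot hWb
  have key : ∀ z ∈ Z, ∃ c : K, ∀ w ∈ W, ρ z w = c • w := by
    intro z hz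
    obtain ⟨c, hc⟩ := Module.End.exists_eigenvalue ((ρ z).restrict (hWi z hz))
    refine ⟨c, ?_⟩
    set E := (Module.End.eigenspace ((ρ z).restrict (hWi z hz)) c).map W.subtype with hE
    have hEle : E ≤ W := Submodule.map_subtype_le _ _
    have hEb : E ≠ ⊥ := fun e => hc (eq_bot_of_map_subtype e)
    have hEW : E = W := eq_of_le_of_not_lt hEle fun hlt => hmin E ⟨hEb, fun y hy w hw => by
      obtain ⟨w, hw, rfl⟩ := hw
      refine ⟨⟨ρ y w, hWi y hy w w.2⟩, ?_, rfl⟩
      rw [SetLike.mem_coe, Module.End.mem_eigenspace_iff] at hw ⊢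
      refine Subtype.ext ?_
      have h1 : ρ z w = c • (w : V) := congrArg Subtype.val hw
      show ρ z (ρ y w) = c • ρ y w
      rw [← map_smul, ← h1, ← Module.End.mul_apply, ← Module.End.mul_apply, ← map_mul, ← map_mul,
        hZ z hz y hy]⟩ hlt
    intro w hw
    rw [← hEW] at hw
    obtain ⟨w, hw, rfl⟩ := hw
    rw [SetLike.mem_coe, Module.End.mem_eigenspace_iff] at hw
    exact congrArg Subtype.val hw
  choose c hc using key
  exact ⟨v, fun z => if hz : z ∈ Z then c z hz else 0, hv, fun z hz => by
    simp only [dif_pos hz]; exact hc z hz v hvW⟩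

/-- Vectors in eigenspaces of distinct characters are independent. -/
theorem eq_zero_of_sum_eigen {ι : Type*} [Fintype ι] (ρ : Representation K G V) (Z : Subgroup G)
    (χ : ι → G → K) (hχ : ∀ i j, (∀ z ∈ Z, χ i z = χ j z) → i = j) (v : ι → V)
    (hv : ∀ i, ∀ z ∈ Z, ρ z (v i) = χ i z • v i) (h : ∑ i, v i = 0) (i : ι) : v i = 0 := by
  classical
  let ψ : {i // v i ≠ 0} → Z →* K := fun i =>
    { toFun := fun z => χ i z
      map_one' := smul_left_injective K i.2 (by
        show χ i (1 : Z) • v i = (1 : K) • v i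
        rw [← hv i _ (1 : Z).2, one_smul, Subgroup.coe_one, map_one, Module.End.one_apply])
      map_mul' := fun a b => smul_left_injective K i.2 (by
        show χ i (a * b : Z) • v i = (χ i a * χ i b) • v i
        rw [← hv i _ (a * b).2, Subgroup.coe_mul, map_mul, Module.End.mul_apply, hv i _ b.2, map_smul,
          hv i _ a.2, smul_smul, mul_comm]) }
  have hψ : Function.Injective ψ := fun i j e => Subtype.ext (hχ i j fun z hz =>
    congrArg (fun f : Z →* K => f ⟨z, hz⟩) e)
  have hli := (linearIndependent_monoidHom Z K).comp ψ hψ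
  rw [Fintype.linearIndependent_iff] at hli
  by_contra hi
  refine hi ((Module.forall_dual_apply_eq_zero_iff K (v i)).1 fun f => ?_)
  refine hli (fun j => f (v j)) (funext fun z => ?_) ⟨i, hi⟩
  simp only [Function.comp_apply, Finset.sum_apply, Pi.smul_apply, smul_eq_mul, Pi.zero_apply]
  have h1 : ∑ j, f (ρ (z : G) (v j)) = 0 := by rw [← map_sum, ← map_sum, h, map_zero, map_zero]
  rw [← h1]
  show ∑ j : {i // v i ≠ 0}, f (v j) * χ j z = _
  rw [← Finset.sum_subtype (Finset.univ.filter fun j => v j ≠ 0) (by simp)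
    (fun j => f (v j) * χ j z)]
  rw [← Finset.sum_subset (Finset.filter_subset (fun j => v j ≠ 0) Finset.univ)
    (f := fun j => f (ρ (z : G) (v j))) fun j _ hj => by
      have hj0 : v j = 0 := by simpa using hj
      simp [hj0]]
  refine Finset.sum_congr rfl fun j _ => ?_
  rw [hv j _ z.2, map_smul, smul_eq_mul, mul_comm]

theorem aeval_restrict_apply {W : Submodule K V} {f : Module.End K V} (hf : ∀ w ∈ W, f w ∈ W)
    (g : K[X]) (w : W) : ((aeval (f.restrict hf) g w : W) : V) = aeval f g (w : V) := by
  induction g using Polynomial.induction_on' with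
  | add a b ha hb => simp [ha, hb]
  | monomial n a =>
    simp only [aeval_monomial, Module.End.mul_apply, Module.algebraMap_end_apply, SetLike.val_smul]
    congr 1
    induction n with
    | zero => rfl
    | succ n ihn =>
      rw [pow_succ', pow_succ', Module.End.mul_apply, Module.End.mul_apply, ← ihn]
      rfl

theorem deg_restrict_le [FiniteDimensional K V] {W : Submodule K V} {f : Module.End K V}
    (hf : ∀ w ∈ W, f w ∈ W) : deg (f.restrict hf) ≤ deg f :=
  deg_le_of_aeval_eq_zero (minpoly.ne_zero (Algebra.IsIntegral.isIntegral f))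
    (LinearMap.ext fun w => Subtype.ext (by rw [aeval_restrict_apply, minpoly.aeval]; rfl))

theorem deg_mapQ_le [FiniteDimensional K V] {W : Submodule K V} {f : Module.End K V}
    (hf : W ≤ W.comap f) : deg (W.mapQ W f hf) ≤ deg f := by
  have key : ∀ (g : K[X]) (v : V), aeval (W.mapQ W f hf) g (Submodule.Quotient.mk v)
      = Submodule.Quotient.mk (aeval f g v) := by
    intro g v
    induction g using Polynomial.induction_on' with
    | add a b ha hb => simp [ha, hb]
    | monomial n a =>
      simp only [aeval_monomial, Module.End.mul_apply, Module.algebraMap_end_apply,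
        Submodule.Quotient.mk_smul]
      congr 1
      induction n with
      | zero => rfl
      | succ n ihn =>
        rw [pow_succ', pow_succ', Module.End.mul_apply, Module.End.mul_apply, ihn]
        rfl
  refine deg_le_of_aeval_eq_zero (minpoly.ne_zero (Algebra.IsIntegral.isIntegral f))
    (LinearMap.ext fun w => ?_)
  obtain ⟨v, rfl⟩ := Submodule.Quotient.mk_surjective W w
  rw [key, minpoly.aeval]
  rfl

/-- If the translates `x^i W`, `i < o`, are independent then `o` times the degree of `x^o` on `W`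
is at most the degree of `x`. -/
theorem mul_deg_restrict_le [IsAlgClosed K] [FiniteDimensional K V] {x : Module.End K V} {o : ℕ}
    {W : Submodule K V} [Nontrivial W] (hW : ∀ w ∈ W, (x ^ o) w ∈ W)
    (hind : ∀ w : Fin o → W, ∑ i : Fin o, (x ^ (i : ℕ)) (w i : V) = 0 → ∀ i, w i = 0) :
    o * deg ((x ^ o).restrict hW) ≤ deg x := by
  set y := (x ^ o).restrict hW with hy
  obtain ⟨w, hw⟩ := exists_cyclic y
  set r := deg y
  refine le_deg_of_forall_eq_zero x (w := (w : V)) fun g hg hgw => ?_
  rw [mul_comm] at hg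
  have hdeg : g = ∑ k : Fin (r * o), monomial (k : ℕ) (g.coeff k) := by
    conv_lhs => rw [g.as_sum_range' (r * o) hg]
    exact Finset.sum_range fun k => monomial k (g.coeff k)
  rw [hdeg, map_sum, LinearMap.sum_apply] at hgw
  rw [← finProdFinEquiv.sum_comp (g := fun k : Fin (r * o) =>
    aeval x (monomial (k : ℕ) (g.coeff k)) (w : V))] at hgw
  rw [Fintype.sum_prod_type, Finset.sum_comm] at hgw
  let h : Fin o → K[X] := fun i => ∑ j : Fin r, monomial (j : ℕ) (g.coeff ((i : ℕ) + o * (j : ℕ)))
  have hh : ∀ i, aeval y (h i) w = 0 := by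
    refine hind (fun i => aeval y (h i) w) ?_
    rw [← hgw]
    refine Finset.sum_congr rfl fun i _ => ?_
    simp only [h, map_sum, LinearMap.sum_apply, Submodule.coe_sum]
    refine Finset.sum_congr rfl fun j _ => ?_
    rw [aeval_restrict_apply, finProdFinEquiv_apply_val]
    simp only [aeval_monomial, Module.End.mul_apply, Module.algebraMap_end_apply, map_smul,
      pow_add, pow_mul]
  refine Polynomial.ext fun k => ?_
  rw [coeff_zero]
  by_cases hk : k < r * o
  · obtain ⟨⟨j, i⟩, hji⟩ := finProdFinEquiv.surjective (⟨k, hk⟩ : Fin (r * o))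
    have h1 : ((i : ℕ) + o * (j : ℕ)) = k := by
      have := congrArg Fin.val hji
      rwa [finProdFinEquiv_apply_val] at this
    have h2 : h i = 0 := by
      refine eq_zero_of_dvd_of_degree_lt (hw _ (hh i)) ?_
      refine (degree_sum_le _ _).trans_lt ((Finset.sup_lt_iff ?_).2 fun j _ => ?_)
      · rw [bot_lt_iff_ne_bot]
        exact degree_ne_bot.2 (minpoly.ne_zero (Algebra.IsIntegral.isIntegral y))
      · refine (degree_monomial_le _ _).trans_lt ?_
        rw [degree_eq_natDegree (minpoly.ne_zero (Algebra.IsIntegral.isIntegral y))]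
        exact_mod_cast j.2
    have h3 := congrArg (fun p : K[X] => p.coeff (j : ℕ)) h2
    simpa [h, coeff_monomial, Fin.val_inj, h1] using h3
  · exact coeff_eq_zero_of_natDegree_lt (by omega)

end CfsgLib.HallHigman
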