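import Cfsg.Agent.Lib.HallHigman.SmallMoved
import Cfsg.Agent.Lib.PLength.ConjRep
import Cfsg.Agent.Lib.Coprime.Action
import Cfsg.Agent.Lib.StructC.BurnsideBasis
import Mathlib.GroupTheory.Frattini

/-!
# Elements of low degree in the exceptional case of Hall and Higman's Theorem B

If `T` is a `2`-group normalised by a `p`-group `P` of linear transformations in odd characteristic
`p`, and `z, z' ∈ P` have minimal polynomials of degree less than their orders `p ^ (m + 1)`,
`p ^ (m' + 1)`, then the commutator of `z ^ (p ^ m)` and `z' ^ (p ^ m')` centralises `T`.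
-/

set_option autoImplicit false

namespace CfsgLib.HallHigman

open Module Subgroup
open scoped commutatorElement

universe u v w

variable {K : Type u} [Field K]

/-- A power of exponent `p ^ m` of an element of degree less than `p ^ (m + 1)`. -/
def Low (p : ℕ) {G : Type w} [Group G] {V : Type v} [AddCommGroup V] [Module K V]
    (ρ : Representation K G V) (P : Subgroup G) (y : G) : Prop :=
  ∃ z ∈ P, ∃ m : ℕ, y = z ^ p ^ m ∧ ρ (z ^ p ^ (m + 1)) = 1 ∧ deg (ρ z) < p ^ (m + 1)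

variable {p : ℕ} {G : Type w} [Group G] {V : Type v} [AddCommGroup V] [Module K V]
  {ρ : Representation K G V} {P : Subgroup G} {y : G}

theorem Low.mem (h : Low p ρ P y) : y ∈ P := by
  obtain ⟨z, hz, m, rfl, -, -⟩ := h
  exact pow_mem hz _

/-- The elements preserving a subspace. -/
def stabSubgroup [Finite G] (ρ : Representation K G V) (W : Submodule K V) : Subgroup G where
  carrier := {s | ∀ w ∈ W, ρ s w ∈ W}
  one_mem' := fun w hw => by simpa using hw
  mul_mem' := fun {a b} ha hb w hw => by rw [map_mul]; exact ha _ (hb w hw)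
  inv_mem' := fun {a} ha w hw => by
    rw [show a⁻¹ = a ^ (orderOf a - 1) from inv_eq_of_mul_eq_one_right (by
      rw [← pow_succ', Nat.sub_add_cancel (orderOf_pos a), pow_orderOf_eq_one]), map_pow]
    generalize orderOf a - 1 = k
    induction k with
    | zero => exact hw
    | succ k ihk => rw [pow_succ', Module.End.mul_apply]; exact ha _ ihk

variable [hp : Fact p.Prime] [IsAlgClosed K] [CharP K p]

omit [IsAlgClosed K] in
theorem two_ne_zero_of_charP (hp2 : p ≠ 2) : ((2 : ℕ) : K) ≠ 0 := fun e =>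
  hp2 ((Nat.prime_dvd_prime_iff_eq hp.out Nat.prime_two).1 ((CharP.cast_eq_zero_iff K p 2).1 e))

/-- Elements of low degree centralise the abelian `2`-subgroups normalised by their roots. -/
theorem Low.commute_of_abelian [Finite G] [FiniteDimensional K V] (hp2 : p ≠ 2)
    (hinj : Function.Injective ρ) (hy : Low p ρ P y) {A : Subgroup G} (hA : IsPGroup 2 A)
    (hAc : ∀ a ∈ A, ∀ b ∈ A, a * b = b * a) (hPA : P ≤ normalizer (A : Set G)) {a : G} (ha : a ∈ A) :
    y * a = a * y := by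
  obtain ⟨z, hz, m, rfl, h1, h2⟩ := hy
  by_contra hne
  rcases boundHolds hp.out Nat.prime_two hp2 (two_ne_zero_of_charP hp2) _ ρ rfl A z (m + 1) hA
    (hPA hz) h1 (by omega) ⟨a, ha, fun e => hne (hinj (by simpa using e))⟩ with h | ⟨_, _, -, -, -, -, -, g, hg, g', hg', hne'⟩
  · omega
  · exact hne' (by rw [hAc g hg g' hg'])

omit [CharP K p] in
/-- The part `[T, y]` moved by an element of low degree is critical, so its order modulo the centre
is determined by the degree. -/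
theorem exists_critical_bound [Finite G] [FiniteDimensional K V] [Nontrivial V] (hp2 : p ≠ 2)
    (hinj : Function.Injective ρ) {T : Subgroup G} (hT : IsPGroup 2 T)
    (hTP : P ≤ normalizer (T : Set G)) (hcl : ∀ a ∈ T, ∀ b ∈ T, ∀ t ∈ T, t * ⁅a, b⁆ = ⁅a, b⁆ * t)
    (hsc : ∀ z ∈ T, (∀ t ∈ T, t * z = z * t) → ∃ c : K, ρ z = c • (1 : Module.End K V))
    {z : G} (hz : z ∈ P) {m : ℕ} (h1 : ρ (z ^ p ^ (m + 1)) = 1) (h2 : deg (ρ z) < p ^ (m + 1))
    (hfixc : ∀ a ∈ T, (∀ t ∈ T, t * a = a * t) → z ^ p ^ m * a = a * z ^ p ^ m)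
    (hmov : ∃ t ∈ T, z ^ p ^ m * t ≠ t * z ^ p ^ m) :
    ∃ (R : Subgroup G) (b : ℕ), R ≤ T ∧
      (∀ t ∈ T, z ^ p ^ m * t * (z ^ p ^ m)⁻¹ * t⁻¹ ∈ R) ∧ 1 ≤ b ∧ p ^ (m + 1) = 2 ^ b + 1 ∧
      Nat.card (R ⧸ center R) = 2 ^ b * 2 ^ b ∧
      ∀ a : R, a ∈ center R → ∀ t ∈ T, t * (a : G) = a * t := by
  classical
  have := Fact.mk Nat.prime_two
  set y := z ^ p ^ m with hy
  set A := zpowers y with hA
  have hzP : z ^ p ^ (m + 1) = 1 := hinj (by rw [h1, map_one])
  have hyp : y ^ p = 1 := by rw [hy, ← pow_mul, ← pow_succ, hzP]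
  have hAT : A ≤ normalizer (T : Set G) := Subgroup.zpowers_le.2 (hTP (pow_mem hz _))
  have hcop : (Nat.card A).Coprime (Nat.card T) := by
    obtain ⟨k, hk⟩ := IsPGroup.iff_card.1 hT
    rw [hk, hA, Nat.card_zpowers]
    exact (((Nat.coprime_primes hp.out Nat.prime_two).2 hp2).pow_right k).coprime_dvd_left
      (orderOf_dvd_of_pow_eq_one hyp)
  have hsol : Group.IsSolvable A ∨ Group.IsSolvable T :=
    Or.inl (by open scoped IsMulCommutative in exact inferInstance)
  set R := ⁅T, A⁆ with hR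
  have hRT : R ≤ T := le_normalizer_iff_commutator_le_left.mp hAT
  -- the centraliser of `y` in `T` centralises `R`
  have hCR : ∀ c ∈ T, y * c = c * y → ∀ r ∈ R, r * c = c * r := by
    intro c hc hcy r hr
    refine mem_centralizer_singleton_iff.1 ((commutator_le.2 fun t ht a ha => ?_ : R ≤ centralizer {c}) hr)
    obtain ⟨l, rfl⟩ := mem_powers_iff_mem_zpowers.2 ha
    have hl : ∀ {g}, y * g = g * y → (y ^ l) * g * (y ^ l)⁻¹ = g := fun hg => by
      rw [((show Commute y _ from hg).pow_left l).eq, mul_inv_cancel_right]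
    have hconj : y ^ l * ⁅c, t⁆ * (y ^ l)⁻¹ = ⁅c, t⁆ :=
      hl (hfixc _ (mul_mem (mul_mem (mul_mem hc ht) (inv_mem hc)) (inv_mem ht)) (hcl c hc t ht))
    have hct : ⁅c, y ^ l * t * (y ^ l)⁻¹⁆ = ⁅c, t⁆ := by
      rw [← hconj, commutatorElement_def, commutatorElement_def]
      conv_rhs => rw [show y ^ l * (c * t * c⁻¹ * t⁻¹) * (y ^ l)⁻¹
        = (y ^ l * c * (y ^ l)⁻¹) * (y ^ l * t * (y ^ l)⁻¹) * (y ^ l * c * (y ^ l)⁻¹)⁻¹ *
          (y ^ l * t * (y ^ l)⁻¹)⁻¹ by group, hl hcy]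
    have hu : y ^ l * t * (y ^ l)⁻¹ ∈ T :=
      conj_mem_of_mem_normalizer (hAT (pow_mem (mem_zpowers y) l)) ht
    rw [mem_centralizer_singleton_iff]
    set u := y ^ l * t * (y ^ l)⁻¹ with hu'
    -- `c` commutes with `t * u⁻¹`
    have e : c * (t * u⁻¹) * c⁻¹ = t * u⁻¹ := by
      calc c * (t * u⁻¹) * c⁻¹ = ⁅c, t⁆ * t * u⁻¹ * ⁅c, u⁆⁻¹ := by
            rw [commutatorElement_def, commutatorElement_def]; group
        _ = ⁅c, t⁆ * (t * u⁻¹) * ⁅c, t⁆⁻¹ := by rw [hct]; group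
        _ = _ := by
          rw [← hcl c hc t ht (t * u⁻¹) (mul_mem ht (inv_mem hu)), mul_inv_cancel_right]
    rw [commutatorElement_def, show t * y ^ l * t⁻¹ * (y ^ l)⁻¹ = t * u⁻¹ by rw [hu']; group]
    exact (mul_inv_eq_iff_eq_mul.1 e).symm
  have hcen : ∀ a : R, a ∈ center R → ∀ t ∈ T, t * (a : G) = a * t := by
    intro a ha t ht
    obtain ⟨n, hn, c, hc, rfl⟩ := Coprime.exists_mul_eq' hAT hcop hsol ht
    have e1 : n * a = a * n := congrArg Subtype.val (Subgroup.mem_center_iff.1 ha ⟨n, hn⟩)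
    have e2 := hCR c hc.1 (mem_centralizer_iff.1 hc.2 y (mem_zpowers y)) a a.2
    rw [mul_assoc, ← e2, ← mul_assoc, e1, mul_assoc]
  have hRy : ∀ t ∈ T, y * t * y⁻¹ * t⁻¹ ∈ R := fun t ht => by
    have : ⁅y, t⁆ ∈ ⁅A, T⁆ := commutator_mem_commutator (mem_zpowers y) ht
    rwa [commutator_comm, commutatorElement_def] at this
  have hRz : z ∈ normalizer (R : Set G) := by
    rw [mem_normalizer_iff_map_conj_eq, map_commutator, hA, MonoidHom.map_zpowers,
      mem_normalizer_iff_map_conj_eq.1 (hTP hz)]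
    congr 2
    show z * z ^ p ^ m * z⁻¹ = z ^ p ^ m
    rw [← pow_succ', pow_succ, mul_inv_cancel_right]
  have hnab : center R ≠ ⊤ := by
    intro e
    have h0 : ⁅R, A⁆ = ⊥ := commutator_eq_bot_iff_le_centralizer.2 fun r hr =>
      mem_centralizer_iff.2 fun a ha => by
        obtain ⟨l, rfl⟩ := Subgroup.mem_zpowers_iff.1 ha
        exact (Commute.zpow_left (hfixc r (hRT hr)
          (hcen ⟨r, hr⟩ (e ▸ Subgroup.mem_top _))) l).eq
    have hbot := Coprime.commutator_eq_bot_of_commutator_commutator hAT hcop hsol h0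
    obtain ⟨t, ht, hne⟩ := hmov
    exact hne (mul_inv_eq_iff_eq_mul.1 (mul_inv_eq_one.1 (mem_bot.1 (hbot ▸ hRy t ht))))
  -- a minimal invariant subspace
  obtain ⟨W, ⟨hWR, hWz, hWb⟩, hWmin⟩ := wellFounded_lt.has_min
    {W : Submodule K V | (∀ g ∈ R, ∀ w ∈ W, ρ g w ∈ W) ∧ (∀ w ∈ W, ρ z w ∈ W) ∧ W ≠ ⊥}
    ⟨⊤, fun _ _ _ _ => Submodule.mem_top, fun _ _ => Submodule.mem_top, top_ne_bot⟩
  set S := R ⊔ zpowers z
  have hWS := invariant_of_closure ρ R z W hWR hWz
  have hRS : R ≤ S := le_sup_left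
  have hzS : z ∈ S := mem_sup_right (mem_zpowers z)
  set σ₀ := restrictRep ρ S W hWS
  set π := QuotientGroup.mk' σ₀.ker
  let σ : Representation K (S ⧸ σ₀.ker) W := QuotientGroup.lift σ₀.ker σ₀ le_rfl
  have hσ : ∀ s, σ (π s) = σ₀ s := fun s => QuotientGroup.lift_mk' _ _ s
  have hσinj : Function.Injective σ := by
    intro a b hab
    obtain ⟨a, rfl⟩ := QuotientGroup.mk'_surjective σ₀.ker a
    obtain ⟨b, rfl⟩ := QuotientGroup.mk'_surjective σ₀.ker b
    rw [hσ, hσ] at hab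
    exact QuotientGroup.eq.2 (MonoidHom.mem_ker.2 (by
      rw [map_mul, ← hab, ← map_mul, inv_mul_cancel, map_one]))
  have : Nontrivial W := Submodule.nontrivial_iff_ne_bot.2 hWb
  let ι : R →* S ⧸ σ₀.ker := π.comp (inclusion hRS)
  -- `R` acts faithfully on `W`
  have hιinj : Function.Injective ι := by
    rw [← MonoidHom.ker_eq_bot_iff]
    by_contra hne
    obtain ⟨a₀, ha₀, ha₀1⟩ := ι.ker.bot_or_exists_ne_one.resolve_left hne
    obtain ⟨a, hak, hac, ha1⟩ : ∃ a ∈ ι.ker, a ∈ center R ∧ a ≠ 1 := by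
      by_cases hc : a₀ ∈ center R
      · exact ⟨a₀, ha₀, hc, ha₀1⟩
      rw [Subgroup.mem_center_iff] at hc
      push Not at hc
      obtain ⟨r, hr⟩ := hc
      refine ⟨⁅r, a₀⁆, ?_, Subgroup.mem_center_iff.2 fun g =>
        Subtype.ext (hcl r (hRT r.2) a₀ (hRT a₀.2) g (hRT g.2)),
        fun e => hr (commutatorElement_eq_one_iff_mul_comm.1 e)⟩
      rw [commutatorElement_def]
      exact mul_mem ((inferInstance : ι.ker.Normal).conj_mem a₀ ha₀ r) (inv_mem ha₀)
    obtain ⟨c, hc⟩ := hsc a (hRT a.2) (hcen a hac)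
    have h3 : σ₀ (inclusion hRS a) = 1 := by
      rw [← hσ, show π (inclusion hRS a) = 1 from hak, map_one]
    obtain ⟨w, hw⟩ := exists_ne (0 : W)
    have h4 : c • (w : V) = w := by
      have := congrArg Subtype.val (LinearMap.congr_fun h3 w)
      rw [restrictRep_apply_coe, coe_inclusion, hc] at this
      simpa using this
    have hc1 : c = 1 := smul_left_injective K (fun e => hw (Subtype.ext e)) (h4.trans (one_smul K _).symm)
    exact ha1 (Subtype.ext (hinj (by rw [hc, hc1, one_smul, OneMemClass.coe_one, map_one])))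
  let e : R ≃* ι.range := MonoidHom.ofInjective hιinj
  have hcrit : Critical σ ι.range 2 :=
    { injective := hσinj
      isPGroup := (hT.to_le hRT).of_equiv e
      scalar := fun r hr => by
        obtain ⟨a, rfl⟩ := e.surjective r
        have ha : a ∈ center R := Subgroup.mem_center_iff.2 fun g => e.injective (by
          rw [map_mul, map_mul, Subgroup.mem_center_iff.1 hr (e g)])
        obtain ⟨c, hc⟩ := hsc a (hRT a.2) (hcen a ha)
        refine ⟨c, LinearMap.ext fun w => Subtype.ext ?_⟩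
        rw [show ((e a : ι.range) : S ⧸ σ₀.ker) = π (inclusion hRS a) from rfl, hσ,
          restrictRep_apply_coe, coe_inclusion, hc]
        rfl
      classTwo := fun g g' => by
        obtain ⟨a, rfl⟩ := e.surjective g
        obtain ⟨b, rfl⟩ := e.surjective g'
        rw [← map_inv, ← map_inv, ← map_mul, ← map_mul, ← map_mul, Subgroup.mem_center_iff]
        intro k
        obtain ⟨k, rfl⟩ := e.surjective k
        rw [← map_mul, ← map_mul]
        exact congrArg e (Subtype.ext (hcl a (hRT a.2) b (hRT b.2) k (hRT k.2)))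
      nonabelian := fun h => hnab (eq_top_iff.2 fun a _ => Subgroup.mem_center_iff.2 fun g =>
        e.injective (by rw [map_mul, map_mul, Subgroup.mem_center_iff.1 (h ▸ Subgroup.mem_top _) (e g)])) }
  set x := π ⟨z, hzS⟩ with hx
  have hxQ : ∀ g ∈ ι.range, x * g * x⁻¹ ∈ ι.range := by
    rintro _ ⟨a, rfl⟩
    exact ⟨⟨z * a * z⁻¹, conj_mem_of_mem_normalizer hRz a.2⟩, rfl⟩
  have hfree : ∀ (u v : ι.range) (i : ℕ), 0 < i → i < p ^ (m + 1) →
      (v : S ⧸ σ₀.ker) = x ^ i * u * (x ^ i)⁻¹ → u⁻¹ * v ∈ center ι.range → u ∈ center ι.range := by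
    intro u v i hi hiP hv huv
    obtain ⟨a, rfl⟩ := e.surjective u
    obtain ⟨b, rfl⟩ := e.surjective v
    have hzi : z ^ i * a * (z ^ i)⁻¹ ∈ R :=
      conj_mem_of_mem_normalizer (pow_mem hRz i) a.2
    obtain rfl : b = ⟨_, hzi⟩ := hιinj hv
    rw [← map_inv, ← map_mul] at huv
    have hab : (a⁻¹ * ⟨_, hzi⟩ : R) ∈ center R := Subgroup.mem_center_iff.2 fun g => e.injective (by
      rw [map_mul, map_mul]; exact Subgroup.mem_center_iff.1 huv (e g))
    -- the powers moving `a` only by central elements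
    let U : Subgroup G :=
      { carrier := {g | g ∈ normalizer (T : Set G) ∧ ∀ t ∈ T, t * ((a : G)⁻¹ * (g * a * g⁻¹))
          = (a : G)⁻¹ * (g * a * g⁻¹) * t}
        one_mem' := ⟨one_mem _, fun t _ => by simp⟩
        mul_mem' := fun {g g'} hg hg' => ⟨mul_mem hg.1 hg'.1, fun t ht => by
          rw [show (a : G)⁻¹ * (g * g' * a * (g * g')⁻¹)
            = (a : G)⁻¹ * (g * a * g⁻¹) * (g * ((a : G)⁻¹ * (g' * a * g'⁻¹)) * g⁻¹) by group]
          refine (Commute.mul_right (show Commute t _ from hg.2 t ht) ?_).eq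
          have := hg'.2 _ (inv_conj_mem_of_mem_normalizer hg.1 ht)
          calc t * (g * ((a : G)⁻¹ * (g' * a * g'⁻¹)) * g⁻¹)
              = g * ((g⁻¹ * t * g) * ((a : G)⁻¹ * (g' * a * g'⁻¹))) * g⁻¹ := by group
            _ = g * (((a : G)⁻¹ * (g' * a * g'⁻¹)) * (g⁻¹ * t * g)) * g⁻¹ := by rw [this]
            _ = _ := by group⟩
        inv_mem' := fun {g} hg => ⟨inv_mem hg.1, fun t ht => by
          rw [show (a : G)⁻¹ * (g⁻¹ * a * g⁻¹⁻¹) = g⁻¹ * ((a : G)⁻¹ * (g * a * g⁻¹))⁻¹ * g by group]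
          have h2 : Commute (g * t * g⁻¹) ((a : G)⁻¹ * (g * a * g⁻¹))⁻¹ :=
            (show Commute _ _ from hg.2 _ (conj_mem_of_mem_normalizer hg.1 ht)).inv_right
          calc t * (g⁻¹ * ((a : G)⁻¹ * (g * a * g⁻¹))⁻¹ * g)
              = g⁻¹ * ((g * t * g⁻¹) * ((a : G)⁻¹ * (g * a * g⁻¹))⁻¹) * g := by group
            _ = g⁻¹ * (((a : G)⁻¹ * (g * a * g⁻¹))⁻¹ * (g * t * g⁻¹)) * g := by rw [h2.eq]
            _ = _ := by group⟩ }
    have hyU : y ∈ U := Subgroup.zpowers_le.2 (show z ^ i ∈ U from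
      ⟨pow_mem (hTP hz) i, hcen _ hab⟩) (pow_mem_zpowers_of_pos_lt (n := m + 1) hp.out hzP hi hiP)
    set c := (a : G)⁻¹ * (y * a * y⁻¹) with hc
    have hcT : c ∈ T := mul_mem (inv_mem (hRT a.2)) (conj_mem_of_mem_normalizer hyU.1 (hRT a.2))
    have hyc := hfixc c hcT hyU.2
    have hl : ∀ l : ℕ, y ^ l * a * (y ^ l)⁻¹ = a * c ^ l := by
      intro l
      induction l with
      | zero => simp
      | succ l ih =>
        calc y ^ (l + 1) * a * (y ^ (l + 1))⁻¹ = y * (y ^ l * a * (y ^ l)⁻¹) * y⁻¹ := by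
              rw [pow_succ']; group
          _ = (y * a * y⁻¹) * (y * c ^ l * y⁻¹) := by rw [ih]; group
          _ = a * c * c ^ l := by
              rw [((show Commute y c from hyc).pow_right l).eq, mul_inv_cancel_right, hc,
                mul_inv_cancel_left]
          _ = _ := by rw [pow_succ', mul_assoc]
    have hcp : c ^ p = 1 := by
      have := hl p
      rwa [hyp, one_mul, inv_one, mul_one, left_eq_mul] at this
    obtain ⟨k, hk⟩ := IsPGroup.iff_orderOf.1 hT ⟨c, hcT⟩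
    rw [orderOf_mk] at hk
    have hc1 : c = 1 := by
      rw [← orderOf_eq_one_iff]
      exact Nat.eq_one_of_dvd_coprimes (((Nat.coprime_primes hp.out Nat.prime_two).2 hp2).pow_right k)
        (orderOf_dvd_of_pow_eq_one hcp) (dvd_of_eq hk)
    have hya : y * a = a * y := by
      have := hl 1
      rw [pow_one, pow_one, hc1, mul_one] at this
      exact mul_inv_eq_iff_eq_mul.1 this
    exact Subgroup.mem_center_iff.2 fun g => by
      obtain ⟨g, rfl⟩ := e.surjective g
      rw [← map_mul, ← map_mul]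
      exact congrArg e (Subtype.ext (hCR a (hRT a.2) hya g g.2))
  have hirr : ∀ U : Submodule K W, (∀ g ∈ ι.range, ∀ w ∈ U, σ g w ∈ U) → (∀ w ∈ U, σ x w ∈ U) →
      U = ⊥ ∨ U = ⊤ := by
    intro U hU1 hU2
    by_cases hUb : U = ⊥
    · exact Or.inl hUb
    refine Or.inr (Submodule.map_injective_of_injective W.subtype_injective ?_)
    rw [Submodule.map_subtype_top]
    refine le_antisymm (Submodule.map_subtype_le W U) ?_
    by_contra hne
    refine hWmin (U.map W.subtype) ⟨?_, ?_, fun h => hUb (eq_bot_of_map_subtype h)⟩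
      (lt_of_le_not_ge (Submodule.map_subtype_le W U) hne)
    · rintro g hg _ ⟨w, hw, rfl⟩
      exact ⟨σ₀ ⟨g, hRS hg⟩ w, (hσ ⟨g, hRS hg⟩) ▸ hU1 _ ⟨⟨g, hg⟩, rfl⟩ w hw, rfl⟩
    · rintro _ ⟨w, hw, rfl⟩
      exact ⟨σ₀ ⟨z, hzS⟩ w, (hσ ⟨z, hzS⟩) ▸ hU2 w hw, rfl⟩
  rcases hcrit.deg_bound_card hxQ (Nat.one_lt_pow (by omega) hp.out.one_lt)
    (by rw [hx, ← map_pow, show (⟨z, hzS⟩ : S) ^ p ^ (m + 1) = 1 from Subtype.ext hzP, map_one])
    hfree hirr with h | ⟨b, hb, hPb, -, hcard⟩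
  · rw [hx, hσ] at h
    exact absurd h (not_le.2 ((deg_restrict_le (hWS z hzS)).trans_lt h2))
  · refine ⟨R, b, hRT, hRy, hb, hPb, ?_, hcen⟩
    rw [← hcard]
    exact Nat.card_congr (QuotientGroup.congr _ _ e (by
      ext g
      obtain ⟨a, rfl⟩ := e.surjective g
      rw [Subgroup.mem_map]
      constructor
      · rintro ⟨a', ha', e'⟩
        obtain rfl := e.injective e'
        refine Subgroup.mem_center_iff.2 fun g => ?_
        obtain ⟨g, rfl⟩ := e.surjective g
        rw [← map_mul, ← map_mul, Subgroup.mem_center_iff.1 ha' g]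
      · exact fun ha => ⟨a, Subgroup.mem_center_iff.2 fun g => e.injective (by
          rw [map_mul, map_mul, Subgroup.mem_center_iff.1 ha (e g)]), rfl⟩)).toEquiv

end CfsgLib.HallHigman
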