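import Cfsg.Agent.Lib.HallHigman.SmallMoved
import Mathlib.GroupTheory.Transfer
import Mathlib.GroupTheory.Abelianization.Defs

/-!
# An element of the derived group of a `p`-group moving a plane of a module over `F₂`
-/

set_option autoImplicit false

namespace CfsgLib.HallHigman

open Module Subgroup

universe w

variable {p : ℕ} [hp : Fact p.Prime]

/-- If `a` is derived, fixes every coset of `N`, and all transfer factors off `N` vanish, then `a`
agrees in the image of `N` with a derived element of `N`. -/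
theorem exists_mem_commutator_of_transfer {H : Type w} [Group H] [Finite H] {N : Subgroup H}
    {L : Type*} [Group L] (f : N →* L) {a : H} (haN : a ∈ N) (hac : a ∈ commutator H)
    (hfix : ∀ q : H ⧸ N, a⁻¹ • q = q)
    (hone : ∀ g, g ∉ N → ∀ hm : g⁻¹ * (a * g) ∈ N, f ⟨g⁻¹ * (a * g), hm⟩ = 1) :
    ∃ a' ∈ commutator N, f a' = f ⟨a, haN⟩ := by
  classical
  let φ : N →* Abelianization f.range := Abelianization.of.comp f.rangeRestrict
  have htr : MonoidHom.transfer φ a = 1 :=
    (Abelianization.commutator_subset_ker (MonoidHom.transfer φ) hac :)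
  have hφa : φ ⟨a, haN⟩ = 1 := by
    rw [← htr, MonoidHom.transfer_def φ default a]
    unfold Subgroup.leftTransversals.diff
    dsimp only
    let _ := N.fintypeQuotientOfFiniteIndex
    set T : N.LeftTransversal := default
    set β := T.2.leftQuotientEquiv
    have hrep : ∀ q, ((β q : H) : H ⧸ N) = q := fun q => β.symm_apply_apply q
    rw [Finset.prod_eq_single ((1 : H) : H ⧸ N)]
    · have hn : (β ((1 : H) : H ⧸ N) : H) ∈ N := by
        have := hrep ((1 : H) : H ⧸ N)
        rw [QuotientGroup.eq, mul_one, inv_mem_iff] at this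
        exact this
      rw [show φ ⟨a, haN⟩ = φ (⟨_, hn⟩⁻¹ * ⟨a, haN⟩ * ⟨_, hn⟩) by
        rw [map_mul, map_mul, map_inv, mul_comm (φ ⟨_, hn⟩)⁻¹, inv_mul_cancel_right]]
      congr 1
      refine Subtype.ext ?_
      simp [Subgroup.smul_apply_eq_smul_apply_inv_smul, hfix, β, smul_eq_mul, mul_assoc]
    · intro q _ hq
      have hgN : (β q : H) ∉ N := fun hm => hq (by
        rw [← hrep q, QuotientGroup.eq, mul_one, inv_mem_iff]
        exact hm)
      have hm : (β q : H)⁻¹ * (a * (β q : H)) ∈ N := by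
        have := QuotientGroup.eq.1 ((hrep q).trans
          ((hfix q).symm.trans (congrArg (fun r => a⁻¹ • r) (hrep q).symm)))
        rw [← inv_mem_iff]
        convert this using 1
        simp [mul_assoc]
      rw [← map_one φ]
      show Abelianization.of (f.rangeRestrict _) = Abelianization.of (f.rangeRestrict 1)
      refine congrArg _ (Subtype.ext ?_)
      rw [MonoidHom.coe_rangeRestrict, MonoidHom.coe_rangeRestrict, map_one, ← hone _ hgN hm]
      congr 1
      refine Subtype.ext ?_
      simp [Subgroup.smul_apply_eq_smul_apply_inv_smul, hfix, β, smul_eq_mul]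
    · simp
  have hmem : f.rangeRestrict ⟨a, haN⟩ ∈ commutator f.range := by
    rwa [← Abelianization.ker_of, MonoidHom.mem_ker]
  obtain ⟨a', ha', hea⟩ : f.rangeRestrict ⟨a, haN⟩ ∈ (commutator N).map f.rangeRestrict := by
    rwa [_root_.commutator_def, Subgroup.map_commutator,
      Subgroup.map_top_of_surjective _ f.rangeRestrict_surjective, ← _root_.commutator_def]
  exact ⟨a', ha', congrArg Subtype.val hea⟩

/-- A derived element of a `p`-group, `p` odd, moving at most a plane of an `F₂`-module is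
trivial. -/
theorem eq_one_of_mem_commutator_of_finrank_le_two (hp2 : p ≠ 2) :
    ∀ (d : ℕ) {H : Type w} [Group H] [Finite H] {S : Type w} [AddCommGroup S] [Module (ZMod 2) S]
      [FiniteDimensional (ZMod 2) S] (ρ : Representation (ZMod 2) H S), finrank (ZMod 2) S = d →
      IsPGroup p H → ∀ {a : H}, a ∈ commutator H →
      finrank (ZMod 2) (LinearMap.range (ρ a - 1)) ≤ 2 → ρ a = 1 := by
  classical
  intro d
  induction d using Nat.strong_induction_on with
  | _ d ih =>
  intro H _ _ S _ _ _ ρ hd hH a hac hr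
  subst hd
  by_cases hS : Subsingleton S
  · exact LinearMap.ext fun v => Subsingleton.elim _ _
  rw [not_subsingleton_iff_nontrivial] at hS
  by_cases hirr : ∀ W : Submodule (ZMod 2) S, (∀ h, ∀ w ∈ W, ρ h w ∈ W) → W = ⊥ ∨ W = ⊤
  swap
  · push Not at hirr
    obtain ⟨W, hW, hWb, hWt⟩ := hirr
    have hW' : ∀ s ∈ (⊤ : Subgroup H), ∀ w ∈ W, ρ s w ∈ W := fun s _ => hW s
    have hac' : (⟨a, mem_top a⟩ : (⊤ : Subgroup H)) ∈ commutator (⊤ : Subgroup H) := by
      have h1 : (commutator (⊤ : Subgroup H)).map (⊤ : Subgroup H).subtype = commutator H := by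
        rw [Subgroup.map_subtype_commutator, _root_.commutator_def]
      obtain ⟨b, hb, e⟩ := (h1 ▸ hac : a ∈ _)
      rwa [show (⟨a, mem_top a⟩ : (⊤ : Subgroup H)) = b from Subtype.ext e.symm]
    have h1 : ∀ w ∈ W, ρ a w = w := by
      intro w hw
      have := ih _ (Submodule.finrank_lt hWt) (restrictRep ρ ⊤ W hW') rfl (hH.to_subgroup ⊤) hac' (by
        refine le_trans ?_ hr
        refine le_trans (le_of_eq (Submodule.equivMapOfInjective _ W.subtype_injective _).finrank_eq)
          (Submodule.finrank_mono ?_)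
        rintro _ ⟨_, ⟨v, rfl⟩, rfl⟩
        exact ⟨v, by simp [restrictRep_apply_coe]⟩)
      exact congrArg Subtype.val (LinearMap.congr_fun this ⟨w, hw⟩)
    have h2 : ∀ v, ρ a v - v ∈ W := by
      intro v
      have hlt : finrank (ZMod 2) (S ⧸ W) < finrank (ZMod 2) S := by
        have h1 := W.finrank_quotient_add_finrank
        have : Nontrivial W := Submodule.nontrivial_iff_ne_bot.2 hWb
        have := Module.finrank_pos (R := ZMod 2) (M := W)
        omega
      have := ih _ hlt (quotientRep ρ ⊤ W hW') rfl (hH.to_subgroup ⊤) hac' (by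
        refine le_trans (le_trans (Submodule.finrank_mono ?_) (Submodule.finrank_map_le W.mkQ _)) hr
        rintro _ ⟨v, rfl⟩
        obtain ⟨v, rfl⟩ := W.mkQ_surjective v
        exact ⟨_, ⟨v, rfl⟩, by simp [quotientRep]⟩)
      exact (Submodule.Quotient.eq W).1 (LinearMap.congr_fun this (Submodule.Quotient.mk v))
    obtain ⟨k, hk⟩ := IsPGroup.iff_orderOf.1 hH a
    exact eq_one_of_unipotent (m := p ^ k)
      (by rw [← map_pow, ← hk, pow_orderOf_eq_one, map_one])
      (by rw [Nat.cast_pow, (ZMod.natCast_eq_one_iff_odd).2 (hp.out.odd_of_ne_two hp2), one_pow]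
          exact one_ne_zero) h1 h2
  let π := QuotientGroup.mk' ρ.ker
  let σ : Representation (ZMod 2) (H ⧸ ρ.ker) S := QuotientGroup.lift ρ.ker ρ le_rfl
  have hσ : ∀ h, σ (π h) = ρ h := fun h => QuotientGroup.lift_mk' _ _ h
  have hinj : Function.Injective σ := by
    intro a b hab
    obtain ⟨a, rfl⟩ := QuotientGroup.mk'_surjective ρ.ker a
    obtain ⟨b, rfl⟩ := QuotientGroup.mk'_surjective ρ.ker b
    rw [hσ, hσ] at hab
    exact QuotientGroup.eq.2 (MonoidHom.mem_ker.2 (by
      rw [map_mul, ← hab, ← map_mul, inv_mul_cancel, map_one]))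
  have hH' : IsPGroup p (H ⧸ ρ.ker) := hH.to_quotient _
  have hirr' : ∀ W : Submodule (ZMod 2) S, (∀ h, ∀ w ∈ W, σ h w ∈ W) → W = ⊥ ∨ W = ⊤ :=
    fun W hW => hirr W fun h w hw => hσ h ▸ hW (π h) w hw
  rw [← hσ]
  replace hac : π a ∈ commutator (H ⧸ ρ.ker) := by
    have h1 := mem_map_of_mem π hac
    rw [_root_.commutator_def, Subgroup.map_commutator] at h1
    rw [_root_.commutator_def]
    exact commutator_mono le_top le_top h1
  rw [← hσ a] at hr
  generalize π a = a at hac hr ⊢
  clear hirr
  by_cases hcyc : IsCyclic (H ⧸ ρ.ker)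
  · have hb : commutator (H ⧸ ρ.ker) = ⊥ := by
      rw [commutator_eq_bot_iff_center_eq_top]
      exact eq_top_iff.2 fun g _ => Subgroup.mem_center_iff.2 fun h => by
        open scoped IsMulCommutative in exact mul_comm h g
    rw [hb, mem_bot] at hac
    rw [hac, map_one]
  obtain ⟨E, hEn, hEc, hEexp, hEcard⟩ := Transfer.exists_normal_elementary_sq hp2 hH' hcyc
  have hE1 : E ≠ ⊥ := fun hE1 => by
    rw [hE1, Subgroup.card_bot] at hEcard
    exact (Nat.one_lt_pow two_ne_zero hp.out.one_lt).ne hEcard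
  have hfix : ∀ w : S, (∀ e ∈ E, σ e w = w) → w = 0 := by
    intro w hw
    let W : Submodule (ZMod 2) S :=
      { carrier := {w | ∀ e ∈ E, σ e w = w}
        zero_mem' := fun e _ => map_zero _
        add_mem' := fun {u v} hu hv e he => by rw [map_add, hu e he, hv e he]
        smul_mem' := fun c u hu e he => by rw [map_smul, hu e he] }
    rcases hirr' W (fun h v hv e he => by
      rw [← Module.End.mul_apply, ← map_mul, show e * h = h * (h⁻¹ * e * h) by group, map_mul,
        Module.End.mul_apply, hv _ (by simpa using hEn.conj_mem e he h⁻¹)]) with h | h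
    · exact (Submodule.mem_bot (ZMod 2)).1 (h ▸ (show w ∈ W from hw))
    · exact absurd ((Subgroup.eq_bot_iff_forall _).2 fun e he => hinj (LinearMap.ext fun v => by
        rw [map_one, Module.End.one_apply]
        exact (show v ∈ W from h ▸ Submodule.mem_top) e he)) hE1
  by_contra hane
  -- the union of the fixed spaces spans
  let A : Set (H ⧸ ρ.ker) := {b | b ∈ E ∧ b ≠ 1 ∧ fixedSpace σ b ≠ ⊥}
  obtain ⟨b₁, hb₁⟩ : A.Nonempty := by
    have : Finite S := Module.finite_of_finite (ZMod 2)
    have hEnc : ¬ IsCyclic E := fun h => by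
      obtain ⟨g, hg⟩ := h.exists_generator
      have h1 : orderOf g = p ^ 2 := (orderOf_eq_card_of_forall_mem_zpowers hg).trans hEcard
      have h2 : orderOf g ∣ p := orderOf_dvd_of_pow_eq_one (Subtype.ext (hEexp g g.2))
      rw [h1] at h2
      nlinarith [Nat.le_of_dvd hp.out.pos h2, hp.out.one_lt]
    have hcop : (Nat.card E).Coprime (Nat.card (Multiplicative S)) := by
      rw [hEcard, show Nat.card (Multiplicative S) = Nat.card S from rfl,
        Module.natCard_eq_pow_finrank (K := ZMod 2), Nat.card_zmod]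
      exact (((Nat.coprime_primes hp.out Nat.prime_two).2 hp2).pow_left 2).pow_right _
    have : Nontrivial (Multiplicative S) := inferInstanceAs (Nontrivial S)
    let φ : E →* MulAut (Multiplicative S) :=
      { toFun := fun e =>
          { toFun := fun v => Multiplicative.ofAdd (σ e v.toAdd)
            invFun := fun v => Multiplicative.ofAdd (σ (e : H ⧸ ρ.ker)⁻¹ v.toAdd)
            left_inv := fun v => by simp [← Module.End.mul_apply, ← map_mul]
            right_inv := fun v => by simp [← Module.End.mul_apply, ← map_mul]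
            map_mul' := fun u v => by simp }
        map_one' := by ext v; simp
        map_mul' := fun e f => by ext v; simp }
    open scoped IsMulCommutative in
    obtain ⟨b, hb1, u, hu1, hu⟩ := Coprime.exists_ne_one_fixed_of_not_isCyclic φ hcop hEnc
    refine ⟨b, b.2, fun e => hb1 (Subtype.ext e), (Submodule.ne_bot_iff _).2
      ⟨u.toAdd, (mem_fixedSpace σ).2 (congrArg Multiplicative.toAdd hu), fun e => hu1 ?_⟩⟩
    rw [← ofAdd_toAdd u, e, ofAdd_zero]
  have hconjA : ∀ h, ∀ b ∈ A, h * b * h⁻¹ ∈ A ∧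
      (fixedSpace σ b).map (σ h) ≤ fixedSpace σ (h * b * h⁻¹) := by
    intro h b hb
    have hle : (fixedSpace σ b).map (σ h) ≤ fixedSpace σ (h * b * h⁻¹) := by
      rintro _ ⟨v, hv, rfl⟩
      rw [mem_fixedSpace, ← Module.End.mul_apply, ← map_mul, inv_mul_cancel_right, map_mul,
        Module.End.mul_apply, (mem_fixedSpace σ).1 hv]
    refine ⟨⟨hEn.conj_mem b hb.1 h, fun e => hb.2.1 (conj_eq_one_iff.1 e), fun e => hb.2.2 ?_⟩, hle⟩
    rw [eq_bot_iff]
    intro v hv
    have := hle (Submodule.mem_map_of_mem hv)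
    rw [e, Submodule.mem_bot] at this
    rw [Submodule.mem_bot, ← rep_inv_apply_self σ h v, this, map_zero]
  set U := ⨆ b ∈ A, fixedSpace σ b with hU
  have hUtop : U = ⊤ := by
    refine (hirr' U fun h w hw => ?_).resolve_left fun e => hb₁.2.2 (le_bot_iff.1
      (e ▸ le_iSup₂_of_le (f := fun b (_ : b ∈ A) => fixedSpace σ b) b₁ hb₁ le_rfl))
    refine (?_ : U.map (σ h) ≤ U) (Submodule.mem_map_of_mem hw)
    rw [hU, Submodule.map_iSup]
    refine iSup_le fun b => ?_
    rw [Submodule.map_iSup]
    exact iSup_le fun hb => le_iSup₂_of_le (h * b * h⁻¹) (hconjA h b hb).1 (hconjA h b hb).2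
  -- `a` stabilises each fixed space, and moves one
  have hstab : ∀ b ∈ A, a ∈ normalizer (zpowers b : Set (H ⧸ ρ.ker)) := fun b hb =>
    (Small.restrict σ hp2 hEc hEcard hEexp hfix hb.1 hb.2.1 hb.2.2 hH' (y := a) ⟨a, 0, by simp, by
      have := hp.out.two_le
      simp only [pow_zero, one_mul]
      omega⟩).1
  obtain ⟨b₀, hb₀, hmoved⟩ : ∃ b ∈ A, ∃ w ∈ fixedSpace σ b, σ a w ≠ w := by
    by_contra hc
    push Not at hc
    refine hane (LinearMap.ext fun v => ?_)
    have : v ∈ LinearMap.ker (σ a - 1) := (iSup₂_le fun b hb => fun w hw => by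
      rw [LinearMap.mem_ker, LinearMap.sub_apply, Module.End.one_apply, hc b hb w hw, sub_self] :
      U ≤ _) (show v ∈ U by rw [hUtop]; trivial)
    rwa [LinearMap.mem_ker, LinearMap.sub_apply, sub_eq_zero] at this
  set W := fixedSpace σ b₀ with hW
  set N := normalizer (zpowers b₀ : Set (H ⧸ ρ.ker)) with hN
  have hWinv : ∀ h ∈ N, ∀ w ∈ W, σ h w ∈ W := fun h hh w hw => map_mem_fixedSpace_of_normalizes σ hh hw
  have haN : a ∈ N := hstab b₀ hb₀
  set ν := restrictRep σ N W hWinv with hν
  -- the moved part of one fixed space is a plane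
  have hplane : ∀ b ∈ A, ∀ hb : a ∈ normalizer (zpowers b : Set (H ⧸ ρ.ker)),
      (∃ w ∈ fixedSpace σ b, σ a w ≠ w) → 2 ≤ finrank (ZMod 2) (LinearMap.range
        (restrictRep σ _ (fixedSpace σ b) (fun _ hh _ hw => map_mem_fixedSpace_of_normalizes σ hh hw)
          ⟨a, hb⟩ - 1)) := by
    intro b _ hbn ⟨w, hw, hwne⟩
    set τ := restrictRep σ _ (fixedSpace σ b) (fun _ hh _ hw => map_mem_fixedSpace_of_normalizes σ hh hw)
      ⟨a, hbn⟩
    set R := LinearMap.range (τ - 1)
    by_contra hlt
    have hne : R ≠ ⊥ := fun e => hwne (by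
      have h0 : (τ - 1) ⟨w, hw⟩ = 0 := (Submodule.mem_bot (ZMod 2)).1 (e ▸ LinearMap.mem_range_self _ _)
      rw [LinearMap.sub_apply, Module.End.one_apply, sub_eq_zero] at h0
      exact congrArg Subtype.val h0)
    have : Nontrivial R := Submodule.nontrivial_iff_ne_bot.2 hne
    have hR1 : finrank (ZMod 2) R = 1 := by have := Module.finrank_pos (R := ZMod 2) (M := R); omega
    obtain ⟨v, hv⟩ := exists_ne (0 : R)
    obtain ⟨u, hu⟩ := v.2
    have hv' : τ (v : fixedSpace σ b) ∈ R := by
      refine ⟨τ u, ?_⟩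
      rw [← hu, LinearMap.sub_apply, LinearMap.sub_apply, Module.End.one_apply, Module.End.one_apply, map_sub]
    obtain ⟨c, hc⟩ := (finrank_eq_one_iff_of_nonzero' v hv).1 hR1 ⟨_, hv'⟩
    have hc' : c • (v : fixedSpace σ b) = τ (v : fixedSpace σ b) := congrArg Subtype.val hc
    have hfixv : τ (v : fixedSpace σ b) = (v : fixedSpace σ b) := by
      rcases (by decide : ∀ d : ZMod 2, d = 0 ∨ d = 1) c with rfl | rfl
      · rw [zero_smul] at hc'
        refine absurd (Subtype.ext (Subtype.ext ?_)) hv
        have h0 : σ a ((v : fixedSpace σ b) : S) = 0 := (congrArg Subtype.val hc').symm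
        show ((v : fixedSpace σ b) : S) = 0
        rw [← rep_inv_apply_self σ a ((v : fixedSpace σ b) : S), h0, map_zero]
      · rw [← hc', one_smul]
    have hk : ∀ k : ℕ, (τ ^ k) u = u + (k : ZMod 2) • (v : fixedSpace σ b) := by
      intro k
      induction k with
      | zero => simp
      | succ k ih =>
        rw [pow_succ', Module.End.mul_apply, ih, map_add, map_smul, hfixv, Nat.cast_succ, add_smul, one_smul,
          ← hu, LinearMap.sub_apply, Module.End.one_apply]
        abel
    obtain ⟨k, hk'⟩ := IsPGroup.iff_orderOf.1 hH' a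
    have h1 := hk (p ^ k)
    rw [show τ ^ p ^ k = 1 by
      rw [← map_pow, show (⟨a, hbn⟩ : normalizer (zpowers b : Set (H ⧸ ρ.ker))) ^ p ^ k = 1 from
        Subtype.ext (by rw [SubgroupClass.coe_pow, ← hk', pow_orderOf_eq_one]; rfl), map_one],
      Module.End.one_apply, Nat.cast_pow, (ZMod.natCast_eq_one_iff_odd).2 (hp.out.odd_of_ne_two hp2),
      one_pow, one_smul, left_eq_add] at h1
    exact hv (Subtype.ext h1)
  -- the other fixed spaces are not moved
  have hother : ∀ h, h ∉ N → ∀ w ∈ fixedSpace σ (h * b₀ * h⁻¹), σ a w = w := by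
    intro h hh w hw
    by_contra hwne
    obtain ⟨hb, hbW⟩ := hconjA h b₀ hb₀
    set b := h * b₀ * h⁻¹ with hbdef
    set τ₀ := ν ⟨a, haN⟩ - 1
    set τ₁ := restrictRep σ _ (fixedSpace σ b) (fun _ hh _ hw => map_mem_fixedSpace_of_normalizes σ hh hw)
      ⟨a, hstab b hb⟩ - 1
    let Φ : LinearMap.range τ₀ × LinearMap.range τ₁ →ₗ[ZMod 2] S :=
      (W.subtype.comp (LinearMap.range τ₀).subtype).coprod ((fixedSpace σ b).subtype.comp (LinearMap.range τ₁).subtype)
    have hdis : W ⊓ fixedSpace σ b = ⊥ := by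
      rw [eq_bot_iff]
      rintro v ⟨hv0, hv1⟩
      rw [Submodule.mem_bot]
      refine hfix v fun e he => ?_
      have hsup : zpowers b₀ ⊔ zpowers b = E := by
        refine eq_of_le_of_card_ge (sup_le (Subgroup.zpowers_le.2 hb₀.1) (Subgroup.zpowers_le.2 hb.1)) ?_
        have hcard : ∀ c ∈ A, Nat.card (zpowers c) = p := fun c hc => by
          rw [Nat.card_zpowers]; exact orderOf_eq_prime (hEexp c hc.1) hc.2.1
        obtain ⟨k, hk, hk'⟩ := (Nat.dvd_prime_pow hp.out).1 (hEcard ▸ Subgroup.card_dvd_of_le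
          (sup_le (Subgroup.zpowers_le.2 hb₀.1) (Subgroup.zpowers_le.2 hb.1)))
        rw [hk', hEcard]
        refine Nat.pow_le_pow_right hp.out.pos ?_
        by_contra hk2
        have hk1 : p ^ k ≤ p ^ 1 := Nat.pow_le_pow_right hp.out.pos (by omega)
        rw [pow_one] at hk1
        refine hh (mem_normalizer_iff_map_conj_eq.2 ?_)
        rw [MonoidHom.map_zpowers]
        show zpowers b = zpowers b₀
        refine (eq_of_le_of_card_ge le_sup_right ?_).trans (eq_of_le_of_card_ge le_sup_left ?_).symm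
        · rw [hk', hcard b hb]; exact hk1
        · rw [hk', hcard b₀ hb₀]; exact hk1
      let M : Subgroup (H ⧸ ρ.ker) :=
        { carrier := {g | σ g v = v}
          one_mem' := by simp
          mul_mem' := fun {x y} hx hy => by
            show σ (x * y) v = v
            rw [map_mul, Module.End.mul_apply, show σ y v = v from hy, show σ x v = v from hx]
          inv_mem' := fun {x} hx => by
            show σ x⁻¹ v = v
            conv_lhs => rw [← show σ x v = v from hx]
            exact rep_inv_apply_self σ x v }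
      exact (hsup ▸ sup_le (Subgroup.zpowers_le.2 (show b₀ ∈ M from (mem_fixedSpace σ).1 hv0))
        (Subgroup.zpowers_le.2 (show b ∈ M from (mem_fixedSpace σ).1 hv1)) : E ≤ M) he
    have hΦ : Function.Injective Φ := by
      refine (injective_iff_map_eq_zero _).2 fun ⟨x, y⟩ hxy => ?_
      simp only [Φ, LinearMap.coprod_apply, LinearMap.comp_apply, Submodule.coe_subtype] at hxy
      have hx : ((x : W) : S) ∈ W ⊓ fixedSpace σ b := ⟨(x : W).2, by
        rw [add_eq_zero_iff_eq_neg] at hxy
        rw [hxy]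
        exact Submodule.neg_mem _ (y : fixedSpace σ b).2⟩
      rw [hdis, Submodule.mem_bot] at hx
      rw [hx, zero_add] at hxy
      exact Prod.ext (Subtype.ext (Subtype.ext hx)) (Subtype.ext (Subtype.ext hxy))
    have hle : LinearMap.range Φ ≤ LinearMap.range (σ a - 1) := by
      rintro _ ⟨⟨⟨_, u, rfl⟩, ⟨_, v, rfl⟩⟩, rfl⟩
      exact ⟨(u : S) + (v : S), by
        simp [Φ, τ₀, τ₁, ν, restrictRep_apply_coe, map_add]⟩
    have h1 := (LinearMap.finrank_range_of_inj hΦ).symm.trans_le (Submodule.finrank_mono hle)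
    rw [Module.finrank_prod] at h1
    have h2 : 2 ≤ finrank (ZMod 2) (LinearMap.range τ₀) := hplane b₀ hb₀ haN hmoved
    have h3 : 2 ≤ finrank (ZMod 2) (LinearMap.range τ₁) := hplane b hb (hstab b hb) ⟨w, hw, hwne⟩
    omega
  -- transfer to the stabiliser: `a` is in the derived group there
  have hfixq : ∀ q : (H ⧸ ρ.ker) ⧸ N, a⁻¹ • q = q := by
    intro q
    induction q using QuotientGroup.induction_on with
    | _ h =>
      show ((a⁻¹ * h : H ⧸ ρ.ker) : (H ⧸ ρ.ker) ⧸ N) = _
      rw [QuotientGroup.eq]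
      have h1 := hstab _ (hconjA h b₀ hb₀).1
      rw [show (a⁻¹ * h)⁻¹ * h = h⁻¹ * a * h by group, hN, mem_normalizer_iff_map_conj_eq,
        MonoidHom.map_zpowers]
      rw [mem_normalizer_iff_map_conj_eq, MonoidHom.map_zpowers] at h1
      have h2 := congrArg (Subgroup.map (MulAut.conj h⁻¹).toMonoidHom) h1
      rw [MonoidHom.map_zpowers, MonoidHom.map_zpowers] at h2
      convert h2 using 2 <;> simp <;> group
  obtain ⟨a', ha', hea⟩ := exists_mem_commutator_of_transfer ν.toHomUnits haN hac hfixq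
    fun g hg hm => Units.ext (LinearMap.ext fun w => Subtype.ext (by
      show σ (g⁻¹ * (a * g)) (w : S) = (w : S)
      rw [map_mul, map_mul, Module.End.mul_apply, Module.End.mul_apply,
        hother _ hg _ ((hconjA _ b₀ hb₀).2 (Submodule.mem_map_of_mem w.2)), rep_inv_apply_self]))
  have hνa : ν a' = ν ⟨a, haN⟩ := congrArg (fun u : (Module.End (ZMod 2) W)ˣ => (u : Module.End (ZMod 2) W)) hea
  have hWt : W ≠ ⊤ := fun e => hb₀.2.1 (hinj (LinearMap.ext fun v => by
    rw [map_one, Module.End.one_apply]; exact (mem_fixedSpace σ).1 (show v ∈ W by rw [e]; trivial)))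
  have hfin := ih _ (Submodule.finrank_lt hWt) ν rfl (hH'.to_subgroup N) (a := a') ha' (by
    rw [hνa]
    refine le_trans (le_trans (le_of_eq (Submodule.equivMapOfInjective _ W.subtype_injective _).finrank_eq)
      (Submodule.finrank_mono ?_)) hr
    rintro _ ⟨_, ⟨v, rfl⟩, rfl⟩
    exact ⟨v, by simp [ν, restrictRep_apply_coe]⟩)
  obtain ⟨w, hw, hwne⟩ := hmoved
  exact hwne (congrArg Subtype.val (LinearMap.congr_fun (hνa.symm.trans hfin) ⟨w, hw⟩))

end CfsgLib.HallHigman
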