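import Cfsg.Agent.Lib.HallHigman.DerivedChain
import Cfsg.Agent.Lib.HallHigman.SmallDerived

/-!
# Quadratic elements deep in the derived series centralise normalised `2`-groups
-/

set_option autoImplicit false

namespace CfsgLib.HallHigman

open Module Subgroup
open scoped commutatorElement

universe u v w

variable {p : ℕ} [hp : Fact p.Prime] {K : Type u} [Field K] [IsAlgClosed K] [CharP K p]
  {G : Type w} [Group G] [Finite G] {V : Type v} [AddCommGroup V] [Module K V]
  [FiniteDimensional K V] {ρ : Representation K G V} {P T : Subgroup G} {k : ℕ} {a : G}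

omit [IsAlgClosed K] [Finite G] [FiniteDimensional K V] in
theorem Annihilates.pow_eq_one (h : Annihilates ρ P k a) : ρ (a ^ p) = 1 := by
  have h1 := congrArg (Polynomial.aeval (ρ a))
    (sub_pow_char_pow (p := p) (n := 1) (Polynomial.X : Polynomial K) 1)
  simp only [map_pow, map_sub, Polynomial.aeval_X, map_one, pow_one, one_pow] at h1
  rw [pow_eq_zero_of_le hp.out.two_le h.2.1] at h1
  rw [map_pow]
  exact sub_eq_zero.1 h1.symm

omit [Finite G] [IsAlgClosed K] [CharP K p] hp [FiniteDimensional K V] in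
theorem Annihilates.deg_le_two (h : Annihilates ρ P k a) : deg (ρ a) ≤ 2 := by
  have := deg_le_of_aeval_eq_zero (x := ρ a) (pow_ne_zero 2 (Polynomial.X_sub_C_ne_zero (1 : K)))
    (by simpa using h.2.1)
  rwa [Polynomial.natDegree_pow, Polynomial.natDegree_X_sub_C, mul_one] at this

omit [IsAlgClosed K] [Finite G] [FiniteDimensional K V] in
theorem Annihilates.low (hp2 : p ≠ 2) (h : Annihilates ρ P k a) : Low p ρ P a := by
  refine ⟨a, derivedIn_le P k h.1, 0, by simp, by rw [zero_add, pow_one]; exact h.pow_eq_one, ?_⟩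
  rw [zero_add, pow_one]
  have := h.deg_le_two
  have := hp.out.two_le
  omega

omit [CharP K p] in
/-- The scalar-centre case. -/
theorem commute_of_annihilates_scalar [Nontrivial V] (hp3 : p = 3) (hinj : Function.Injective ρ)
    (hT : IsPGroup 2 T) (hP : IsPGroup p P) (hPT : P ≤ normalizer (T : Set G)) (hk : 1 ≤ k)
    (hak : a ∈ derivedIn P k) (hlow : Low p ρ P a) (ha2 : deg (ρ a) ≤ 2) (hap : ρ (a ^ p) = 1)
    (hfix : ∀ b ∈ T, (∀ t ∈ T, t * b = b * t) → a * b = b * a)
    (hcl : ∀ x ∈ T, ∀ b ∈ T, ∀ t ∈ T, t * ⁅x, b⁆ = ⁅x, b⁆ * t)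
    (hsc : ∀ z ∈ T, (∀ t ∈ T, t * z = z * t) → ∃ c : K, ρ z = c • (1 : Module.End K V))
    (hmin : ∀ R ≤ T, P ≤ normalizer (R : Set G) → R ≠ T → ∀ g ∈ R, a * g = g * a)
    (hnab : ∃ x ∈ T, ∃ b ∈ T, x * b ≠ b * x) : ∀ g ∈ T, a * g = g * a := by
  classical
  have hp2 : p ≠ 2 := by omega
  have := Fact.mk Nat.prime_two
  have haP := hlow.mem
  set N₀ : Subgroup T := center T ⊔ frattini T with hN₀
  set N : Subgroup G := N₀.map T.subtype with hN
  have hN₀ne : N₀ ≠ ⊤ := fun e => by
    obtain ⟨x, hx, b, hb, hxb⟩ := hnab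
    have := frattini_nongenerating e
    exact hxb (congrArg Subtype.val (Subgroup.mem_center_iff.1
      (this ▸ Subgroup.mem_top _ : (⟨b, hb⟩ : T) ∈ center T) ⟨x, hx⟩))
  have hNT : N ≤ T := map_subtype_le _
  have hNmem : ∀ x : T, ((x : G) ∈ N ↔ x ∈ N₀) := fun x =>
    ⟨fun ⟨b, hb, e⟩ => Subtype.ext e ▸ hb, fun h => ⟨x, h, rfl⟩⟩
  have hNne : N ≠ T := fun e => hN₀ne (eq_top_iff.2 fun x _ => (hNmem x).1 (e.symm ▸ x.2))
  set S : Subgroup G := T ⊔ P with hS
  have hSN : S ≤ normalizer (N : Set G) := by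
    refine (sup_le le_normalizer hPT).trans fun s hs => mem_normalizer_of_conj_mem ?_
    rintro _ ⟨x, hx, rfl⟩
    have hch : N₀.Characteristic := inferInstance
    exact ⟨(T.normalizerMonoidHom ⟨s, hs⟩) x,
      (Subgroup.characteristic_iff_map_le.1 hch (T.normalizerMonoidHom ⟨s, hs⟩)
        (Subgroup.mem_map_of_mem _ hx) :), rfl⟩
  let N' : Subgroup S := N.subgroupOf S
  have hN'n : N'.Normal := normal_subgroupOf_of_le_normalizer hSN
  let π := QuotientGroup.mk' N'
  let TS : Subgroup S := T.subgroupOf S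
  have hTSn : TS.Normal := normal_subgroupOf_of_le_normalizer (sup_le le_normalizer hPT)
  set Tb : Subgroup (S ⧸ N') := TS.map π
  have hTS : T ≤ S := le_sup_left
  have hPS : P ≤ S := le_sup_right
  have hEl : PLength.ElemNormal 2 Tb :=
    { normal := hTSn.map π (QuotientGroup.mk'_surjective N')
      comm := by
        rintro _ ⟨x, hx, rfl⟩ _ ⟨b, hb, rfl⟩
        rw [← map_mul, ← map_mul, QuotientGroup.mk'_apply, QuotientGroup.mk'_apply, QuotientGroup.eq]
        show ((x * b)⁻¹ * (b * x) : S).1 ∈ N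
        have := (hNmem _).2 ((le_sup_right : frattini T ≤ N₀)
          (StructC.comm_mem_frattini hT (⟨(b : S).1, hb⟩ : T) (⟨(x : S).1, hx⟩ : T)))
        push_cast at this ⊢
        simpa [mul_assoc] using this
      exponent := by
        rintro _ ⟨x, hx, rfl⟩
        rw [← map_pow, QuotientGroup.mk'_apply, QuotientGroup.eq_one_iff]
        exact (hNmem _).2 ((le_sup_right : frattini T ≤ N₀)
          (StructC.pow_mem_frattini hT (⟨(x : S).1, hx⟩ : T))) }
  set τ : Representation (ZMod 2) P hEl.Space := hEl.conjRep.comp (π.comp (inclusion hPS)) with hτ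
  intro g hg
  by_contra hne
  have hz1 : a ^ p ^ (0 : ℕ) = a := by simp
  obtain ⟨R, b, hRT, hRy, hb, hPb, hcard, hRc⟩ := exists_critical_bound hp2 hinj hT hPT hcl hsc haP
    (m := 0) (by rw [zero_add, pow_one]; exact hap) (by rw [zero_add, pow_one]; omega)
    (fun x hx hxt => by rw [hz1]; exact hfix x hx hxt) ⟨g, hg, by rwa [hz1]⟩
  rw [hz1] at hRy
  have hb1 : b = 1 := by
    rw [zero_add, pow_one, hp3] at hPb
    have h2 : 2 ^ b = 2 ^ 1 := by omega
    exact Nat.pow_right_injective le_rfl h2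
  have hmem : ∀ x : T, a * (x : G) * a⁻¹ * (x : G)⁻¹ ∈ T := fun x =>
    mul_mem (conj_mem_of_mem_normalizer (hPT haP) x.2) (inv_mem x.2)
  have hTb : ∀ t : T, π ⟨t, hTS t.2⟩ ∈ Tb := fun t => Subgroup.mem_map_of_mem π t.2
  have hval : ∀ x : T, (τ ⟨a, haP⟩ - 1) (hEl.vec ⟨π ⟨x, hTS x.2⟩, hTb x⟩)
      = hEl.vec ⟨π ⟨_, hTS (hmem x)⟩, hTb ⟨_, hmem x⟩⟩ := by
    intro x
    rw [hτ, MonoidHom.comp_apply, hEl.conjRep_sub_one_vec]
    rfl
  let f : R → hEl.Space := fun u => hEl.vec ⟨π ⟨u, hTS (hRT u.2)⟩, ⟨_, hRT u.2, rfl⟩⟩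
  let F : R ⧸ center R → hEl.Space := fun q => f q.out
  have hF : ∀ u : R, F (u : R ⧸ center R) = f u := by
    intro u
    obtain ⟨⟨e, he⟩, hout⟩ := QuotientGroup.mk_out_eq_mul (center R) u
    refine congrArg hEl.vec (Subtype.ext ?_)
    show π _ = π _
    rw [QuotientGroup.mk'_apply, QuotientGroup.mk'_apply, QuotientGroup.eq]
    show (((u : R ⧸ center R).out : R) : G)⁻¹ * (u : G) ∈ N
    have hmem : (e : G) ∈ N := (hNmem ⟨e, hRT e.2⟩).2
      ((le_sup_left : center T ≤ N₀) (Subgroup.mem_center_iff.2 fun g => Subtype.ext (hRc e he g g.2)))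
    rw [hout]
    simpa using inv_mem hmem
  have hsub : (LinearMap.range (τ ⟨a, haP⟩ - 1) : Set hEl.Space) ⊆ Set.range F := by
    rintro _ ⟨v, rfl⟩
    obtain ⟨⟨_, x, hx, rfl⟩, rfl⟩ := hEl.vec.surjective v
    rw [show hEl.vec ⟨π x, x, hx, rfl⟩ = hEl.vec ⟨π ⟨(⟨x.1, hx⟩ : T), hTS hx⟩, hTb ⟨x.1, hx⟩⟩ from rfl, hval]
    exact ⟨_, hF ⟨_, hRy x.1 hx⟩⟩
  have : Finite hEl.Space := inferInstance
  have h3 := (Nat.card_mono (Set.finite_range F) hsub).trans (Finite.card_range_le F)
  rw [hcard, ← pow_add, SetLike.coe_sort_coe, Module.natCard_eq_pow_finrank (K := ZMod 2),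
    Nat.card_zmod, hb1] at h3
  have hr : finrank (ZMod 2) (LinearMap.range (τ ⟨a, haP⟩ - 1)) ≤ 2 :=
    (Nat.pow_le_pow_iff_right (le_refl 2)).1 h3
  have hac : (⟨a, haP⟩ : P) ∈ commutator P := by
    have h1 : a ∈ derivedIn P 1 := by
      have h2 : ∀ l, derivedIn P (1 + l) ≤ derivedIn P 1 := fun l => by
        rw [← derivedIn_add]; exact derivedIn_le _ _
      have := h2 (k - 1)
      rw [Nat.add_sub_cancel' hk] at this
      exact this hak
    have h3 : (commutator P).map P.subtype = ⁅P, P⁆ := Subgroup.map_subtype_commutator P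
    obtain ⟨c, hc, e⟩ := (h3.symm ▸ h1 : a ∈ (commutator P).map P.subtype)
    rwa [show (⟨a, haP⟩ : P) = c from Subtype.ext e.symm]
  have hτa : τ ⟨a, haP⟩ = 1 := eq_one_of_mem_commutator_of_finrank_le_two hp2 _ τ rfl hP hac hr
  have haN : ⁅T, zpowers a⁆ ≤ N := by
    refine commutator_le.2 fun t ht c hc => ?_
    obtain ⟨l, rfl⟩ := mem_powers_iff_mem_zpowers.2 hc
    have hcl' : τ (⟨a, haP⟩ ^ l) = 1 := by rw [map_pow, hτa, one_pow]
    have h1 := (hEl.conjRep_eq_one.1 hcl') (π ⟨t, hTS ht⟩) ⟨_, ht, rfl⟩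
    have h2 : π ((inclusion hPS (⟨a, haP⟩ ^ l)) * ⟨t, hTS ht⟩) = π (⟨t, hTS ht⟩ * inclusion hPS (⟨a, haP⟩ ^ l)) := by
      rw [map_mul, map_mul]
      exact h1
    rw [QuotientGroup.mk'_apply, QuotientGroup.mk'_apply, QuotientGroup.eq] at h2
    have h3 : (a ^ l * t)⁻¹ * (t * a ^ l) ∈ N := by simpa [N', mem_subgroupOf] using h2
    have h4 := conj_mem_of_mem_normalizer (hSN (mul_mem (hPS (pow_mem haP l)) (hTS ht))) h3
    rwa [show a ^ l * t * ((a ^ l * t)⁻¹ * (t * a ^ l)) * (a ^ l * t)⁻¹ = ⁅t, a ^ l⁆ by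
      rw [commutatorElement_def]; group] at h4
  have hA : zpowers a ≤ normalizer (T : Set G) := (Subgroup.zpowers_le.2 haP).trans hPT
  have hcop : (Nat.card (zpowers a)).Coprime (Nat.card T) := by
    obtain ⟨j, hj⟩ := IsPGroup.iff_card.1 hT
    obtain ⟨i, hi⟩ := IsPGroup.iff_card.1 (hP.to_le (Subgroup.zpowers_le.2 haP))
    rw [hj, hi]
    exact ((((Nat.coprime_primes hp.out Nat.prime_two).2 hp2).pow_left i).pow_right j)
  have h0 : ⁅⁅T, zpowers a⁆, zpowers a⁆ = ⊥ := commutator_eq_bot_iff_le_centralizer.2 fun r hr =>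
    mem_centralizer_iff.2 fun c hc => by
      obtain ⟨l, rfl⟩ := Subgroup.mem_zpowers_iff.1 hc
      exact (Commute.zpow_left (hmin N hNT (hPS.trans hSN) hNne r (haN hr)) l).eq
  have hbot := Coprime.commutator_eq_bot_of_commutator_commutator hA hcop
    (Or.inl (by open scoped IsMulCommutative in exact inferInstance)) h0
  exact hne (commutatorElement_eq_one_iff_mul_comm.1
    (mem_bot.1 (hbot ▸ commutator_mem_commutator hg (mem_zpowers a)))).symm

omit [IsAlgClosed K] [Finite G] [FiniteDimensional K V] [CharP K p] hp in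
theorem Annihilates.restrict {S : Subgroup G} (hPS : P ≤ S) {W : Submodule K V}
    (hW : ∀ s ∈ S, ∀ w ∈ W, ρ s w ∈ W) (h : Annihilates ρ P k a) (haS : a ∈ S) :
    Annihilates (restrictRep ρ S W hW) (P.subgroupOf S) k ⟨a, haS⟩ := by
  refine ⟨mem_derivedIn_subgroupOf hPS h.1, LinearMap.ext fun w => Subtype.ext ?_, fun v hv => Subtype.ext ?_⟩
  · have := LinearMap.congr_fun h.2.1 (w : V)
    simpa [pow_two, restrictRep_apply_coe] using this
  · have := h.2.2 _ (chain_map_le S.subtype _ ρ W.subtype (fun s x => rfl) (map_subgroupOf_eq_of_le hPS) k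
      (Submodule.mem_map_of_mem hv))
    simpa [restrictRep_apply_coe] using this

omit [IsAlgClosed K] [Finite G] [FiniteDimensional K V] [CharP K p] hp in
theorem Annihilates.quotient {S : Subgroup G} (hPS : P ≤ S) {W : Submodule K V}
    (hW : ∀ s ∈ S, ∀ w ∈ W, ρ s w ∈ W) (h : Annihilates ρ P k a) (haS : a ∈ S) :
    Annihilates (quotientRep ρ S W hW) (P.subgroupOf S) k ⟨a, haS⟩ := by
  refine ⟨mem_derivedIn_subgroupOf hPS h.1, LinearMap.ext fun v => ?_, fun v hv => ?_⟩
  · obtain ⟨v, rfl⟩ := W.mkQ_surjective v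
    have := congrArg W.mkQ (LinearMap.congr_fun h.2.1 v)
    simpa [pow_two, quotientRep] using this
  · obtain ⟨r, hr, rfl⟩ := chain_le_map S.subtype (quotientRep ρ S W hW) ρ W.mkQ (fun s x => rfl)
      W.mkQ_surjective (map_subgroupOf_eq_of_le hPS) k hv
    have := congrArg W.mkQ (h.2.2 r hr)
    simpa [quotientRep] using this

/-- A quadratic element deep in the derived series, killing the chain, centralises every normalised
`2`-subgroup. -/
theorem commute_of_annihilates (hp2 : p ≠ 2) :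
    ∀ (d : ℕ) {G : Type w} [Group G] [Finite G] {V : Type v} [AddCommGroup V] [Module K V]
      [FiniteDimensional K V] (ρ : Representation K G V), finrank K V = d →
      ∀ {T P : Subgroup G}, IsPGroup 2 T → IsPGroup p P → P ≤ normalizer (T : Set G) →
      ∀ {k : ℕ} {a : G}, 1 ≤ k → Annihilates ρ P k a → ∀ g ∈ T, ρ (a * g) = ρ (g * a) := by
  classical
  intro d
  induction d using Nat.strong_induction_on with
  | _ d ih =>
  intro G _ _ V _ _ _ ρ hd T P hT hP hPT k a hk ha
  subst hd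
  rcases subsingleton_or_nontrivial V with hV | hV
  · exact fun g _ => LinearMap.ext fun v => Subsingleton.elim _ _
  suffices main : ∀ {G : Type w} [Group G] [Finite G] (ρ : Representation K G V),
      Function.Injective ρ → ∀ {T P : Subgroup G}, IsPGroup 2 T → IsPGroup p P →
      P ≤ normalizer (T : Set G) → ∀ {a : G}, Annihilates ρ P k a → ∀ g ∈ T, a * g = g * a by
    let π := QuotientGroup.mk' ρ.ker
    let σ : Representation K (G ⧸ ρ.ker) V := QuotientGroup.lift ρ.ker ρ le_rfl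
    have hσ : ∀ h, σ (π h) = ρ h := fun h => QuotientGroup.lift_mk' _ _ h
    have hinj : Function.Injective σ := by
      intro a b hab
      obtain ⟨a, rfl⟩ := QuotientGroup.mk'_surjective ρ.ker a
      obtain ⟨b, rfl⟩ := QuotientGroup.mk'_surjective ρ.ker b
      rw [hσ, hσ] at hab
      exact QuotientGroup.eq.2 (MonoidHom.mem_ker.2 (by
        rw [map_mul, ← hab, ← map_mul, inv_mul_cancel, map_one]))
    have hchain : ∀ j, chain σ (P.map π) j ≤ chain ρ P j := by
      intro j
      induction j with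
      | zero => exact le_top
      | succ j ihj =>
        refine iSup₂_le fun g hg => ?_
        rw [← derivedIn_map] at hg
        obtain ⟨g, hg, rfl⟩ := hg
        rintro _ ⟨x, hx, rfl⟩
        rw [hσ]
        exact mem_chain_succ ρ P hg (ihj hx)
    have ha' : Annihilates σ (P.map π) k (π a) :=
      ⟨derivedIn_map π P k ▸ mem_map_of_mem π ha.1, by rw [hσ]; exact ha.2.1,
        fun v hv => by rw [hσ]; exact ha.2.2 v (hchain k hv)⟩
    have hPT' : P.map π ≤ normalizer ((T.map π : Subgroup _) : Set (G ⧸ ρ.ker)) := by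
      rintro _ ⟨x, hx, rfl⟩
      refine mem_normalizer_of_conj_mem ?_
      rintro _ ⟨b, hb, rfl⟩
      exact ⟨_, conj_mem_of_mem_normalizer (hPT hx) hb, by simp⟩
    intro g hg
    have h := main σ hinj (hT.map π) (hP.map π) hPT' ha' (π g) (mem_map_of_mem π hg)
    rw [← map_mul, ← map_mul] at h
    rw [← hσ, ← hσ, h]
  clear ha hPT hP hT T P a ρ
  intro G _ _ ρ hinj T P hT hP hPT a ha g₀ hg₀
  by_contra hne₀
  obtain ⟨T₀, ⟨hT₀T, hPT₀, hmov⟩, hTmin⟩ := wellFounded_lt.has_min
    {R : Subgroup G | R ≤ T ∧ P ≤ normalizer (R : Set G) ∧ ∃ g ∈ R, a * g ≠ g * a}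
    ⟨T, le_rfl, hPT, g₀, hg₀, hne₀⟩
  have hT₀ : IsPGroup 2 T₀ := hT.to_le hT₀T
  have hmin : ∀ R ≤ T₀, P ≤ normalizer (R : Set G) → R ≠ T₀ → ∀ g ∈ R, a * g = g * a := by
    intro R hR hRP hne g hg
    by_contra hc
    exact hTmin R ⟨hR.trans hT₀T, hRP, g, hg, hc⟩ (lt_of_le_of_ne hR hne)
  clear hTmin hT₀T hPT hT g₀ hg₀ hne₀
  have := Fact.mk Nat.prime_two
  have haP : a ∈ P := derivedIn_le P k ha.1
  have hlow := ha.low hp2
  -- the prime is three
  have hp3 : p = 3 := by
    obtain ⟨g, hg, hne⟩ := hmov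
    rcases boundHolds hp.out Nat.prime_two hp2 (two_ne_zero_of_charP hp2) _ ρ rfl T₀ a 1 hT₀ (hPT₀ haP)
      (by rw [pow_one]; exact ha.pow_eq_one) le_rfl ⟨g, hg, fun e => hne (hinj (by simpa using e))⟩
      with h | ⟨a', b, ha1, ha'1, hb, hab, hle, -⟩
    · have := ha.deg_le_two
      have := hp.out.two_le
      rw [pow_one] at h
      omega
    · obtain rfl : a' = 1 := by omega
      have := ha.deg_le_two
      rw [Nat.sub_self, pow_zero, one_mul] at hle
      have : 2 ≤ 2 ^ b := Nat.le_self_pow (by omega) 2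
      rw [pow_one] at hab
      omega
  have hfix : ∀ b ∈ T₀, (∀ t ∈ T₀, t * b = b * t) → a * b = b * a := by
    intro b hb hbt
    set Z := T₀ ⊓ centralizer (T₀ : Set G)
    refine hlow.commute_of_abelian hp2 hinj (A := Z) (hT₀.to_le inf_le_left)
      (fun x hx b hb => (mem_centralizer_iff.1 hb.2 x hx.1))
      (fun s hs => mem_normalizer_of_conj_mem fun b hb => ⟨conj_mem_of_mem_normalizer (hPT₀ hs) hb.1, ?_⟩)
      ⟨hb, mem_centralizer_iff.2 hbt⟩
    refine mem_centralizer_iff.2 fun t ht => ?_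
    have := mem_centralizer_iff.1 hb.2 _ (inv_conj_mem_of_mem_normalizer (hPT₀ hs) ht)
    calc t * (s * b * s⁻¹) = s * ((s⁻¹ * t * s) * b) * s⁻¹ := by group
      _ = s * (b * (s⁻¹ * t * s)) * s⁻¹ := by rw [this]
      _ = _ := by group
  have hnab : ∃ x ∈ T₀, ∃ b ∈ T₀, x * b ≠ b * x := by
    by_contra hab
    push Not at hab
    obtain ⟨t, ht, hne⟩ := hmov
    exact hne (hfix t ht fun s hs => hab s hs t ht)
  -- the derived subgroup is central
  have hcl : ∀ x ∈ T₀, ∀ b ∈ T₀, ∀ t ∈ T₀, t * ⁅x, b⁆ = ⁅x, b⁆ * t := by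
    set D := ⁅T₀, T₀⁆ with hD
    have hDT : D ≤ T₀ := commutator_le.2 fun x hx b hb => by
      rw [commutatorElement_def]; exact mul_mem (mul_mem (mul_mem hx hb) (inv_mem hx)) (inv_mem hb)
    have hPD : P ≤ normalizer (D : Set G) := hPT₀.trans (normalizer_le_normalizer_commutator T₀)
    have hDne : D ≠ T₀ := by
      intro e
      have : Nontrivial T₀ := by
        obtain ⟨x, hx, b, hb, hxb⟩ := hnab
        exact ⟨⟨x, hx⟩, ⟨b, hb⟩, fun e => hxb (by rw [show x = b from congrArg Subtype.val e])⟩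
      have : Group.IsSolvable T₀ := by have := hT₀.isNilpotent; infer_instance
      refine (Group.IsSolvable.commutator_lt_top_of_nontrivial T₀).ne ?_
      refine Subgroup.map_injective T₀.subtype_injective ?_
      rw [Subgroup.map_subtype_commutator, ← hD, e, ← MonoidHom.range_eq_map, Subgroup.range_subtype]
    set C := T₀ ⊓ centralizer (D : Set G) with hC
    have hPC : P ≤ normalizer (C : Set G) := fun s hs => mem_normalizer_of_conj_mem fun b hb =>
      ⟨conj_mem_of_mem_normalizer (hPT₀ hs) hb.1, mem_centralizer_iff.2 fun t ht => by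
        have := mem_centralizer_iff.1 hb.2 _ (inv_conj_mem_of_mem_normalizer (hPD hs) ht)
        calc t * (s * b * s⁻¹) = s * ((s⁻¹ * t * s) * b) * s⁻¹ := by group
          _ = s * (b * (s⁻¹ * t * s)) * s⁻¹ := by rw [this]
          _ = _ := by group⟩
    have hDc : ⁅D, zpowers a⁆ = ⊥ := commutator_eq_bot_iff_le_centralizer.2 fun r hr =>
      mem_centralizer_iff.2 fun c hc => by
        obtain ⟨l, rfl⟩ := Subgroup.mem_zpowers_iff.1 hc
        exact (Commute.zpow_left (hmin D hDT hPD hDne r hr) l).eq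
    have hle : ⁅T₀, zpowers a⁆ ≤ C := by
      refine le_inf (le_normalizer_iff_commutator_le_left.mp ((Subgroup.zpowers_le.2 haP).trans hPT₀)) ?_
      have h1 : ⁅⁅zpowers a, D⁆, T₀⁆ = ⊥ := by rw [commutator_comm (zpowers a), hDc, commutator_bot_left]
      have h2 : ⁅⁅D, T₀⁆, zpowers a⁆ = ⊥ := eq_bot_mono (commutator_mono (commutator_le.2 fun x hx b hb => by
        rw [commutatorElement_def, show x * b * x⁻¹ * b⁻¹ = x * (b * x⁻¹ * b⁻¹) by group]
        exact mul_mem hx (conj_mem_of_mem_normalizer ((le_normalizer.trans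
          (normalizer_le_normalizer_commutator T₀)) hb) (inv_mem hx))) le_rfl) hDc
      exact commutator_eq_bot_iff_le_centralizer.1
        (commutator_commutator_eq_bot_of_rotate (H₁ := T₀) (H₂ := zpowers a) (H₃ := D) h1 h2)
    by_cases hCT : C = T₀
    · exact fun x hx b hb t ht => (mem_centralizer_iff.1
        ((hCT.symm ▸ ht : t ∈ C).2) ⁅x, b⁆ (commutator_mem_commutator hx hb)).symm
    exfalso
    have h0 : ⁅⁅T₀, zpowers a⁆, zpowers a⁆ = ⊥ := commutator_eq_bot_iff_le_centralizer.2 fun r hr =>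
      mem_centralizer_iff.2 fun c hc => by
        obtain ⟨l, rfl⟩ := Subgroup.mem_zpowers_iff.1 hc
        exact (Commute.zpow_left (hmin C inf_le_left hPC hCT r (hle hr)) l).eq
    have hcop : (Nat.card (zpowers a)).Coprime (Nat.card T₀) := by
      obtain ⟨i, hi⟩ := IsPGroup.iff_card.1 hT₀
      obtain ⟨j, hj⟩ := IsPGroup.iff_card.1 (hP.to_le (Subgroup.zpowers_le.2 haP))
      rw [hi, hj]
      exact ((((Nat.coprime_primes hp.out Nat.prime_two).2 hp2).pow_left j).pow_right i)
    have hbot := Coprime.commutator_eq_bot_of_commutator_commutator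
      ((Subgroup.zpowers_le.2 haP).trans hPT₀) hcop
      (Or.inl (by open scoped IsMulCommutative in exact inferInstance)) h0
    obtain ⟨t, ht, hne⟩ := hmov
    exact hne (commutatorElement_eq_one_iff_mul_comm.1
      (mem_bot.1 (hbot ▸ commutator_mem_commutator ht (mem_zpowers a)))).symm
  obtain ⟨t₀, ht₀, hne⟩ := hmov
  apply hne
  by_cases hirr : ∀ W : Submodule K V, (∀ s ∈ T₀ ⊔ P, ∀ w ∈ W, ρ s w ∈ W) → W = ⊥ ∨ W = ⊤
  swap
  · push Not at hirr
    obtain ⟨W, hWS, hWb, hWt⟩ := hirr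
    set S := T₀ ⊔ P
    have hTS : T₀ ≤ S := le_sup_left
    have hPS : P ≤ S := le_sup_right
    set e := a * t₀ * a⁻¹ * t₀⁻¹ with he
    have heT : e ∈ T₀ := mul_mem (conj_mem_of_mem_normalizer (hPT₀ haP) ht₀) (inv_mem ht₀)
    have key : ∀ (W' : Type v) [AddCommGroup W'] [Module K W'] [FiniteDimensional K W']
        (σ : Representation K S W'), finrank K W' < finrank K V →
        Annihilates σ (P.subgroupOf S) k ⟨a, hPS haP⟩ → σ ⟨e, hTS heT⟩ = 1 := by
      intro W' _ _ _ σ hlt hσa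
      have h := ih _ hlt σ rfl (T := T₀.subgroupOf S) (P := P.subgroupOf S)
        (hT₀.of_equiv (subgroupOfEquivOfLe hTS).symm) (hP.of_equiv (subgroupOfEquivOfLe hPS).symm)
        (fun s hs => mem_normalizer_of_conj_mem fun g hg =>
          conj_mem_of_mem_normalizer (x := (s : G)) (Q := T₀) (g := (g : G)) (hPT₀ hs) hg)
        hk hσa ⟨t₀, hTS ht₀⟩ ht₀
      rw [show (⟨e, hTS heT⟩ : S) = (⟨a, hPS haP⟩ * ⟨t₀, hTS ht₀⟩) * (⟨t₀, hTS ht₀⟩ * ⟨a, hPS haP⟩)⁻¹ from
        Subtype.ext (by simp [he, mul_assoc]), map_mul, h, ← map_mul, mul_inv_cancel, map_one]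
    have hlt : finrank K (V ⧸ W) < finrank K V := by
      have h1 := W.finrank_quotient_add_finrank
      have : Nontrivial W := Submodule.nontrivial_iff_ne_bot.2 hWb
      have := Module.finrank_pos (R := K) (M := W)
      omega
    have h1 := key W (restrictRep ρ S W hWS) (Submodule.finrank_lt hWt) (ha.restrict hPS hWS (hPS haP))
    have h2 := key (V ⧸ W) (quotientRep ρ S W hWS) hlt (ha.quotient hPS hWS (hPS haP))
    obtain ⟨i, hi⟩ := IsPGroup.iff_orderOf.1 hT₀ ⟨e, heT⟩
    rw [orderOf_mk] at hi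
    have : ρ e = 1 := eq_one_of_unipotent (m := 2 ^ i) (by rw [← map_pow, ← hi, pow_orderOf_eq_one, map_one])
      (by rw [Nat.cast_pow]; exact pow_ne_zero _ (two_ne_zero_of_charP hp2))
      (fun w hw => congrArg Subtype.val (LinearMap.congr_fun h1 ⟨w, hw⟩))
      (fun v => (Submodule.Quotient.eq W).1 (LinearMap.congr_fun h2 (Submodule.Quotient.mk v)))
    exact mul_inv_eq_iff_eq_mul.1 (mul_inv_eq_one.1 (hinj (this.trans (map_one ρ).symm)))
  set Z := T₀ ⊓ centralizer (T₀ : Set G) with hZ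
  have hZc : ∀ x ∈ Z, ∀ t ∈ T₀, t * x = x * t := fun x hx t ht => mem_centralizer_iff.1 hx.2 t ht
  have hPZ : P ≤ normalizer (Z : Set G) := fun s hs => mem_normalizer_of_conj_mem fun b hb =>
    ⟨conj_mem_of_mem_normalizer (hPT₀ hs) hb.1, mem_centralizer_iff.2 fun t ht => by
      have := hZc b hb _ (inv_conj_mem_of_mem_normalizer (hPT₀ hs) ht)
      calc t * (s * b * s⁻¹) = s * ((s⁻¹ * t * s) * b) * s⁻¹ := by group
        _ = s * (b * (s⁻¹ * t * s)) * s⁻¹ := by rw [this]
        _ = _ := by group⟩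
  by_cases hscal : ∃ χ : G → K, charSpace ρ Z χ = ⊤
  · obtain ⟨χ, hχ⟩ := hscal
    exact commute_of_annihilates_scalar hp3 hinj hT₀ hP hPT₀ hk ha.1 hlow ha.deg_le_two ha.pow_eq_one hfix hcl
      (fun z hz hzc => ⟨χ z, LinearMap.ext fun v =>
        (hχ ▸ Submodule.mem_top : v ∈ charSpace ρ Z χ) z ⟨hz, mem_centralizer_iff.2 hzc⟩⟩) hmin hnab t₀ ht₀
  push Not at hscal
  set D := LinearMap.ker (ρ (a * t₀) - ρ (t₀ * a))
  set U := ⨆ χ : G → K, charSpace ρ Z χ
  have hU : U = ⊤ := by
    obtain ⟨v, χ, hv, hχ⟩ := exists_common_eigvec ρ Z fun x hx b hb => hZc b hb x hx.1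
    refine (hirr U fun s hs => ?_).resolve_left fun e => hv
      ((Submodule.mem_bot K).1 (e ▸ Submodule.mem_iSup_of_mem χ hχ))
    have hUle : ∀ s ∈ normalizer (Z : Set G), U.map (ρ s) ≤ U := by
      intro s hs
      rw [Submodule.map_iSup]
      refine iSup_le fun χ => ?_
      rintro _ ⟨w, hw, rfl⟩
      refine Submodule.mem_iSup_of_mem (fun z => χ (s⁻¹ * z * s)) fun z hz => ?_
      rw [← Module.End.mul_apply, ← map_mul, show z * s = s * (s⁻¹ * z * s) by group, map_mul,
        Module.End.mul_apply, hw _ (inv_conj_mem_of_mem_normalizer hs hz), map_smul]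
    have hTZ : T₀ ≤ normalizer (Z : Set G) := fun t ht => mem_normalizer_of_conj_mem fun b hb => by
      rwa [hZc b hb t ht, mul_inv_cancel_right]
    exact fun w hw => hUle s (sup_le hTZ hPZ hs) (Submodule.mem_map_of_mem hw)
  have hUD : U ≤ D := by
    refine iSup_le fun χ => ?_
    set W := charSpace ρ Z χ with hW
    by_cases hWb : W = ⊥
    · rw [hWb]; exact bot_le
    obtain ⟨w₀, hw₀, hw₀0⟩ := Submodule.exists_mem_ne_zero_of_ne_bot hWb
    set St := charStabilizer Z χ
    have haSt : a ∈ St := ⟨hPZ haP, fun z hz => by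
      rw [mul_assoc, ← hfix z hz.1 (hZc z hz), inv_mul_cancel_left]⟩
    have hTW : ∀ t ∈ T₀, ∀ w ∈ W, ρ t w ∈ W := fun t ht w hw z hz => by
      rw [← Module.End.mul_apply, ← map_mul, ← hZc z hz t ht, map_mul, Module.End.mul_apply, hw z hz, map_smul]
    -- a projection killing the other eigenspaces
    have : Fintype Z := Fintype.ofFinite _
    have hχm : ∀ z ∈ Z, ∀ z' ∈ Z, χ (z * z') = χ z * χ z' := fun z hz z' hz' => by
      refine smul_left_injective K hw₀0 ?_
      show χ (z * z') • w₀ = (χ z * χ z') • w₀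
      rw [← hw₀ _ (mul_mem hz hz'), map_mul, Module.End.mul_apply, hw₀ _ hz', map_smul, hw₀ _ hz, smul_smul,
        mul_comm]
    have hχ0 : ∀ z ∈ Z, χ z ≠ 0 := fun z hz e => hw₀0 (by
      rw [← rep_inv_apply_self ρ z w₀, hw₀ z hz, e, zero_smul, map_zero])
    set pr : Module.End K V := ∑ z : Z, (χ (z : G))⁻¹ • ρ (z : G) with hpr
    have hprW : ∀ w ∈ W, pr w = (Fintype.card Z : K) • w := fun w hw => by
      rw [hpr, LinearMap.sum_apply, Finset.sum_congr rfl fun (z : Z) _ => show ((χ (z : G))⁻¹ • ρ (z : G)) w = w by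
        rw [LinearMap.smul_apply, hw _ z.2, smul_smul, inv_mul_cancel₀ (hχ0 _ z.2), one_smul],
        Finset.sum_const, Finset.card_univ, Nat.cast_smul_eq_nsmul]
    have hcardZ : (Fintype.card Z : K) ≠ 0 := by
      obtain ⟨i, hi⟩ := IsPGroup.iff_card.1 (hT₀.to_le (inf_le_left : Z ≤ T₀))
      rw [Nat.card_eq_fintype_card] at hi
      rw [hi, Nat.cast_pow]
      exact pow_ne_zero _ (two_ne_zero_of_charP hp2)
    have hprE : ∀ z₀ ∈ Z, ∀ v, pr (ρ z₀ v) = χ z₀ • pr v := by
      intro z₀ hz₀ v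
      rw [hpr, LinearMap.sum_apply, LinearMap.sum_apply, Finset.smul_sum]
      refine Fintype.sum_equiv (Equiv.mulRight (⟨z₀, hz₀⟩ : Z)) _ _ fun z => ?_
      show (χ (z : G))⁻¹ • ρ (z : G) (ρ z₀ v) = χ z₀ • (χ ((z : G) * z₀))⁻¹ • ρ ((z : G) * z₀) v
      rw [hχm _ z.2 _ hz₀, smul_smul, map_mul, Module.End.mul_apply, mul_inv, mul_left_comm,
        mul_inv_cancel₀ (hχ0 _ hz₀), mul_one]
    have hprO : ∀ b ∈ normalizer (Z : Set G), b ∉ St → ∀ v ∈ W, pr (ρ b v) = 0 := by
      intro b hb hbs v hv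
      obtain ⟨z, hz, hzne⟩ : ∃ z ∈ Z, χ (b⁻¹ * z * b) ≠ χ z := by
        by_contra hc
        push Not at hc
        exact hbs ⟨hb, hc⟩
      have h1 := hprE z hz (ρ b v)
      rw [← Module.End.mul_apply (ρ z), ← map_mul, show z * b = b * (b⁻¹ * z * b) by group, map_mul,
        Module.End.mul_apply, hv _ (inv_conj_mem_of_mem_normalizer hb hz), map_smul, map_smul] at h1
      have h2 : (χ (b⁻¹ * z * b) - χ z) • pr (ρ b v) = 0 := by rw [sub_smul, h1, sub_self]
      exact (smul_eq_zero.1 h2).resolve_left (sub_ne_zero.2 hzne)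
    have hprG : ∀ g ∈ St, ∀ v, pr (ρ g v) = ρ g (pr v) := by
      intro g hg v
      rw [hpr, LinearMap.sum_apply, LinearMap.sum_apply, map_sum]
      let e : Z ≃ Z :=
        { toFun := fun z => ⟨g⁻¹ * z * g, inv_conj_mem_of_mem_normalizer hg.1 z.2⟩
          invFun := fun z => ⟨g * z * g⁻¹, conj_mem_of_mem_normalizer hg.1 z.2⟩
          left_inv := fun z => Subtype.ext (by group)
          right_inv := fun z => Subtype.ext (by group) }
      refine Fintype.sum_equiv e _ _ fun z => ?_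
      show (χ (z : G))⁻¹ • ρ (z : G) (ρ g v) = ρ g ((χ (g⁻¹ * (z : G) * g))⁻¹ • ρ (g⁻¹ * (z : G) * g) v)
      rw [hg.2 _ z.2, map_smul, ← Module.End.mul_apply, ← Module.End.mul_apply, ← map_mul, ← map_mul]
      group
    -- the first level inside the stabiliser
    set i := if h : ∃ l, l < k ∧ derivedIn P l ≤ St then Nat.find h else k with hi
    have hik : i ≤ k := by
      rw [hi]; split_ifs with h
      · exact (Nat.find_spec h).1.le
      · exact le_rfl
    have hbelow : ∀ l < i, ¬ derivedIn P l ≤ St := by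
      intro l hl hle
      rw [hi] at hl
      split_ifs at hl with h
      · exact Nat.find_min h hl ⟨by have := (Nat.find_spec h).1; omega, hle⟩
      · exact h ⟨l, hl, hle⟩
    obtain ⟨X, ε, B, hε, -, hB, hX, hXu⟩ := exists_chain_translate hp2 ρ hP St hbelow 0 (Nat.zero_le i)
    -- every vector of the eigenspace is reached
    have hreach : ∀ v ∈ W, ∃ r ∈ chain ρ P i, pr r = pr v := by
      intro v hv
      refine ⟨ε⁻¹ • X v, Submodule.smul_mem _ _ (hX v Submodule.mem_top), ?_⟩
      have h1 : pr (X v - ε • v) = 0 := by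
        have : Submodule.span K ((fun b => ρ b v) '' (B : Set G)) ≤ LinearMap.ker pr := by
          refine Submodule.span_le.2 ?_
          rintro _ ⟨b, hb, rfl⟩
          exact hprO b (hPZ (derivedIn_le P 0 (hB b hb).1)) (hB b hb).2 v hv
        exact this (hXu v)
      rw [map_sub, map_smul, sub_eq_zero] at h1
      rw [map_smul, h1, smul_smul, inv_mul_cancel₀ hε, one_smul]
    by_cases hlt : i < k
    · have hDSt : derivedIn P i ≤ St := by
        rw [hi] at hlt ⊢
        split_ifs at hlt ⊢ with h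
        · exact (Nat.find_spec h).2
        · omega
      set S := T₀ ⊔ derivedIn P i
      have hTS : T₀ ≤ S := le_sup_left
      have hDS : derivedIn P i ≤ S := le_sup_right
      have hWS : ∀ s ∈ S, ∀ w ∈ W, ρ s w ∈ W := fun s hs => (sup_le (fun t ht => hTW t ht)
        (fun q hq w hw => charSpace_map_mem (hDSt hq) hw) : S ≤ stabSubgroup ρ W) hs
      set σ := restrictRep ρ S W hWS
      have haD : a ∈ derivedIn P i := by
        have h1 : derivedIn P k ≤ derivedIn P i := by
          rw [← Nat.add_sub_cancel' hik, ← derivedIn_add]; exact derivedIn_le _ _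
        exact h1 ha.1
      have hreach' : ∀ j, ∀ v ∈ chain σ ((derivedIn P i).subgroupOf S) j,
          ∃ r ∈ chain ρ P (i + j), pr r = pr (v : V) := by
        intro j
        induction j with
        | zero => intro v _; exact hreach v v.2
        | succ j ihj =>
          intro v hv
          let Q : Submodule K W := ((chain ρ P (i + (j + 1))).map pr).comap (pr.comp W.subtype)
          have hle : chain σ ((derivedIn P i).subgroupOf S) (j + 1) ≤ Q := by
            refine iSup₂_le fun g hg => ?_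
            rintro _ ⟨x, hx, rfl⟩
            obtain ⟨r, hr, hrx⟩ := ihj x hx
            have hgD : (g : G) ∈ derivedIn P (i + j) := by
              rw [← derivedIn_add]
              have h1 := mem_map_of_mem S.subtype hg
              rwa [derivedIn_map, map_subgroupOf_eq_of_le hDS] at h1
            have hgSt : (g : G) ∈ St := hDSt (derivedIn_le _ j (derivedIn_add P i j ▸ hgD))
            refine ⟨(ρ (g : G) - 1) r, mem_chain_succ ρ P hgD hr, ?_⟩
            show pr ((ρ (g : G) - 1) r) = pr (((σ g - 1) x : W) : V)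
            rw [LinearMap.sub_apply, LinearMap.sub_apply, Module.End.one_apply, Module.End.one_apply,
              AddSubgroupClass.coe_sub, restrictRep_apply_coe, map_sub, map_sub, hprG _ hgSt, hprG _ hgSt, hrx]
          exact hle hv
      have hann : Annihilates σ ((derivedIn P i).subgroupOf S) (k - i) ⟨a, hDS haD⟩ := by
        refine ⟨mem_derivedIn_subgroupOf hDS (by rw [derivedIn_add, Nat.add_sub_cancel' hik]; exact ha.1),
          LinearMap.ext fun w => Subtype.ext ?_, fun v hv => Subtype.ext ?_⟩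
        · have := LinearMap.congr_fun ha.2.1 (w : V)
          simpa [σ, pow_two, restrictRep_apply_coe] using this
        · obtain ⟨r, hr, hrv⟩ := hreach' (k - i) v hv
          rw [Nat.add_sub_cancel' hik] at hr
          have h1 := congrArg pr (ha.2.2 r hr)
          rw [LinearMap.sub_apply, Module.End.one_apply, map_sub, hprG a haSt, hrv, map_zero,
            ← hprG a haSt, ← map_sub, hprW _ (Submodule.sub_mem _ (charSpace_map_mem haSt v.2) v.2),
            smul_eq_zero] at h1
          simpa [σ, restrictRep_apply_coe] using h1.resolve_left hcardZ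
      have := ih _ (Submodule.finrank_lt (hscal χ)) σ rfl (T := T₀.subgroupOf S)
        (P := (derivedIn P i).subgroupOf S) (hT₀.of_equiv (subgroupOfEquivOfLe hTS).symm)
        ((hP.to_le (derivedIn_le P i)).of_equiv (subgroupOfEquivOfLe hDS).symm)
        (fun s hs => mem_normalizer_of_conj_mem fun g hg =>
          conj_mem_of_mem_normalizer (x := (s : G)) (Q := T₀) (g := (g : G)) (hPT₀ (derivedIn_le P i hs)) hg)
        (by omega) hann ⟨t₀, hTS ht₀⟩ ht₀
      intro v hv
      rw [LinearMap.mem_ker, LinearMap.sub_apply, sub_eq_zero]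
      exact congrArg Subtype.val (LinearMap.congr_fun this ⟨v, hv⟩)
    · have hik' : i = k := le_antisymm hik (not_lt.1 hlt)
      rw [hik'] at hreach
      have hfixW : ∀ v ∈ W, ρ a v = v := by
        intro v hv
        obtain ⟨r, hr, hrv⟩ := hreach v hv
        have h1 := congrArg pr (ha.2.2 r hr)
        rw [LinearMap.sub_apply, Module.End.one_apply, map_sub, hprG a haSt, hrv, map_zero,
          ← hprG a haSt, ← map_sub, hprW _ (Submodule.sub_mem _ (charSpace_map_mem haSt hv) hv),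
          smul_eq_zero] at h1
        exact sub_eq_zero.1 (h1.resolve_left hcardZ)
      intro v hv
      rw [LinearMap.mem_ker, LinearMap.sub_apply, sub_eq_zero, map_mul, map_mul, Module.End.mul_apply,
        Module.End.mul_apply, hfixW _ (hTW t₀ ht₀ v hv), hfixW v hv]
  exact hinj (LinearMap.ext fun v => sub_eq_zero.1 (hUD (hU ▸ Submodule.mem_top : v ∈ U)))

end CfsgLib.HallHigman
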