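import Cfsg.Agent.Lib.HallHigman.TheoremB
import Cfsg.Agent.Lib.Coprime.Abelian
import Cfsg.Agent.Lib.Transfer.UniqueOrderP
import Mathlib.Algebra.Field.ZMod
import Mathlib.LinearAlgebra.FiniteDimensional.Basic

/-!
# Elements of a `p`-group moving little of a module over `F₂`

Used for the exceptional case of Hall and Higman's theorem: two such elements commute.
-/

set_option autoImplicit false

namespace CfsgLib.HallHigman

open Module Subgroup

universe w

/-- A power of exponent `p ^ m` moving a subspace of dimension less than `2 p ^ m (p - 1)`. -/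
def Small (p : ℕ) {H : Type w} [Group H] {S : Type w} [AddCommGroup S] [Module (ZMod 2) S]
    (ρ : Representation (ZMod 2) H S) (y : H) : Prop :=
  ∃ (z : H) (m : ℕ), y = z ^ p ^ m ∧
    finrank (ZMod 2) (LinearMap.range (ρ y - 1)) < 2 * (p ^ m * (p - 1))

variable {p : ℕ} [hp : Fact p.Prime] {H : Type w} [Group H] [Finite H] {S : Type w}
  [AddCommGroup S] [Module (ZMod 2) S] [FiniteDimensional (ZMod 2) S]

section

variable (ρ : Representation (ZMod 2) H S) {E : Subgroup H}

/-- The fixed space of an element. -/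
def fixedSpace (a : H) : Submodule (ZMod 2) S := LinearMap.ker (ρ a - 1)

omit [Finite H] [FiniteDimensional (ZMod 2) S] in
theorem mem_fixedSpace {a : H} {w : S} : w ∈ fixedSpace ρ a ↔ ρ a w = w := by
  rw [fixedSpace, LinearMap.mem_ker, LinearMap.sub_apply, Module.End.one_apply, sub_eq_zero]

omit [Finite H] [FiniteDimensional (ZMod 2) S] in
theorem mem_fixedSpace_of_mem_zpowers {a b : H} (hb : b ∈ zpowers a) {w : S}
    (hw : w ∈ fixedSpace ρ a) : ρ b w = w := by
  let M : Subgroup H :=
    { carrier := {g | ρ g w = w}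
      one_mem' := by simp
      mul_mem' := fun {a b} ha hb => by
        show ρ (a * b) w = w
        rw [map_mul, Module.End.mul_apply, show ρ b w = w from hb, show ρ a w = w from ha]
      inv_mem' := fun {a} ha => by
        show ρ a⁻¹ w = w
        conv_lhs => rw [← show ρ a w = w from ha]
        exact rep_inv_apply_self ρ a w }
  exact (Subgroup.zpowers_le.2 (show a ∈ M from (mem_fixedSpace ρ).1 hw)) hb

omit [Finite H] [FiniteDimensional (ZMod 2) S] in
theorem map_mem_fixedSpace_of_normalizes {a h : H} (hh : h ∈ normalizer (zpowers a : Set H)) {w : S}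
    (hw : w ∈ fixedSpace ρ a) : ρ h w ∈ fixedSpace ρ a := by
  rw [mem_fixedSpace, ← Module.End.mul_apply, ← map_mul,
    show a * h = h * (h⁻¹ * a * h) by group, map_mul, Module.End.mul_apply,
    mem_fixedSpace_of_mem_zpowers ρ (inv_conj_mem_of_mem_normalizer hh (mem_zpowers a)) hw]

omit [FiniteDimensional (ZMod 2) S] in
/-- The translates of a fixed space by powers outside the normaliser are independent. -/
theorem fixedSpace_translates [E.Normal] (hp2 : p ≠ 2) (hEc : IsMulCommutative E)
    (hEcard : Nat.card E = p ^ 2) (hEexp : ∀ e ∈ E, e ^ p = 1)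
    (hfix : ∀ w : S, (∀ e ∈ E, ρ e w = w) → w = 0) {a : H} (ha : a ∈ E) (ha1 : a ≠ 1) {z : H} {N : ℕ}
    (hz : ∀ i, 0 < i → i < N → z ^ i ∉ normalizer (zpowers a : Set H))
    (w : Fin N → fixedSpace ρ a) (hw : ∑ i : Fin N, (ρ z ^ (i : ℕ)) (w i : S) = 0) (i : Fin N) : w i = 0 := by
  classical
  set b : Fin N → H := fun i => z ^ (i : ℕ) * a * (z ^ (i : ℕ))⁻¹ with hb
  have hbE : ∀ i, b i ∈ E := fun i => Subgroup.Normal.conj_mem inferInstance a ha _
  have hb1 : ∀ i, b i ≠ 1 := fun i e => ha1 (conj_eq_one_iff.1 e)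
  set u : Fin N → S := fun i => (ρ z ^ (i : ℕ)) (w i : S) with hu
  have hbu : ∀ i, ρ (b i) (u i) = u i := fun i => by
    simp only [hu, hb, ← map_pow, ← Module.End.mul_apply, ← map_mul, inv_mul_cancel_right]
    rw [map_mul, Module.End.mul_apply, (mem_fixedSpace ρ).1 (w i).2]
  have hne : ∀ i j, i ≠ j → zpowers (b i) ≠ zpowers (b j) := by
    intro i j hij heq
    wlog hlt : (i : ℕ) < j generalizing i j
    · exact this j i hij.symm heq.symm
        (lt_of_le_of_ne (not_lt.1 hlt) fun e => hij (Fin.ext e.symm))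
    refine hz ((j : ℕ) - i) (by omega) (by omega) (mem_normalizer_iff_map_conj_eq.2 ?_)
    refine Subgroup.map_injective (f := (MulAut.conj (z ^ (i : ℕ))).toMonoidHom) (MulAut.conj (z ^ (i : ℕ))).injective ?_
    rw [Subgroup.map_map]
    simp only [MonoidHom.map_zpowers]
    convert heq.symm using 2
    · show z ^ (i : ℕ) * (z ^ ((j : ℕ) - i) * a * (z ^ ((j : ℕ) - i))⁻¹) * (z ^ (i : ℕ))⁻¹ = b j
      simp only [hb]
      conv_rhs => rw [← Nat.add_sub_cancel' hlt.le, pow_add]
      group
    · rfl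
  -- averaging over one line
  set proj : Fin N → Module.End (ZMod 2) S := fun i => ∑ l ∈ Finset.range p, ρ (b i) ^ l with hproj
  have hself : proj i (u i) = u i := by
    have h1 : ∀ l : ℕ, (ρ (b i) ^ l) (u i) = u i := fun l => by
      induction l with
      | zero => rfl
      | succ l ih => rw [pow_succ', Module.End.mul_apply, ih, hbu]
    rw [hproj, LinearMap.sum_apply, Finset.sum_congr rfl fun l _ => h1 l, Finset.sum_const,
      Finset.card_range, ← Nat.cast_smul_eq_nsmul (ZMod 2),
      (ZMod.natCast_eq_one_iff_odd).2 (hp.out.odd_of_ne_two hp2), one_smul]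
  have hother : ∀ j, j ≠ i → proj i (u j) = 0 := by
    intro j hj
    refine hfix _ ?_
    have hcomm : Commute (b i) (b j) :=
      congrArg Subtype.val (hEc.is_comm.comm (⟨b i, hbE i⟩ : E) ⟨b j, hbE j⟩)
    have h1 : ρ (b i) (proj i (u j)) = proj i (u j) := by
      have hg := mul_geom_sum (ρ (b i)) p
      rw [← map_pow, hEexp _ (hbE i), map_one, sub_self] at hg
      have := LinearMap.congr_fun hg (u j)
      rwa [Module.End.mul_apply, LinearMap.sub_apply, Module.End.one_apply, LinearMap.zero_apply,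
        sub_eq_zero] at this
    have h2 : ρ (b j) (proj i (u j)) = proj i (u j) := by
      rw [← Module.End.mul_apply,
        (Commute.sum_right (Finset.range p) _ _ fun l _ => (hcomm.symm.map ρ).pow_right l :
          Commute (ρ (b j)) (proj i)).eq, Module.End.mul_apply, hbu]
    let M : Subgroup H :=
      { carrier := {g | ρ g (proj i (u j)) = proj i (u j)}
        one_mem' := by simp
        mul_mem' := fun {a b} ha hb => by
          show ρ (a * b) _ = _
          rw [map_mul, Module.End.mul_apply, show ρ b _ = _ from hb, show ρ a _ = _ from ha]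
        inv_mem' := fun {a} ha => by
          show ρ a⁻¹ _ = _
          conv_lhs => rw [← show ρ a _ = _ from ha]
          exact rep_inv_apply_self ρ a _ }
    have hEM : zpowers (b i) ⊔ zpowers (b j) = E := by
      refine eq_of_le_of_card_ge (sup_le (Subgroup.zpowers_le.2 (hbE i)) (Subgroup.zpowers_le.2 (hbE j))) ?_
      have hlt : ∀ l, Nat.card (zpowers (b l)) = p := fun l => by
        rw [Nat.card_zpowers]; exact orderOf_eq_prime (hEexp _ (hbE l)) (hb1 l)
      obtain ⟨k, hk, hk'⟩ := (Nat.dvd_prime_pow hp.out).1 (hEcard ▸ Subgroup.card_dvd_of_le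
        (sup_le (Subgroup.zpowers_le.2 (hbE i)) (Subgroup.zpowers_le.2 (hbE j))))
      have hki : p ≤ Nat.card (zpowers (b i) ⊔ zpowers (b j) : Subgroup H) :=
        (hlt i).ge.trans (card_le_of_le le_sup_left)
      rw [hk'] at hki ⊢
      rw [hEcard]
      refine Nat.pow_le_pow_right hp.out.pos ?_
      by_contra hk2
      have hk1 : p ^ k ≤ p ^ 1 := Nat.pow_le_pow_right hp.out.pos (by omega)
      rw [pow_one] at hk1
      refine hne j i hj ((eq_of_le_of_card_ge le_sup_right ?_).trans
        (eq_of_le_of_card_ge le_sup_left ?_).symm)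
      · rw [hk', hlt j]; omega
      · rw [hk', hlt i]; omega
    exact fun e he => (hEM ▸ sup_le (Subgroup.zpowers_le.2 (show b i ∈ M from h1))
      (Subgroup.zpowers_le.2 (show b j ∈ M from h2)) : E ≤ M) he
  have h0 := congrArg (proj i) hw
  rw [map_zero, map_sum, Finset.sum_eq_single i (fun j _ hj => hother j hj) (by simp), hself] at h0
  refine Subtype.ext ?_
  have := congrArg (ρ (z ^ (i : ℕ))⁻¹) h0
  simp only [hu, ← map_pow, rep_inv_apply_self, map_zero] at this
  exact this

/-- An element moving little stabilises the fixed spaces of a normal elementary abelian subgroup of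
order `p ^ 2`, and moves little of each. -/
theorem Small.restrict [E.Normal] (hp2 : p ≠ 2) (hEc : IsMulCommutative E)
    (hEcard : Nat.card E = p ^ 2) (hEexp : ∀ e ∈ E, e ^ p = 1)
    (hfix : ∀ w : S, (∀ e ∈ E, ρ e w = w) → w = 0) {a : H} (ha : a ∈ E) (ha1 : a ≠ 1)
    (hW : fixedSpace ρ a ≠ ⊥) (hH : IsPGroup p H) {y : H} (hy : Small p ρ y) :
    ∃ hyN : y ∈ normalizer (zpowers a : Set H), Small p
      (restrictRep ρ (normalizer (zpowers a : Set H)) (fixedSpace ρ a)
        fun _ hh _ hw => map_mem_fixedSpace_of_normalizes ρ hh hw) ⟨y, hyN⟩ := by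
  classical
  obtain ⟨z, m, rfl, hlt⟩ := hy
  set W := fixedSpace ρ a with hWdef
  set N := normalizer (zpowers a : Set H) with hNdef
  obtain ⟨L, hL⟩ := hH z
  have hnot : ∀ c, (∀ k, k < c → z ^ p ^ k ∉ N) → ∀ i, 0 < i → i < p ^ c → z ^ i ∉ N := by
    intro c hc i hi hic hmem
    have hzP : z ^ p ^ (L + c) = 1 := by rw [pow_add, pow_mul, hL, one_pow]
    obtain ⟨k, -, hk, hkm⟩ := exists_pow_prime_mem_zpowers hp.out hzP hi
      (hic.trans_le (Nat.pow_le_pow_right hp.out.pos (by omega)))
    exact hc k ((Nat.pow_lt_pow_iff_right hp.out.one_lt).1 (hk.trans_lt hic))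
      (Subgroup.zpowers_le.2 hmem hkm)
  by_cases hex : ∃ c, c ≤ m ∧ z ^ p ^ c ∈ N
  · obtain ⟨hcm, hcN⟩ := Nat.find_spec hex
    set c := Nat.find hex with hc
    have hzi := hnot c fun k hk hkN => Nat.find_min hex hk ⟨by omega, hkN⟩
    have hy : (z ^ p ^ c) ^ p ^ (m - c) = z ^ p ^ m := by
      rw [← pow_mul, ← pow_add, Nat.add_sub_cancel' hcm]
    have hyN : z ^ p ^ m ∈ N := hy ▸ pow_mem hcN _
    refine ⟨hyN, ⟨z ^ p ^ c, hcN⟩, m - c, Subtype.ext hy.symm, ?_⟩
    set σ := restrictRep ρ N W fun _ hh _ hw => map_mem_fixedSpace_of_normalizes ρ hh hw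
    set R := LinearMap.range (σ ⟨z ^ p ^ m, hyN⟩ - 1)
    let Φ : (Fin (p ^ c) → R) →ₗ[ZMod 2] S :=
      ∑ i : Fin (p ^ c), (ρ z ^ (i : ℕ)).comp (W.subtype.comp (R.subtype.comp (LinearMap.proj i)))
    have hΦ : ∀ f, Φ f = ∑ i : Fin (p ^ c), (ρ z ^ (i : ℕ)) ((f i : W) : S) := fun f => by
      simp [Φ, LinearMap.sum_apply]
    have hinj : Function.Injective Φ := (injective_iff_map_eq_zero _).2 fun f hf => funext fun i =>
      Subtype.ext (fixedSpace_translates ρ hp2 hEc hEcard hEexp hfix ha ha1 hzi (fun i => (f i : W))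
        (hΦ f ▸ hf) i)
    have hrange : LinearMap.range Φ ≤ LinearMap.range (ρ (z ^ p ^ m) - 1) := by
      rintro _ ⟨f, rfl⟩
      rw [hΦ]
      refine Submodule.sum_mem _ fun i _ => ?_
      obtain ⟨w, hw⟩ := (f i).2
      refine ⟨(ρ z ^ (i : ℕ)) (w : S), ?_⟩
      rw [← hw]
      simp only [LinearMap.sub_apply, Module.End.one_apply, AddSubgroupClass.coe_sub, σ,
        restrictRep_apply_coe, map_sub]
      rw [← map_pow ρ z (i : ℕ), ← Module.End.mul_apply, ← Module.End.mul_apply, ← map_mul, ← map_mul,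
        ← pow_add, ← pow_add, add_comm]
    have h1 := (LinearMap.finrank_range_of_inj hinj).symm.trans_le (Submodule.finrank_mono hrange)
    rw [Module.finrank_pi_fintype, Finset.sum_const, Finset.card_univ, Fintype.card_fin, smul_eq_mul] at h1
    have h2 : p ^ c * finrank (ZMod 2) R < p ^ c * (2 * (p ^ (m - c) * (p - 1))) := by
      refine h1.trans_lt (hlt.trans_eq ?_)
      rw [← Nat.add_sub_cancel' hcm, pow_add, Nat.add_sub_cancel' hcm]
      ring
    exact Nat.lt_of_mul_lt_mul_left h2
  exfalso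
  push Not at hex
  have hzi := hnot (m + 1) fun k hk => hex k (by omega)
  have hq : p ^ (m + 1) = p ^ m + p ^ m * (p - 1) := by
    conv_lhs => rw [pow_succ, ← Nat.sub_add_cancel hp.out.one_lt.le, mul_add, mul_one]
    rw [Nat.sub_add_cancel hp.out.one_lt.le, add_comm]
  set q := p ^ m with hqdef
  set T := q * (p - 1)
  let Φ : (Fin T → W) →ₗ[ZMod 2] S :=
    ∑ i : Fin T, (ρ z ^ (i : ℕ)).comp (W.subtype.comp (LinearMap.proj i))
  have hΦ : ∀ f, Φ f = ∑ i : Fin T, (ρ z ^ (i : ℕ)) (f i : S) := fun f => by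
    simp [Φ, LinearMap.sum_apply]
  have hinj : Function.Injective ((ρ (z ^ q) - 1).comp Φ) := by
    refine (injective_iff_map_eq_zero _).2 fun f hf => ?_
    let g : ℕ → W := fun i => if h : i < T then f ⟨i, h⟩ else 0
    have hgf : ∀ i : Fin T, g i = f i := fun i => dif_pos i.2
    let h : ℕ → W := fun i => (if q ≤ i then g (i - q) else 0) - g i
    have hsum : ∑ i : Fin (q + T), (ρ z ^ (i : ℕ)) (h i : S) = 0 := by
      have hA : ∑ i : Fin T, (ρ z ^ (i : ℕ)) (f i : S)
          = ∑ i ∈ Finset.range (q + T), (ρ z ^ i) (g i : S) := by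
        rw [Finset.sum_range fun i => (ρ z ^ i) (g i : S), add_comm q T, Fin.sum_univ_add]
        rw [Finset.sum_eq_zero (s := Finset.univ) (f := fun i : Fin q => _) fun i _ => by
          simp [g]]
        simp [hgf]
      have hB : (ρ z ^ q) (∑ i : Fin T, (ρ z ^ (i : ℕ)) (f i : S))
          = ∑ i ∈ Finset.range (q + T), (ρ z ^ i) ((if q ≤ i then g (i - q) else 0 : W) : S) := by
        rw [Finset.sum_range fun i => (ρ z ^ i) ((if q ≤ i then g (i - q) else 0 : W) : S),
          Fin.sum_univ_add, map_sum]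
        rw [Finset.sum_eq_zero (s := Finset.univ) (f := fun i : Fin q => _) fun i _ => by
          simp [Nat.not_le.2 i.2]]
        simp [hgf, pow_add]
      have h0 : (ρ (z ^ q) - 1) (Φ f) = 0 := hf
      rw [LinearMap.sub_apply, Module.End.one_apply, map_pow, hΦ, hB, hA, ← Finset.sum_sub_distrib,
        Finset.sum_range] at h0
      rw [← h0]
      exact Finset.sum_congr rfl fun i _ => by simp [h, map_sub]
    have hzero := fixedSpace_translates ρ hp2 hEc hEcard hEexp hfix ha ha1
      (z := z) (N := q + T) (fun i hi hiN => hzi i hi (hq ▸ hiN)) (fun i => h i) hsum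
    have hg : ∀ i, i < T → g i = 0 := by
      intro i
      induction i using Nat.strong_induction_on with
      | _ i ih =>
        intro hi
        have h1 := hzero ⟨i, by omega⟩
        simp only [h] at h1
        by_cases hqi : q ≤ i
        · rw [if_pos hqi, ih (i - q) (by have := Nat.one_le_pow m p hp.out.pos; omega) (by omega),
            zero_sub, neg_eq_zero] at h1
          exact h1
        · rwa [if_neg hqi, zero_sub, neg_eq_zero] at h1
    exact funext fun i => by rw [← hgf]; exact hg i i.2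
  have h1 := (LinearMap.finrank_range_of_inj hinj).symm.trans_le
    (Submodule.finrank_mono (LinearMap.range_comp_le_range Φ (ρ (z ^ q) - 1)))
  rw [Module.finrank_pi_fintype, Finset.sum_const, Finset.card_univ, Fintype.card_fin, smul_eq_mul] at h1
  have hdim : 2 ≤ finrank (ZMod 2) W := by
    by_contra hlt2
    have : Nontrivial W := Submodule.nontrivial_iff_ne_bot.2 hW
    have hW1 : finrank (ZMod 2) W = 1 := by have := Module.finrank_pos (R := ZMod 2) (M := W); omega
    obtain ⟨v, hv⟩ := exists_ne (0 : W)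
    refine hv (Subtype.ext (hfix v fun e he => ?_))
    have hmem : ρ e v ∈ W := map_mem_fixedSpace_of_normalizes ρ (h := e) (mem_normalizer_of_conj_mem
      fun g hg => by
        have hcm : e * g = g * e := congrArg Subtype.val (hEc.is_comm.comm (⟨e, he⟩ : E)
          ⟨g, Subgroup.zpowers_le.2 ha hg⟩)
        rwa [hcm, mul_inv_cancel_right]) v.2
    obtain ⟨c, hc⟩ := (finrank_eq_one_iff_of_nonzero' v hv).1 hW1 ⟨_, hmem⟩
    have hc' : c • (v : S) = ρ e v := congrArg Subtype.val hc
    have : c = 0 ∨ c = 1 := (by decide : ∀ d : ZMod 2, d = 0 ∨ d = 1) c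
    rcases this with rfl | rfl
    · rw [zero_smul] at hc'
      refine absurd (Subtype.ext ?_) hv
      rw [← rep_inv_apply_self ρ e (v : S), ← hc', map_zero, Submodule.coe_zero]
    · rw [← hc', one_smul]
  have := Nat.mul_le_mul_left T hdim
  change finrank (ZMod 2) _ < 2 * T at hlt
  omega

end

/-- Two elements moving little commute on the module. -/
theorem commute_of_small (hp2 : p ≠ 2) :
    ∀ (d : ℕ) {H : Type w} [Group H] [Finite H] {S : Type w} [AddCommGroup S] [Module (ZMod 2) S]
      [FiniteDimensional (ZMod 2) S] (ρ : Representation (ZMod 2) H S), finrank (ZMod 2) S = d →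
      IsPGroup p H → ∀ {y y' : H}, Small p ρ y → Small p ρ y' → ρ (y * y') = ρ (y' * y) := by
  classical
  intro d
  induction d using Nat.strong_induction_on with
  | _ d ih =>
  intro H _ _ S _ _ _ ρ hd hH y y' hy hy'
  subst hd
  by_cases hS : Subsingleton S
  · exact LinearMap.ext fun v => Subsingleton.elim _ _
  rw [not_subsingleton_iff_nontrivial] at hS
  -- an invariant subspace reduces the dimension
  by_cases hirr : ∀ W : Submodule (ZMod 2) S, (∀ h, ∀ w ∈ W, ρ h w ∈ W) → W = ⊥ ∨ W = ⊤
  swap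
  · push Not at hirr
    obtain ⟨W, hW, hWb, hWt⟩ := hirr
    have hW' : ∀ s ∈ (⊤ : Subgroup H), ∀ w ∈ W, ρ s w ∈ W := fun s _ => hW s
    set c := y * y' * (y' * y)⁻¹ with hc
    have h1 : ∀ w ∈ W, ρ c w = w := by
      intro w hw
      set σ := restrictRep ρ ⊤ W hW'
      have hs : ∀ {x}, Small p ρ x → Small p σ ⟨x, mem_top x⟩ := by
        rintro x ⟨z, m, rfl, hlt⟩
        refine ⟨⟨z, mem_top z⟩, m, Subtype.ext (by simp), lt_of_le_of_lt ?_ hlt⟩
        refine le_trans (le_of_eq (Submodule.equivMapOfInjective _ W.subtype_injective _).finrank_eq)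
          (Submodule.finrank_mono ?_)
        rintro _ ⟨_, ⟨v, rfl⟩, rfl⟩
        exact ⟨v, by simp [σ, restrictRep_apply_coe]⟩
      have e := ih _ (Submodule.finrank_lt hWt) σ rfl (hH.to_subgroup ⊤) (hs hy) (hs hy')
      have e2 := congrArg Subtype.val (LinearMap.congr_fun e
        ⟨ρ (y' * y)⁻¹ w, hW _ w hw⟩)
      simp only [σ, restrictRep_apply_coe, Subgroup.coe_mul] at e2
      rwa [← Module.End.mul_apply, ← map_mul, ← hc, ← Module.End.mul_apply, ← map_mul,
        mul_inv_cancel, map_one, Module.End.one_apply] at e2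
    have h2 : ∀ v, ρ c v - v ∈ W := by
      intro v
      set σ := quotientRep ρ ⊤ W hW'
      have hs : ∀ {x}, Small p ρ x → Small p σ ⟨x, mem_top x⟩ := by
        rintro x ⟨z, m, rfl, hlt⟩
        refine ⟨⟨z, mem_top z⟩, m, Subtype.ext (by simp), lt_of_le_of_lt ?_ hlt⟩
        refine le_trans (Submodule.finrank_mono ?_) (Submodule.finrank_map_le W.mkQ _)
        rintro _ ⟨v, rfl⟩
        obtain ⟨v, rfl⟩ := W.mkQ_surjective v
        exact ⟨_, ⟨v, rfl⟩, by simp [σ, quotientRep]⟩
      have hlt : finrank (ZMod 2) (S ⧸ W) < finrank (ZMod 2) S := by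
        have h1 := W.finrank_quotient_add_finrank
        have : Nontrivial W := Submodule.nontrivial_iff_ne_bot.2 hWb
        have := Module.finrank_pos (R := ZMod 2) (M := W)
        omega
      have e := ih _ hlt σ rfl (hH.to_subgroup ⊤) (hs hy) (hs hy')
      have e2 := LinearMap.congr_fun e (Submodule.Quotient.mk (ρ (y' * y)⁻¹ v))
      simp only [σ, quotientRep] at e2
      change Submodule.Quotient.mk (ρ (y * y') (ρ (y' * y)⁻¹ v))
        = Submodule.Quotient.mk (ρ (y' * y) (ρ (y' * y)⁻¹ v)) at e2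
      rw [rep_self_apply_inv, ← Module.End.mul_apply, ← map_mul, ← hc] at e2
      exact (Submodule.Quotient.eq W).1 e2
    obtain ⟨k, hk⟩ := IsPGroup.iff_orderOf.1 hH c
    have hc1 : ρ c = 1 := eq_one_of_unipotent (m := p ^ k)
      (by rw [← map_pow, ← hk, pow_orderOf_eq_one, map_one])
      (by rw [Nat.cast_pow, (ZMod.natCast_eq_one_iff_odd).2 (hp.out.odd_of_ne_two hp2), one_pow]
          exact one_ne_zero) h1 h2
    calc ρ (y * y') = ρ c * ρ (y' * y) := by rw [← map_mul, hc, inv_mul_cancel_right]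
      _ = _ := by rw [hc1, one_mul]
  -- the image
  let π := QuotientGroup.mk' ρ.ker
  let σ : Representation (ZMod 2) (H ⧸ ρ.ker) S := QuotientGroup.lift ρ.ker ρ le_rfl
  have hσ : ∀ h, σ (π h) = ρ h := fun h => QuotientGroup.lift_mk' _ _ h
  have hinj : Function.Injective σ := by
    intro a b hab
    obtain ⟨a, rfl⟩ := QuotientGroup.mk'_surjective ρ.ker a
    obtain ⟨b, rfl⟩ := QuotientGroup.mk'_surjective ρ.ker b
    rw [hσ, hσ] at hab
    exact QuotientGroup.eq.2 (MonoidHom.mem_ker.2 (by
      rw [map_mul, ← hab, ← map_mul, inv_mul_cancel, map_one]))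
  have hH' : IsPGroup p (H ⧸ ρ.ker) := hH.to_quotient _
  have hsmall : ∀ {x}, Small p ρ x → Small p σ (π x) := by
    rintro x ⟨z, m, rfl, hlt⟩
    exact ⟨π z, m, map_pow π _ _, by rwa [hσ]⟩
  rw [← hσ, ← hσ, map_mul π, map_mul π]
  have hirr' : ∀ W : Submodule (ZMod 2) S, (∀ h, ∀ w ∈ W, σ h w ∈ W) → W = ⊥ ∨ W = ⊤ :=
    fun W hW => hirr W fun h w hw => hσ h ▸ hW (π h) w hw
  replace hy := hsmall hy
  replace hy' := hsmall hy'
  generalize π y = a₁ at hy ⊢
  generalize π y' = a₂ at hy' ⊢
  clear hsmall hirr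
  by_cases hcyc : IsCyclic (H ⧸ ρ.ker)
  · open scoped IsMulCommutative in exact congrArg σ (mul_comm a₁ a₂)
  obtain ⟨E, hEn, hEc, hEexp, hEcard⟩ := Transfer.exists_normal_elementary_sq hp2 hH' hcyc
  have hfix : ∀ w : S, (∀ e ∈ E, σ e w = w) → w = 0 := by
    intro w hw
    let W : Submodule (ZMod 2) S :=
      { carrier := {w | ∀ e ∈ E, σ e w = w}
        zero_mem' := fun e _ => map_zero _
        add_mem' := fun {u v} hu hv e he => by rw [map_add, hu e he, hv e he]
        smul_mem' := fun c u hu e he => by rw [map_smul, hu e he] }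
    rcases hirr' W (fun h v hv e he => by
      rw [← Module.End.mul_apply, ← map_mul, show e * h = h * (h⁻¹ * e * h) by group, map_mul,
        Module.End.mul_apply, hv _ (by simpa using hEn.conj_mem e he h⁻¹)]) with h | h
    · exact (Submodule.mem_bot (ZMod 2)).1 (h ▸ (show w ∈ W from hw))
    · exfalso
      have hE1 : E = ⊥ := (Subgroup.eq_bot_iff_forall _).2 fun e he => hinj (LinearMap.ext fun v => by
        rw [map_one, Module.End.one_apply]
        exact (show v ∈ W from h ▸ Submodule.mem_top) e he)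
      rw [hE1, Subgroup.card_bot] at hEcard
      exact (Nat.one_lt_pow two_ne_zero hp.out.one_lt).ne hEcard
  -- some element of `E` fixes a vector
  obtain ⟨a, ha, ha1, hW⟩ : ∃ a ∈ E, a ≠ 1 ∧ fixedSpace σ a ≠ ⊥ := by
    have : Finite S := Module.finite_of_finite (ZMod 2)
    have hEnc : ¬ IsCyclic E := fun h => by
      obtain ⟨g, hg⟩ := h.exists_generator
      have h1 : orderOf g = p ^ 2 := (orderOf_eq_card_of_forall_mem_zpowers hg).trans hEcard
      have h2 : orderOf g ∣ p := orderOf_dvd_of_pow_eq_one (Subtype.ext (hEexp g g.2))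
      rw [h1] at h2
      nlinarith [Nat.le_of_dvd hp.out.pos h2, hp.out.one_lt]
    have hcop : (Nat.card E).Coprime (Nat.card (Multiplicative S)) := by
      rw [hEcard, show Nat.card (Multiplicative S) = Nat.card S from rfl,
        Module.natCard_eq_pow_finrank (K := ZMod 2), Nat.card_zmod]
      exact (((Nat.coprime_primes hp.out Nat.prime_two).2 hp2).pow_left 2).pow_right _
    have : Nontrivial (Multiplicative S) := inferInstanceAs (Nontrivial S)
    let φ : E →* MulAut (Multiplicative S) :=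
      { toFun := fun e =>
          { toFun := fun v => Multiplicative.ofAdd (σ e v.toAdd)
            invFun := fun v => Multiplicative.ofAdd (σ (e : H ⧸ ρ.ker)⁻¹ v.toAdd)
            left_inv := fun v => by simp [← Module.End.mul_apply, ← map_mul]
            right_inv := fun v => by simp [← Module.End.mul_apply, ← map_mul]
            map_mul' := fun u v => by simp }
        map_one' := by ext v; simp
        map_mul' := fun e f => by ext v; simp }
    open scoped IsMulCommutative in
    obtain ⟨a, ha1, u, hu1, hu⟩ := Coprime.exists_ne_one_fixed_of_not_isCyclic φ hcop hEnc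
    refine ⟨a, a.2, fun e => ha1 (Subtype.ext e), (Submodule.ne_bot_iff _).2
      ⟨u.toAdd, (mem_fixedSpace σ).2 (congrArg Multiplicative.toAdd hu), fun e => hu1 ?_⟩⟩
    rw [← ofAdd_toAdd u, e, ofAdd_zero]
  set D := LinearMap.ker (σ (a₁ * a₂) - σ (a₂ * a₁)) with hD
  let A : Set (H ⧸ ρ.ker) := {b | b ∈ E ∧ b ≠ 1}
  set U := ⨆ b ∈ A, fixedSpace σ b with hU
  have hUtop : U = ⊤ := by
    refine (hirr' U fun h w hw => ?_).resolve_left fun e => hW (le_bot_iff.1
      (e ▸ le_iSup₂_of_le (f := fun b (_ : b ∈ A) => fixedSpace σ b) a ⟨ha, ha1⟩ le_rfl))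
    refine (?_ : U.map (σ h) ≤ U) (Submodule.mem_map_of_mem hw)
    rw [hU, Submodule.map_iSup]
    refine iSup_le fun b => ?_
    rw [Submodule.map_iSup]
    refine iSup_le fun hb => le_iSup₂_of_le (h * b * h⁻¹)
      ⟨hEn.conj_mem b hb.1 h, fun e => hb.2 (conj_eq_one_iff.1 e)⟩ ?_
    rintro _ ⟨v, hv, rfl⟩
    rw [mem_fixedSpace, ← Module.End.mul_apply, ← map_mul, inv_mul_cancel_right, map_mul,
      Module.End.mul_apply, (mem_fixedSpace σ).1 hv]
  have hUD : U ≤ D := by
    refine iSup₂_le fun b hb => ?_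
    by_cases hWb : fixedSpace σ b = ⊥
    · rw [hWb]; exact bot_le
    have hWt : fixedSpace σ b ≠ ⊤ := fun e => hb.2 (hinj (LinearMap.ext fun v => by
      rw [map_one, Module.End.one_apply]
      exact (mem_fixedSpace σ).1 (e ▸ Submodule.mem_top)))
    obtain ⟨h1, hs1⟩ := Small.restrict σ hp2 hEc hEcard hEexp hfix hb.1 hb.2 hWb hH' hy
    obtain ⟨h2, hs2⟩ := Small.restrict σ hp2 hEc hEcard hEexp hfix hb.1 hb.2 hWb hH' hy'
    have e := ih _ (Submodule.finrank_lt hWt) _ rfl (hH'.to_subgroup _) hs1 hs2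
    intro v hv
    have e2 := congrArg Subtype.val (LinearMap.congr_fun e ⟨v, hv⟩)
    rw [hD, LinearMap.mem_ker, LinearMap.sub_apply, sub_eq_zero]
    simpa only [restrictRep_apply_coe, Subgroup.coe_mul] using e2
  exact LinearMap.ext fun v => sub_eq_zero.1 (hUD (hUtop ▸ Submodule.mem_top : v ∈ U))

end CfsgLib.HallHigman
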